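import Mathlib
import Cfsg.Agent.Lib.Blocks.PGroupSum
import Cfsg.Agent.Lib.Blocks.Block
import Cfsg.Agent.Lib.Characters.Inner
import Cfsg.Agent.BlockCharsA.PairPrincipal

/-!
# The principal block in the permutation module on the square roots of one

For an elementary abelian Sylow 2-subgroup `P` whose normaliser moves `P \ {1}` cyclically, an
element of the commutant of the permutation module on `{h : h * h = 1}` reduces on the fixed
points of `P` to a companion matrix.  Hence the multiplicities of the characters of the principal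
block in that module add up to at least `|P|`.
-/

set_option autoImplicit false
set_option linter.style.haveILetI false
set_option linter.unusedSectionVars false

namespace Cfsg.Agent.Blocks.FreeTwo

open Cfsg.Agent.Blocks Cfsg.Agent.Characters Matrix Polynomial
open Cfsg.Agent.BlockCharsA.PairPrincipal
open scoped ComplexConjugate

universe u

variable {G : Type u} [Group G]

/-- The elements of square one. -/
abbrev Sq (G : Type u) [Group G] : Type u := {h : G // h * h = 1}

/-- Conjugation on the elements of square one. -/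
def cjS (g : G) (h : Sq G) : Sq G :=
  ⟨g * h.1 * g⁻¹, by rw [show g * h.1 * g⁻¹ * (g * h.1 * g⁻¹) = g * (h.1 * h.1) * g⁻¹ by group,
    h.2, mul_one, mul_inv_cancel]⟩

@[simp] theorem coe_cjS (g : G) (h : Sq G) : (cjS g h : G) = g * h.1 * g⁻¹ := rfl

theorem cjS_one (h : Sq G) : cjS 1 h = h := Subtype.ext (by simp)

theorem cjS_mul (g g' : G) (h : Sq G) : cjS (g * g') h = cjS g (cjS g' h) :=
  Subtype.ext (by simp [mul_assoc])

/-- Conjugation as a permutation. -/
def cjEquiv (g : G) : Sq G ≃ Sq G where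
  toFun := cjS g
  invFun := cjS g⁻¹
  left_inv h := by rw [← cjS_mul, inv_mul_cancel, cjS_one]
  right_inv h := by rw [← cjS_mul, mul_inv_cancel, cjS_one]

/-- The number of fixed points of conjugation on the elements of square one. -/
noncomputable def sqFix (g : G) : ℕ := Nat.card {h : G // h * h = 1 ∧ g * h = h * g}

variable [Fintype G] [DecidableEq G]

/-- The permutation matrix. -/
def permS (R : Type*) [Zero R] [One R] (g : G) : Matrix (Sq G) (Sq G) R :=
  Matrix.of fun t s => if t = cjS g s then 1 else 0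

theorem permS_mulVec {R : Type*} [CommRing R] (g : G) (w : Sq G → R) (t : Sq G) :
    (permS R g *ᵥ w) t = w (cjS g⁻¹ t) := by
  simp only [Matrix.mulVec, dotProduct, permS, Matrix.of_apply, ite_mul, one_mul, zero_mul]
  rw [Finset.sum_eq_single (cjS g⁻¹ t)]
  · rw [if_pos (by rw [← cjS_mul, mul_inv_cancel, cjS_one])]
  · intro b _ hb
    rw [if_neg]
    intro h
    exact hb (by rw [h, ← cjS_mul, inv_mul_cancel, cjS_one])
  · simp

/-- The permutation representation. -/
noncomputable def permRep : Representation ℂ G (Sq G → ℂ) where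
  toFun g := Matrix.toLin' (permS ℂ g)
  map_one' := LinearMap.ext fun w => funext fun t => by
    rw [Matrix.toLin'_apply, permS_mulVec, inv_one, cjS_one]; rfl
  map_mul' g g' := LinearMap.ext fun w => funext fun t => by
    show (Matrix.toLin' (permS ℂ (g * g')) w) t =
      (Matrix.toLin' (permS ℂ g) (Matrix.toLin' (permS ℂ g') w)) t
    rw [Matrix.toLin'_apply, Matrix.toLin'_apply, Matrix.toLin'_apply, permS_mulVec, permS_mulVec,
      permS_mulVec, _root_.mul_inv_rev, cjS_mul]

theorem permRep_apply (g : G) (w : Sq G → ℂ) (t : Sq G) :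
    permRep g w t = w (cjS g⁻¹ t) := by
  rw [permRep]
  exact (congrFun (Matrix.toLin'_apply _ w) t).trans (permS_mulVec g w t)

theorem permRep_character (g : G) : (permRep (G := G)).character g = (sqFix g : ℂ) := by
  rw [Representation.character, show (permRep (G := G)) g = Matrix.toLin' (permS ℂ g) from rfl]
  rw [Matrix.trace_toLin'_eq, Matrix.trace]
  simp only [Matrix.diag, permS, Matrix.of_apply]
  rw [Finset.sum_boole, sqFix, Nat.card_eq_fintype_card, Fintype.card_subtype]
  congr 1
  refine Finset.card_bij (fun h _ => h.1) ?_ (fun a _ b _ e => Subtype.ext e) ?_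
  · intro h hh
    simp only [Finset.mem_filter, Finset.mem_univ, true_and] at hh ⊢
    have := congrArg Subtype.val hh
    exact ⟨h.2, (eq_mul_inv_iff_mul_eq.1 this).symm⟩
  · intro h hh
    simp only [Finset.mem_filter, Finset.mem_univ, true_and] at hh
    exact ⟨⟨h, hh.1⟩, by
      simp only [Finset.mem_filter, Finset.mem_univ, true_and]
      exact Subtype.ext (eq_mul_inv_iff_mul_eq.2 hh.2.symm), rfl⟩

/-- Invariance of a matrix under conjugation. -/
def InvMat {R : Type*} (A : Matrix (Sq G) (Sq G) R) : Prop :=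
  ∀ (g : G) t s, A (cjS g t) (cjS g s) = A t s

/-- The matrix of a group algebra element. -/
noncomputable def elMat {R : Type*} [CommSemiring R] (z : G → R) : Matrix (Sq G) (Sq G) R :=
  Matrix.of fun t s => ∑ g : G, if t = cjS g s then z g else 0

theorem elMat_map {R S : Type*} [CommSemiring R] [CommSemiring S] (φ : R →+* S) (z : G → R) :
    (elMat z).map φ = elMat (φ ∘ z) := by
  ext t s
  simp only [elMat, Matrix.map_apply, Matrix.of_apply, map_sum, apply_ite φ, map_zero,
    Function.comp_apply]

theorem invMat_elMat {R : Type*} [CommSemiring R] {z : G → R}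
    (hz : ∀ g h : G, z (h * g * h⁻¹) = z g) : InvMat (elMat z) := by
  intro h t s
  simp only [elMat, Matrix.of_apply]
  symm
  refine Fintype.sum_equiv (MulAut.conj h).toEquiv _ _ fun g => ?_
  rw [show (MulAut.conj h).toEquiv g = h * g * h⁻¹ from rfl, hz]
  refine if_congr ⟨fun e => ?_, fun e => ?_⟩ rfl rfl
  · rw [e, ← cjS_mul, ← cjS_mul]; group
  · have := congrArg (cjS h⁻¹) e
    rwa [← cjS_mul, inv_mul_cancel, cjS_one, ← cjS_mul, ← cjS_mul,
      show h⁻¹ * (h * g * h⁻¹) * h = g by group] at this

theorem elMat_mulVec (z : G → ℂ) (w : Sq G → ℂ) :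
    elMat z *ᵥ w = ∑ g : G, z g • permRep g w := by
  funext t
  rw [Finset.sum_apply]
  simp only [Pi.smul_apply, smul_eq_mul, permRep_apply, Matrix.mulVec, dotProduct, elMat,
    Matrix.of_apply, Finset.sum_mul]
  rw [Finset.sum_comm]
  refine Finset.sum_congr rfl fun g _ => ?_
  rw [Finset.sum_eq_single (cjS g⁻¹ t)]
  · rw [if_pos (by rw [← cjS_mul, mul_inv_cancel, cjS_one])]
  · intro b _ hb
    rw [if_neg, zero_mul]
    intro h
    exact hb (by rw [h, ← cjS_mul, inv_mul_cancel, cjS_one])
  · simp

theorem mulVec_permRep {A : Matrix (Sq G) (Sq G) ℂ} (hA : InvMat A) (g : G) (w : Sq G → ℂ) :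
    A *ᵥ (permRep g w) = permRep g (A *ᵥ w) := by
  funext t
  rw [permRep_apply]
  simp only [Matrix.mulVec, dotProduct, permRep_apply]
  refine Fintype.sum_equiv (cjEquiv g⁻¹) _ _ fun s => ?_
  rw [show cjEquiv g⁻¹ s = cjS g⁻¹ s from rfl, hA g⁻¹ t s]

/-- A polynomial in an invariant matrix killing the part of one character, of degree its
multiplicity. -/
theorem exists_poly_char {A : Matrix (Sq G) (Sq G) ℂ} (hA : InvMat A) {n : ℕ}
    (τ : Representation ℂ G (Fin n → ℂ)) :
    ∃ f : ℂ[X], f.Monic ∧
      (f.natDegree : ℂ) = Cfsg.classInner (fun g : G => (sqFix g : ℂ)) τ.character ∧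
      ∀ w : Sq G → ℂ, aeval A f *ᵥ (elMat (fun g : G => τ.character g⁻¹) *ᵥ w) = 0 := by
  classical
  let H := Representation.IntertwiningMap τ (permRep (G := G))
  haveI : FiniteDimensional ℂ H :=
    FiniteDimensional.of_injective
      ({ toFun := fun φ => φ.toLinearMap, map_add' := fun _ _ => rfl,
         map_smul' := fun _ _ => rfl } : H →ₗ[ℂ] ((Fin n → ℂ) →ₗ[ℂ] (Sq G → ℂ)))
      (fun _ _ h => Representation.IntertwiningMap.ext h)
  let T : H →ₗ[ℂ] H :=
    { toFun := fun φ => LinearMap.intertwiningMap_of_isIntertwiningMap τ permRep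
        (Matrix.toLin' A ∘ₗ φ.toLinearMap) (fun g v => by
          simp only [LinearMap.comp_apply, Matrix.toLin'_apply]
          rw [Representation.IntertwiningMap.toLinearMap_apply, φ.isIntertwining, mulVec_permRep hA]
          rfl)
      map_add' := fun φ ψ => Representation.IntertwiningMap.ext (LinearMap.ext fun v => by
        show A *ᵥ (φ v + ψ v) = A *ᵥ φ v + A *ᵥ ψ v
        rw [Matrix.mulVec_add])
      map_smul' := fun c φ => Representation.IntertwiningMap.ext (LinearMap.ext fun v => by
        show A *ᵥ (c • φ v) = c • (A *ᵥ φ v)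
        rw [Matrix.mulVec_smul]) }
  refine ⟨T.charpoly, LinearMap.charpoly_monic T, ?_, fun w => ?_⟩
  · rw [LinearMap.charpoly_natDegree]
    have h := classInner_character τ (permRep (G := G))
    rw [← h]
    congr 1
    exact funext fun g => permRep_character g
  have hpow : ∀ (k : ℕ) (φ : H) (v : Fin n → ℂ), (A ^ k) *ᵥ φ v = (T ^ k) φ v := by
    intro k
    induction k with
    | zero => intro φ v; simp
    | succ k ih =>
      intro φ v
      rw [pow_succ, pow_succ, Module.End.mul_apply, ← ih, ← Matrix.mulVec_mulVec]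
      rfl
  have hpoly : ∀ (f : ℂ[X]) (φ : H) (v : Fin n → ℂ), aeval A f *ᵥ φ v = (aeval T f) φ v := by
    intro f
    induction f using Polynomial.induction_on' with
    | add p q hp hq =>
      intro φ v
      rw [map_add, map_add, Matrix.add_mulVec, hp, hq]
      rfl
    | monomial k c =>
      intro φ v
      rw [aeval_monomial, aeval_monomial, Algebra.algebraMap_eq_smul_one, smul_one_mul,
        Algebra.algebraMap_eq_smul_one, smul_one_mul, Matrix.smul_mulVec, hpow]
      rfl
  have hker : ∀ (φ : H) (v : Fin n → ℂ), aeval A T.charpoly *ᵥ φ v = 0 := by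
    intro φ v
    rw [hpoly, LinearMap.aeval_self_charpoly]
    rfl
  let φ : Fin n → H := fun i => LinearMap.intertwiningMap_of_isIntertwiningMap τ permRep
    { toFun := fun v => ∑ g : G, (τ g⁻¹ v i) • permRep g w
      map_add' := fun v v' => by
        simp only [map_add, Pi.add_apply, add_smul, Finset.sum_add_distrib]
      map_smul' := fun c v => by
        simp only [map_smul, Pi.smul_apply, smul_eq_mul, ← smul_smul, Finset.smul_sum,
          RingHom.id_apply] }
    (fun h v => by
      show ∑ g : G, (τ g⁻¹ (τ h v) i) • permRep g w =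
        permRep h (∑ g : G, (τ g⁻¹ v i) • permRep g w)
      rw [map_sum]
      refine Fintype.sum_equiv (Equiv.mulLeft h⁻¹) _ _ fun g => ?_
      rw [Equiv.coe_mulLeft, map_smul, ← Module.End.mul_apply (permRep h), ← map_mul,
        mul_inv_cancel_left, _root_.mul_inv_rev, inv_inv, map_mul]
      rfl)
  have hsum : elMat (fun g : G => τ.character g⁻¹) *ᵥ w = ∑ i, φ i (Pi.single i 1) := by
    rw [elMat_mulVec]
    show _ = ∑ i, ∑ g : G, (τ g⁻¹ (Pi.single i 1) i) • permRep g w
    rw [Finset.sum_comm]
    refine Finset.sum_congr rfl fun g _ => ?_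
    rw [← Finset.sum_smul]
    congr 1
    show LinearMap.trace ℂ (Fin n → ℂ) (τ g⁻¹) = _
    rw [LinearMap.trace_eq_matrix_trace ℂ (Pi.basisFun ℂ (Fin n)), Matrix.trace]
    refine Finset.sum_congr rfl fun i _ => ?_
    rw [Matrix.diag_apply, LinearMap.toMatrix_apply, Pi.basisFun_repr, Pi.basisFun_apply]
  rw [hsum, Matrix.mulVec_sum]
  exact Finset.sum_eq_zero fun i _ => hker _ _

/-- A polynomial in an invariant matrix killing the part of a set of characters. -/
theorem exists_poly_set [Fintype (Cfsg.IrrCharacter G)] {A : Matrix (Sq G) (Sq G) ℂ}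
    (hA : InvMat A) (B : Set (Cfsg.IrrCharacter G)) [DecidablePred (· ∈ B)]
    (m : Cfsg.IrrCharacter G → ℕ)
    (hm : ∀ χ, (m χ : ℂ) = Cfsg.classInner (fun g : G => (sqFix g : ℂ)) (χ : G → ℂ)) :
    ∃ f : ℂ[X], f.Monic ∧ f.natDegree ≤ ∑ χ ∈ Finset.univ.filter (· ∈ B), m χ ∧
      aeval A f * elMat (fun g : G => Cfsg.blockCoeff B g) = 0 := by
  classical
  have hex : ∀ χ : Cfsg.IrrCharacter G, ∃ f : ℂ[X], f.Monic ∧ f.natDegree = m χ ∧
      ∀ w : Sq G → ℂ, aeval A f *ᵥ (elMat (fun g : G => (χ : G → ℂ) g⁻¹) *ᵥ w) = 0 := by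
    intro χ
    obtain ⟨n, τ, -, hτ⟩ := χ.2
    obtain ⟨f, hf, hd, hk⟩ := exists_poly_char hA τ
    refine ⟨f, hf, ?_, fun w => by rw [← hτ]; exact hk w⟩
    rw [hτ, ← hm] at hd
    exact_mod_cast hd
  choose f hf hd hk using hex
  refine ⟨∏ χ ∈ Finset.univ.filter (· ∈ B), f χ, monic_prod_of_monic _ _ fun χ _ => hf χ, ?_, ?_⟩
  · exact (natDegree_prod_le _ _).trans (Finset.sum_le_sum fun χ _ => (hd χ).le)
  rw [← Matrix.toLin'.injective.eq_iff, map_zero]
  refine LinearMap.ext fun w => ?_
  rw [Matrix.toLin'_apply, ← Matrix.mulVec_mulVec, LinearMap.zero_apply]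
  have hE : elMat (fun g : G => Cfsg.blockCoeff B g) *ᵥ w =
      ∑ χ ∈ Finset.univ.filter (· ∈ B), ((Nat.card G : ℂ)⁻¹ * (χ : G → ℂ) 1) •
        (elMat (fun g : G => (χ : G → ℂ) g⁻¹) *ᵥ w) := by
    simp only [elMat_mulVec, Finset.smul_sum, smul_smul]
    rw [Finset.sum_comm]
    refine Finset.sum_congr rfl fun g _ => ?_
    rw [blockCoeff_eq_sum, ← Finset.sum_smul, Finset.mul_sum, Finset.sum_filter]
    congr 1
    refine Finset.sum_congr rfl fun χ _ => ?_
    by_cases hχ : χ ∈ B
    swap
    · rw [if_neg hχ, if_neg hχ, mul_zero]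
    rw [if_pos hχ, if_pos hχ]
    rw [char_inv (irr_isCharacter χ)]
    ring
  rw [hE, Matrix.mulVec_sum]
  refine Finset.sum_eq_zero fun χ hχ => ?_
  rw [Matrix.mulVec_smul, ← Finset.prod_erase_mul _ f hχ, map_mul, ← Matrix.mulVec_mulVec, hk,
    Matrix.mulVec_zero, smul_zero]

end Cfsg.Agent.Blocks.FreeTwo
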