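import Mathlib
import Cfsg.Agent.Lib.Blocks.FreeTwo.Bound

/-!
# Reduction modulo two on the fixed points of a Sylow subgroup

The integral minimal polynomial of the commutant element reduces to an annihilator of the
companion matrix on the fixed points.
-/

set_option autoImplicit false
set_option linter.style.haveILetI false
set_option linter.unusedSectionVars false

namespace Cfsg.Agent.Blocks.FreeTwo

open Cfsg.Agent.Blocks Cfsg.Agent.Characters Matrix Polynomial
open Cfsg.Agent.BlockCharsA.PairPrincipal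

universe u

variable {G : Type u} [Group G]

/-- Burnside's fusion lemma for two elements of an abelian Sylow subgroup. -/
theorem exists_normalizer_pair [Finite G] {p : ℕ} [Fact p.Prime] (P : Sylow p G)
    (hab : ∀ x ∈ (P : Subgroup G), ∀ y ∈ (P : Subgroup G), x * y = y * x) {g a b : G}
    (ha : a ∈ P) (hb : b ∈ P) (hga : g * a * g⁻¹ ∈ P) (hgb : g * b * g⁻¹ ∈ P) :
    ∃ x ∈ Subgroup.normalizer ((P : Subgroup G) : Set G),
      x * a * x⁻¹ = g * a * g⁻¹ ∧ x * b * x⁻¹ = g * b * g⁻¹ := by
  classical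
  set C := Subgroup.centralizer ({g * a * g⁻¹, g * b * g⁻¹} : Set G) with hC
  have hPC : (P : Subgroup G) ≤ C := fun x hx => by
    rw [hC, Subgroup.mem_centralizer_iff]
    rintro y (rfl | rfl)
    · exact hab _ hga x hx
    · exact hab _ hgb x hx
  have hgPC : ((g • P : Sylow p G) : Subgroup G) ≤ C := by
    intro x hx
    rw [Sylow.coe_subgroup_smul, Subgroup.mem_pointwise_smul_iff_inv_smul_mem] at hx
    have hx' : g⁻¹ * x * g ∈ (P : Subgroup G) := by simpa [MulAut.smul_def] using hx
    rw [hC, Subgroup.mem_centralizer_iff]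
    have key : ∀ c ∈ (P : Subgroup G), g * c * g⁻¹ * x = x * (g * c * g⁻¹) := fun c hc => by
      have h := hab c hc _ hx'
      calc g * c * g⁻¹ * x = g * (c * (g⁻¹ * x * g)) * g⁻¹ := by group
        _ = g * ((g⁻¹ * x * g) * c) * g⁻¹ := by rw [h]
        _ = x * (g * c * g⁻¹) := by group
    rintro y (rfl | rfl)
    · exact key a ha
    · exact key b hb
  obtain ⟨c, hc⟩ := MulAction.exists_smul_eq C ((g • P : Sylow p G).subtype hgPC)
    (P.subtype hPC)
  simp_rw [Sylow.smul_subtype, Subgroup.smul_def, smul_smul] at hc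
  have hN : (c : G) * g ∈ Subgroup.normalizer ((P : Subgroup G) : Set G) :=
    Sylow.smul_eq_iff_mem_normalizer.1 (Sylow.subtype_injective hc)
  have hcc := Subgroup.mem_centralizer_iff.1 c.2
  refine ⟨c * g, hN, ?_, ?_⟩
  · rw [show (c : G) * g * a * ((c : G) * g)⁻¹ = c * (g * a * g⁻¹) * (c : G)⁻¹ by group,
      ← hcc _ (Or.inl rfl), mul_inv_cancel_right]
  · rw [show (c : G) * g * b * ((c : G) * g)⁻¹ = c * (g * b * g⁻¹) * (c : G)⁻¹ by group,
      ← hcc _ (Or.inr rfl), mul_inv_cancel_right]

/-- A 2-element of square one commuting with a Sylow subgroup lies in it. -/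
theorem mem_of_fixed [Finite G] (P : Sylow 2 G) {h : G} (h2 : h * h = 1)
    (hc : ∀ u ∈ (P : Subgroup G), u * h = h * u) : h ∈ P := by
  haveI : Fact (Nat.Prime 2) := ⟨Nat.prime_two⟩
  have hN : h ∈ Subgroup.normalizer ((P : Subgroup G) : Set G) :=
    Subgroup.centralizer_le_normalizer _ (Subgroup.mem_centralizer_iff.2 hc)
  have hp : IsPGroup 2 (Subgroup.zpowers h) := by
    obtain ⟨k, -, hk⟩ := (Nat.dvd_prime_pow Nat.prime_two).1
      (show orderOf h ∣ 2 ^ 1 from orderOf_dvd_of_pow_eq_one (by rw [pow_one, pow_two]; exact h2))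
    exact IsPGroup.of_card (n := k) (by rw [Nat.card_zpowers, hk])
  have hsup : IsPGroup 2 (Subgroup.zpowers h ⊔ (P : Subgroup G) : Subgroup G) :=
    hp.to_sup_of_normal_right' P.2 (Subgroup.zpowers_le.2 hN)
  exact (P.3 hsup le_sup_right).le (Subgroup.mem_sup_left (Subgroup.mem_zpowers h))

variable [Fintype G] [DecidableEq G]

/-- The relation defining the element of the commutant. -/
def StepRel {P : Subgroup G} (s : ℕ → P) (t u : Sq G) : Prop :=
  ∃ (g : G) (n : ℕ), (t : G) = g * (s (n + 1) : G) * g⁻¹ ∧ (u : G) = g * (s n : G) * g⁻¹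

open scoped Classical in
/-- The element of the commutant. -/
noncomputable def stepMat (R : Type*) [Zero R] [One R] {P : Subgroup G} (s : ℕ → P) :
    Matrix (Sq G) (Sq G) R :=
  Matrix.of fun t u => if StepRel s t u then 1 else 0

theorem stepMat_map {R S : Type*} [Semiring R] [Semiring S] (φ : R →+* S) {P : Subgroup G}
    (s : ℕ → P) : (stepMat R s).map φ = stepMat S s := by
  ext t u
  simp [stepMat, apply_ite φ]

theorem invMat_stepMat (R : Type*) [Zero R] [One R] {P : Subgroup G} (s : ℕ → P) :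
    InvMat (stepMat R s) := by
  intro g t u
  classical
  simp only [stepMat, Matrix.of_apply]
  refine if_congr ⟨?_, ?_⟩ rfl rfl
  · rintro ⟨x, n, h1, h2⟩
    refine ⟨g⁻¹ * x, n, ?_, ?_⟩
    · rw [show (t : G) = g⁻¹ * (cjS g t : G) * g by simp [mul_assoc], h1]; group
    · rw [show (u : G) = g⁻¹ * (cjS g u : G) * g by simp [mul_assoc], h2]; group
  · rintro ⟨x, n, h1, h2⟩
    exact ⟨g * x, n, by rw [coe_cjS, h1]; group, by rw [coe_cjS, h2]; group⟩

theorem invMat_mul {R : Type*} [CommSemiring R] {A B : Matrix (Sq G) (Sq G) R} (hA : InvMat A)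
    (hB : InvMat B) : InvMat (A * B) := by
  intro g t u
  rw [Matrix.mul_apply, Matrix.mul_apply]
  refine (Fintype.sum_equiv (cjEquiv g) _ _ fun w => ?_).symm
  show _ = A (cjS g t) (cjS g w) * B (cjS g w) (cjS g u)
  rw [hA, hB]

theorem invMat_one {R : Type*} [CommSemiring R] :
    InvMat (1 : Matrix (Sq G) (Sq G) R) := by
  intro g t u
  rw [Matrix.one_apply, Matrix.one_apply]
  exact if_congr (cjEquiv g).injective.eq_iff rfl rfl

variable {M : Ideal Cfsg.AlgInt}

/-- The elements of square one of a Sylow subgroup. -/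
abbrev Om (P : Sylow 2 G) : Type u := {v : (P : Subgroup G) // v * v = 1}

/-- The points fixed by `P`, in the permutation basis. -/
def pt (P : Sylow 2 G) (v : Om P) : Sq G :=
  ⟨(v.1 : G), congrArg Subtype.val v.2⟩

theorem pt_injective (P : Sylow 2 G) : Function.Injective (pt P) := fun _ _ h =>
  Subtype.ext (Subtype.ext (congrArg (fun z : Sq G => z.1) h))

section Res

variable {k : Type} [CommRing k] [CharP k 2] (P : Sylow 2 G)

theorem sum_fixed {X : Type u} [Fintype X] [MulAction (P : Subgroup G) X] (f : X → k)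
    (hf : ∀ (u : (P : Subgroup G)) x, f (u • x) = f x) (t : Finset X)
    (ht : ∀ x, x ∈ t ↔ ∀ u : (P : Subgroup G), u • x = x) : ∑ x, f x = ∑ x ∈ t, f x := by
  haveI : Fact (Nat.Prime 2) := ⟨Nat.prime_two⟩
  obtain ⟨a, ha⟩ := exists_sum_eq_fixed_add P.2 f hf t ht
  rw [ha, nsmul_eq_mul, show ((2 : ℕ) : k) = 0 from CharP.cast_eq_zero k 2, zero_mul, add_zero]

/-- Restriction to the fixed points is multiplicative on invariant matrices. -/
theorem res_mul [Fintype (Om P)] (hab : ∀ x ∈ (P : Subgroup G), ∀ y ∈ (P : Subgroup G), x * y = y * x)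
    {A B : Matrix (Sq G) (Sq G) k} (hA : InvMat A) (hB : InvMat B) :
    (A * B).submatrix (pt P) (pt P) =
      A.submatrix (pt P) (pt P) * B.submatrix (pt P) (pt P) := by
  classical
  ext v w
  simp only [Matrix.submatrix_apply, Matrix.mul_apply]
  letI : MulAction (P : Subgroup G) (Sq G) :=
    { smul := fun u h => cjS (u : G) h
      one_smul := fun h => cjS_one h
      mul_smul := fun a b h => cjS_mul (a : G) b h }
  have hfix : ∀ (u : (P : Subgroup G)) (v : Om P), cjS (u : G) (pt P v) =
      pt P v := fun u v => Subtype.ext (by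
    show (u : G) * (v.1 : G) * (u : G)⁻¹ = v.1
    rw [hab u u.2 v.1 v.1.2, mul_inv_cancel_right])
  rw [sum_fixed P (fun x => A (pt P v) x * B x (pt P w)) (fun u x => ?_)
    (Finset.univ.image (pt P)) (fun x => ?_)]
  · exact Finset.sum_image (f := fun x => A (pt P v) x * B x (pt P w))
      fun (a : Om P) _ b _ h => pt_injective P h
  · show A _ (cjS (u : G) x) * B (cjS (u : G) x) _ = _
    conv_lhs => rw [← hfix u v, ← hfix u w, hA, hB]
  · simp only [Finset.mem_image, Finset.mem_univ, true_and]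
    constructor
    · rintro ⟨v, rfl⟩ u
      exact hfix u v
    · intro hx
      refine ⟨⟨⟨x.1, mem_of_fixed P x.2 fun u hu => ?_⟩, Subtype.ext x.2⟩, rfl⟩
      have h : u * x.1 * u⁻¹ = x.1 := congrArg Subtype.val (hx ⟨u, hu⟩)
      exact mul_inv_eq_iff_eq_mul.1 h

theorem res_one [DecidableEq (Om P)] :
    (1 : Matrix (Sq G) (Sq G) k).submatrix (pt P) (pt P) = 1 :=
  Matrix.submatrix_one _ (pt_injective P)

theorem res_aeval [Fintype (Om P)] [DecidableEq (Om P)]
    (hab : ∀ x ∈ (P : Subgroup G), ∀ y ∈ (P : Subgroup G), x * y = y * x)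
    {A : Matrix (Sq G) (Sq G) k} (hA : InvMat A) (f : k[X]) :
    InvMat (aeval A f) ∧ (aeval A f).submatrix (pt P) (pt P) =
      aeval (A.submatrix (pt P) (pt P)) f := by
  have hpow : ∀ n : ℕ, InvMat (A ^ n) ∧ (A ^ n).submatrix (pt P) (pt P) =
      (A.submatrix (pt P) (pt P)) ^ n := by
    intro n
    induction n with
    | zero => exact ⟨by rw [pow_zero]; exact invMat_one, by rw [pow_zero, pow_zero, res_one]⟩
    | succ n ih =>
      refine ⟨by rw [pow_succ]; exact invMat_mul ih.1 hA, ?_⟩
      rw [pow_succ, pow_succ, res_mul P hab ih.1 hA, ih.2]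
  induction f using Polynomial.induction_on' with
  | add p q hp hq =>
    rw [map_add, map_add]
    refine ⟨fun g t u => ?_, ?_⟩
    · rw [Matrix.add_apply, Matrix.add_apply, hp.1, hq.1]
    · rw [Matrix.submatrix_add, Pi.add_apply, Pi.add_apply, hp.2, hq.2]
  | monomial n c =>
    rw [aeval_monomial, aeval_monomial, Algebra.algebraMap_eq_smul_one, smul_one_mul,
      Algebra.algebraMap_eq_smul_one, smul_one_mul]
    refine ⟨fun g t u => ?_, ?_⟩
    · rw [Matrix.smul_apply, Matrix.smul_apply, (hpow n).1]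
    · rw [← (hpow n).2]; rfl

end Res

/-- No polynomial of small degree kills the companion matrix. -/
theorem card_le_natDegree {R : Type*} [CommRing R] [Nontrivial R] {ι : Type*} [Fintype ι]
    [DecidableEq ι] {N : ℕ} (hN : 0 < N) (o : ι) (s : ℕ → ι) (hso : ∀ n, s n ≠ o)
    (hper : ∀ n, s (n + N) = s n) (hinj : Set.InjOn s (Set.Iio N))
    {A : Matrix ι ι R} (hAo : ∀ i, A i o = 0)
    (hAs : ∀ n i, A i (s n) = if i = s (n + 1) then 1 else 0)
    {f : R[X]} (hf : f.Monic) (h0 : aeval A f = 0) : N + 1 ≤ f.natDegree := by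
  by_contra hlt
  have hpow : ∀ (d i : ℕ) (j : ι), (A ^ d) j (s i) = if j = s (i + d) then 1 else 0 := by
    intro d
    induction d with
    | zero => intro i j; rw [pow_zero, Matrix.one_apply, add_zero]
    | succ d ih =>
      intro i j
      rw [pow_succ, Matrix.mul_apply, Finset.sum_eq_single (s (i + 1)), hAs, if_pos rfl, mul_one,
        ih, show i + 1 + d = i + (d + 1) by omega]
      · intro b _ hb
        rw [hAs, if_neg hb, mul_zero]
      · simp
  have hexp : ∀ i j : ι, (aeval A f) i j =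
      ∑ d ∈ Finset.range (f.natDegree + 1), f.coeff d * (A ^ d) i j := by
    intro i j
    rw [aeval_eq_sum_range, Matrix.sum_apply]
    exact Finset.sum_congr rfl fun d _ => by rw [Matrix.smul_apply, smul_eq_mul]
  have hc0 : f.coeff 0 = 0 := by
    have h := hexp o o
    rw [h0, Matrix.zero_apply, Finset.sum_range_succ', Finset.sum_eq_zero fun d _ => ?_,
      zero_add, pow_zero, Matrix.one_apply_eq, mul_one] at h
    · exact h.symm
    · rw [pow_succ, Matrix.mul_apply, Finset.sum_eq_zero fun b _ => by rw [hAo, mul_zero],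
        mul_zero]
  set j := f.natDegree with hj
  have h := hexp (s j) (s 0)
  rw [h0, Matrix.zero_apply, Finset.sum_eq_single j] at h
  · rw [hpow, zero_add, if_pos rfl, mul_one, ← hj.symm, hf.coeff_natDegree] at h
    exact zero_ne_one h
  · intro d hd hdj
    rw [Finset.mem_range] at hd
    rcases Nat.eq_zero_or_pos d with rfl | hd0
    · rw [hc0, zero_mul]
    rw [hpow, zero_add, if_neg, mul_zero]
    intro e
    rcases Nat.lt_or_ge j N with hjN | hjN
    · exact hdj (hinj (by simp; omega) (by simp; omega) e).symm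
    · have hjN' : j = 0 + N := by omega
      rw [hjN', hper] at e
      have := hinj (by simp; omega) (by simp; omega) e
      omega
  · intro h
    exact absurd (Finset.mem_range.2 (by omega)) h

/-- The multiplicities of the principal block in the module on square roots of one. -/
theorem card_le_sum_mult_omega [Fintype (Cfsg.IrrCharacter G)] (hM : Cfsg.IsPModular 2 M)
    (P : Sylow 2 G) (hab : ∀ x ∈ (P : Subgroup G), ∀ y ∈ (P : Subgroup G), x * y = y * x)
    {N : ℕ} (hN0 : 0 < N)
    (s : ℕ → (P : Subgroup G)) (hs2 : ∀ n, s n * s n = 1) (hs1 : ∀ n, s n ≠ 1)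
    (hper : ∀ n, s (n + N) = s n) (hinj : Set.InjOn s (Set.Iio N))
    (hequiv : ∀ x ∈ Subgroup.normalizer ((P : Subgroup G) : Set G),
      ∃ i : ℕ, ∀ n, x * (s n : G) * x⁻¹ = (s (n + i) : G))
    [DecidablePred (· ∈ Cfsg.principalBlock M G)] (m : Cfsg.IrrCharacter G → ℕ)
    (hm : ∀ χ, (m χ : ℂ) = Cfsg.classInner (fun g : G => (sqFix g : ℂ)) (χ : G → ℂ)) :
    N + 1 ≤ ∑ χ ∈ Finset.univ.filter (· ∈ Cfsg.principalBlock M G), m χ := by
  classical
  haveI := fact_prime_of_pm hM
  haveI : Fintype (P : Subgroup G) := Fintype.ofFinite _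
  set B := Cfsg.principalBlock M G with hB
  have hB' : Cfsg.IsPBlock M B := isPBlock_principal M G
  set aC : Matrix (Sq G) (Sq G) ℂ := stepMat ℂ s with haC
  obtain ⟨f, hf, hfd, hfk⟩ := exists_poly_set (invMat_stepMat ℂ s) B m hm
  -- the monic generator
  let S : Ideal ℂ[X] :=
    { carrier := {f | aeval aC f * elMat (fun g : G => Cfsg.blockCoeff B g) = 0}
      zero_mem' := by simp
      add_mem' := fun {a b} ha hb => by
        simp only [Set.mem_ofPred_eq, map_add, add_mul] at ha hb ⊢
        rw [ha, hb, add_zero]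
      smul_mem' := fun c a ha => by
        simp only [Set.mem_ofPred_eq, smul_eq_mul, map_mul, mul_assoc] at ha ⊢
        rw [ha, mul_zero] }
  have hchar : aC.charpoly ∈ S := by
    show aeval aC aC.charpoly * _ = 0
    rw [Matrix.aeval_self_charpoly, zero_mul]
  have hfS : f ∈ S := hfk
  set d := normalize (Submodule.IsPrincipal.generator S) with hd
  have hdS : d ∈ S := by
    rw [hd, normalize_apply]
    exact S.mul_mem_right _ (Submodule.IsPrincipal.generator_mem S)
  have hdvd : ∀ g ∈ S, d ∣ g := fun g hg =>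
    normalize_dvd_iff.2 ((Submodule.IsPrincipal.mem_iff_generator_dvd S).1 hg)
  have hd0 : d ≠ 0 := fun e => hf.ne_zero (zero_dvd_iff.1 (e ▸ hdvd f hfS))
  have hdm : d.Monic := by
    rw [hd]
    exact Polynomial.monic_normalize fun e => hd0 (by rw [hd, e, normalize_zero])
  have hdeg : d.natDegree ≤ ∑ χ ∈ Finset.univ.filter (· ∈ B), m χ :=
    (natDegree_le_of_dvd (hdvd f hfS) hf.ne_zero).trans hfd
  -- integrality
  have hlift : d ∈ Polynomial.lifts (algebraMap Cfsg.AlgInt ℂ) := by
    refine integralClosure.mem_lifts_of_monic_of_dvd_map ℂ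
      (Matrix.charpoly_monic (stepMat ℤ s)) hdm ?_
    rw [← Matrix.charpoly_map, stepMat_map]
    exact hdvd _ hchar
  obtain ⟨dI, hdI, hdIdeg, hdIm⟩ := Polynomial.lifts_and_degree_eq_and_monic hlift hdm
  -- the denominators
  choose az bz hbz hz using fun g : G => show Cfsg.MemLocalRing M (Cfsg.blockCoeff B g) from
    coeff_blockIdem B g ▸ intEl_blockIdem hM hB' g
  set b : Cfsg.AlgInt := ∏ g, bz g with hbdef
  have hb : b ∉ M := fun h => by
    obtain ⟨g, -, hg⟩ := (isPrime_of_pm hM).prod_mem_iff.1 h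
    exact hbz g hg
  set z' : G → Cfsg.AlgInt := fun g => az g * ∏ g' ∈ Finset.univ.erase g, bz g' with hz'
  have hz'' : ∀ g, (z' g : ℂ) = (b : ℂ) * Cfsg.blockCoeff B g := fun g => by
    rw [← hz g, hbdef, ← Finset.mul_prod_erase _ bz (Finset.mem_univ g)]
    have := algInt_coe_ne_zero (hbz g)
    simp only [z']
    push_cast
    field_simp
  have hclass : ∀ g h : G, Cfsg.blockCoeff B (h * g * h⁻¹) = Cfsg.blockCoeff B g := fun g h => by
    simpa using central_blockIdem B g h
  have hinj' : Function.Injective (algebraMap Cfsg.AlgInt ℂ) := fun a b h => Subtype.ext h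
  have hz'inv : ∀ g h : G, z' (h * g * h⁻¹) = z' g := fun g h => Subtype.ext (by
    rw [hz'', hz'', hclass])
  have hI : aeval (stepMat Cfsg.AlgInt s) dI * elMat z' = 0 := by
    apply Matrix.map_injective hinj'
    beta_reduce
    rw [Matrix.map_mul, elMat_map, Matrix.map_zero _ (map_zero _)]
    have h1 : (aeval (stepMat Cfsg.AlgInt s) dI).map (algebraMap Cfsg.AlgInt ℂ) =
        aeval aC d := by
      rw [← RingHom.mapMatrix_apply, ← hdI, aeval_def, aeval_def, hom_eval₂, eval₂_map,
        RingHom.mapMatrix_apply, stepMat_map, ← haC]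
      congr 1
      refine RingHom.ext fun c => ?_
      ext i j
      by_cases hij : i = j <;> simp [Matrix.algebraMap_matrix_apply, hij]
    rw [h1]
    have h2 : elMat ((algebraMap Cfsg.AlgInt ℂ) ∘ z') =
        (b : ℂ) • elMat (fun g : G => Cfsg.blockCoeff B g) := by
      ext t u
      simp only [elMat, Matrix.of_apply, Matrix.smul_apply, smul_eq_mul, Finset.mul_sum,
        Function.comp_apply, mul_ite, mul_zero]
      exact Finset.sum_congr rfl fun g _ => if_congr Iff.rfl (hz'' g) rfl
    rw [h2, Matrix.mul_smul, show aeval aC d * _ = 0 from hdS, smul_zero]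
  -- residues
  haveI := isMaximal_of_pm hM
  letI : Field (Cfsg.AlgInt ⧸ M) := Ideal.Quotient.field M
  set π := Ideal.Quotient.mk M with hπ
  haveI : CharP (Cfsg.AlgInt ⧸ M) 2 := by
    refine CharTwo.of_one_ne_zero_of_two_eq_zero one_ne_zero ?_
    rw [← map_ofNat π 2]
    exact Ideal.Quotient.eq_zero_iff_mem.2 (by exact_mod_cast hM.2.2)
  have hk := congrArg (fun A => (A.map π : Matrix (Sq G) (Sq G) (Cfsg.AlgInt ⧸ M))) hI
  simp only [Matrix.map_mul, elMat_map, Matrix.map_zero _ (map_zero π)] at hk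
  have h3 : (aeval (stepMat Cfsg.AlgInt s) dI).map π =
      aeval (stepMat (Cfsg.AlgInt ⧸ M) s) (dI.map π) := by
    rw [← RingHom.mapMatrix_apply, aeval_def, aeval_def, hom_eval₂, eval₂_map,
      RingHom.mapMatrix_apply, stepMat_map]
    congr 1
    refine RingHom.ext fun c => ?_
    ext i j
    by_cases hij : i = j <;> simp [Matrix.algebraMap_matrix_apply, hij]
  rw [h3] at hk
  set A := (stepMat (Cfsg.AlgInt ⧸ M) s).submatrix (pt P) (pt P) with hA
  have hEinv : InvMat (elMat (π ∘ z')) := invMat_elMat fun g h => congrArg π (hz'inv g h)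
  have hres := res_aeval P hab (invMat_stepMat (Cfsg.AlgInt ⧸ M) s) (dI.map π)
  have hE1 : (elMat (π ∘ z')).submatrix (pt P) (pt P) = π b • 1 := by
    ext v w
    rw [Matrix.submatrix_apply, Matrix.smul_apply, Matrix.one_apply, smul_eq_mul]
    simp only [elMat, Matrix.of_apply, Function.comp_apply]
    letI : MulAction (P : Subgroup G) G := conjActionOn (P : Subgroup G)
    rw [sum_fixed P (fun g => if pt P v = cjS g (pt P w) then π (z' g) else 0)
      (fun u g => ?_) (Finset.univ.filter fun g => g ∈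
        Subgroup.centralizer ((P : Subgroup G) : Set G))
      (fun g => by simp only [Finset.mem_filter, Finset.mem_univ, true_and, ← conj_fixed_iff]; rfl)]
    · have hcw : ∀ g ∈ Subgroup.centralizer ((P : Subgroup G) : Set G),
          (pt P v = cjS g (pt P w) ↔ v = w) := fun g hg => by
        have e : cjS g (pt P w) = pt P w := Subtype.ext (by
          show g * (w.1 : G) * g⁻¹ = w.1
          rw [← hg w.1 w.1.2, mul_inv_cancel_right])
        rw [e]
        exact ⟨fun h => pt_injective P h, fun h => h ▸ rfl⟩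
      rw [Finset.sum_congr rfl fun g hg =>
        if_congr (hcw g (Finset.mem_filter.1 hg).2) rfl rfl]
      split_ifs with hvw
      · rw [mul_one, ← map_sum]
        refine (Ideal.Quotient.eq.2 ?_).trans rfl
        refine (ideal_coe_iff hM _).1 ?_
        push_cast
        rw [Finset.sum_congr rfl fun g _ => hz'' g, ← Finset.mul_sum, ← mul_sub_one]
        refine ideal_mul_left hM (ring_coe hM b) ?_
        have h1 := omega_blockIdem_mem (trivIrr_mem_principal (G := G) hM)
        rw [omega_trivIrr] at h1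
        haveI := Fintype.ofFinite (⊤ : Subgroup G)
        haveI := Fintype.ofFinite (Subgroup.centralizer ((P : Subgroup G) : Set G))
        have h := cong_sum_centralizer hM (K := ⊤) P.2 (fun x _ => Subgroup.le_normalizer trivial)
          (fun x _ => trivial) (fun g => (blockIdem B).coeff g)
          (fun g _ => intEl_blockIdem hM hB' g) (fun u _ g _ => central_blockIdem _ g u)
        rw [show ∑ k : (⊤ : Subgroup G), (blockIdem B).coeff (k : G) = 1 by
          rw [← h1]; exact Fintype.sum_equiv Subgroup.topEquiv.toEquiv _ _ fun _ => rfl] at h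
        have h' := cong_symm hM h
        unfold Cong at h'
        rw [Finset.sum_subtype (F := ‹Fintype (Subgroup.centralizer ((P : Subgroup G) : Set G))›) _
          (fun g => by simp) (fun g => Cfsg.blockCoeff B g)]
        simpa using h'
      · rw [mul_zero, Finset.sum_const_zero]
    · show (if pt P v = cjS ((u : G) * g * (u : G)⁻¹) (pt P w) then _ else _) = _
      refine if_congr ?_ (congrArg π (hz'inv g u)) rfl
      have e : ∀ y : Om P, cjS (u : G) (pt P y) = pt P y := fun y =>
        Subtype.ext (by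
          show (u : G) * (y.1 : G) * (u : G)⁻¹ = y.1
          rw [hab u u.2 y.1 y.1.2, mul_inv_cancel_right])
      have e' : cjS (u : G)⁻¹ (pt P w) = pt P w := by
        conv_lhs => rw [← e w]
        rw [← cjS_mul, inv_mul_cancel, cjS_one]
      rw [cjS_mul, cjS_mul, e']
      conv_lhs => rw [← e v]
      exact (cjEquiv (u : G)).injective.eq_iff
  have hk2 := congrArg (fun A => Matrix.submatrix A (pt P) (pt P)) hk
  simp only [res_mul P hab hres.1 hEinv, hres.2, hE1, Matrix.submatrix_zero,
    Pi.zero_apply, Matrix.mul_smul, mul_one] at hk2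
  rw [smul_eq_zero] at hk2
  have hk3 := hk2.resolve_left fun e => hb (Ideal.Quotient.eq_zero_iff_mem.1 e)
  have hdeg' : (dI.map π).natDegree = d.natDegree := by
    rw [hdIm.natDegree_map]
    exact natDegree_eq_natDegree hdIdeg
  have := card_le_natDegree (A := A) hN0 (⟨1, one_mul 1⟩ : Om P)
    (fun n => (⟨s n, hs2 n⟩ : Om P)) (fun n h => hs1 n (congrArg Subtype.val h))
    (fun n => Subtype.ext (hper n)) (fun a ha b hb h => hinj ha hb (congrArg Subtype.val h))
    (fun i => ?_) (fun n i => ?_) (hdIm.map π) hk3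
  · refine le_trans (le_trans this (hdeg'.le.trans hdeg)) (le_of_eq ?_)
    congr 1
    ext χ
    simp [B]
  · show stepMat _ s (pt P i) (pt P ⟨1, one_mul 1⟩) = 0
    rw [stepMat, Matrix.of_apply, if_neg]
    rintro ⟨g, n, -, h⟩
    refine hs1 n (Subtype.ext ?_)
    have : g * (s n : G) * g⁻¹ = 1 := h.symm
    simpa using this
  · show stepMat _ s (pt P i) (pt P ⟨s n, hs2 n⟩) = _
    rw [stepMat, Matrix.of_apply]
    refine if_congr ⟨?_, ?_⟩ rfl rfl
    · rintro ⟨g, k, h1, h2⟩
      have h1' : (i.1 : G) = g * (s (k + 1) : G) * g⁻¹ := h1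
      have h2' : (s n : G) = g * (s k : G) * g⁻¹ := h2
      obtain ⟨x, hx, hxa, hxb⟩ := exists_normalizer_pair P hab (s (k + 1)).2 (s k).2
        (by rw [← h1']; exact i.1.2) (by rw [← h2']; exact (s n).2)
      obtain ⟨j, hj⟩ := hequiv x hx
      refine Subtype.ext (Subtype.ext ?_)
      rw [h1', ← hxa, hj]
      have hmod : ∀ a, s (a % N) = s a := fun a => by
        conv_rhs => rw [← Nat.mod_add_div a N]
        generalize a / N = c
        induction c with
        | zero => simp
        | succ c ih => rw [Nat.mul_succ, ← add_assoc, hper, ih]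
      have hn : s n = s (k + j) := Subtype.ext (by rw [h2', ← hxb, hj])
      have hmn : n % N = (k + j) % N := hinj (Nat.mod_lt _ hN0) (Nat.mod_lt _ hN0)
        (by rw [hmod, hmod, hn])
      show (s (k + 1 + j) : G) = (s (n + 1) : G)
      rw [← hmod (k + 1 + j), ← hmod (n + 1)]
      congr 2
      rw [show k + 1 + j = k + j + 1 by omega, Nat.add_mod, ← hmn, ← Nat.add_mod]
    · intro hi
      exact ⟨1, n, by simp [hi, pt], by simp [pt]⟩

open scoped Classical in
/-- The case of exponent two. -/
theorem card_le_sum_mult [Fintype (Cfsg.IrrCharacter G)] (hM : Cfsg.IsPModular 2 M)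
    (P : Sylow 2 G) (hel : ∀ x ∈ (P : Subgroup G), x * x = 1) {N : ℕ} (hN0 : 0 < N)
    (_hN : Nat.card (P : Subgroup G) = N + 1) (s : ℕ → (P : Subgroup G)) (hs1 : ∀ n, s n ≠ 1)
    (hper : ∀ n, s (n + N) = s n) (hinj : Set.InjOn s (Set.Iio N))
    (hequiv : ∀ x ∈ Subgroup.normalizer ((P : Subgroup G) : Set G),
      ∃ i : ℕ, ∀ n, x * (s n : G) * x⁻¹ = (s (n + i) : G))
    [DecidablePred (· ∈ Cfsg.principalBlock M G)] (m : Cfsg.IrrCharacter G → ℕ)
    (hm : ∀ χ, (m χ : ℂ) = Cfsg.classInner (fun g : G => (sqFix g : ℂ)) (χ : G → ℂ)) :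
    N + 1 ≤ ∑ χ ∈ Finset.univ.filter (· ∈ Cfsg.principalBlock M G), m χ :=
  card_le_sum_mult_omega hM P (fun x hx y hy => by
    have hi : ∀ z ∈ (P : Subgroup G), z⁻¹ = z := fun z hz =>
      inv_eq_of_mul_eq_one_left (hel z hz)
    rw [← hi _ (mul_mem hx hy), _root_.mul_inv_rev, hi x hx, hi y hy])
    hN0 s (fun n => Subtype.ext (hel _ (s n).2)) hs1 hper hinj hequiv m hm

end Cfsg.Agent.Blocks.FreeTwo
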