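import Mathlib
import Cfsg.Agent.Lib.Blocks.EightNine.Local
import Cfsg.Agent.Lib.FrobeniusSchur.Basic
import Cfsg.Agent.BlocksChars.SectionOrth
import Cfsg.Agent.BlocksChars.ClassAlg
import Cfsg.Agent.Lib.Blocks.FreeTwo.Bound

/-!
# Multiplicities in the module on square roots of one

With Sylow 2-subgroups of exponent two, the multiplicity of `χ` in the module on square roots of
one is its indicator plus a combination of its values at the involutions.
-/

set_option autoImplicit false
set_option linter.style.haveILetI false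
set_option linter.unusedSectionVars false

namespace Cfsg.Agent.Blocks.FreeTwo

open Cfsg.Agent.Blocks Cfsg.Agent.Characters Cfsg.Agent.FrobeniusSchur
open Cfsg.Agent.BlocksChars.SectionOrth
open scoped ComplexConjugate

universe u

variable {G : Type u} [Group G] [Finite G]

/-- Exponent two Sylow subgroups: no element has order divisible by four. -/
theorem not_four_dvd (P : Sylow 2 G) (hel : ∀ x ∈ (P : Subgroup G), x * x = 1) (h : G) :
    ¬ 4 ∣ orderOf h := by
  haveI : Fact (Nat.Prime 2) := ⟨Nat.prime_two⟩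
  intro h4
  obtain ⟨c, hc⟩ := h4
  have hc0 : c ≠ 0 := fun e => (orderOf_pos h).ne' (by rw [hc, e, mul_zero])
  set w := h ^ c with hw
  have how : orderOf w = 4 := by
    rw [hw, orderOf_pow_of_dvd hc0 ⟨4, by rw [hc, mul_comm]⟩, hc, Nat.mul_div_cancel _ (by omega)]
  have hp : IsPGroup 2 (Subgroup.zpowers w) :=
    IsPGroup.of_card (n := 2) (by rw [Nat.card_zpowers, how]; norm_num)
  obtain ⟨Q, hQ⟩ := hp.exists_le_sylow
  obtain ⟨g, hg⟩ := MulAction.exists_smul_eq G Q P
  have hmem : g * w * g⁻¹ ∈ (P : Subgroup G) := by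
    have : g * w * g⁻¹ ∈ ((g • Q : Sylow 2 G) : Subgroup G) := by
      rw [Sylow.coe_subgroup_smul, Subgroup.mem_pointwise_smul_iff_inv_smul_mem]
      simpa [MulAut.smul_def, mul_assoc] using hQ (Subgroup.mem_zpowers w)
    rwa [hg] at this
  have h2 : orderOf (g * w * g⁻¹) ∣ 2 :=
    orderOf_dvd_of_pow_eq_one (by rw [pow_two]; exact hel _ hmem)
  rw [show orderOf (g * w * g⁻¹) = orderOf w from MulEquiv.orderOf_eq (MulAut.conj g) w, how] at h2
  exact absurd (Nat.le_of_dvd (by norm_num) h2) (by norm_num)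

/-- Squares have odd order. -/
theorem sq_regular (hE : ∀ h : G, ¬ 4 ∣ orderOf h) (h : G) : ¬ 2 ∣ orderOf (h * h) := by
  rw [← pow_two, orderOf_pow' h two_ne_zero]
  intro hd
  by_cases h2 : 2 ∣ orderOf h
  · rw [Nat.gcd_eq_right h2] at hd
    obtain ⟨c, hc⟩ := hd
    exact hE h ⟨c, by have := Nat.div_mul_cancel h2; omega⟩
  · rw [(Nat.prime_two.coprime_iff_not_dvd.2 h2).symm.gcd_eq_one, Nat.div_one] at hd
    exact h2 hd

/-- Square roots of an element of odd order correspond to commuting square roots of one. -/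
theorem card_roots {g : G} (hg : ¬ 2 ∣ orderOf g) : Nat.card {h : G // h * h = g} = sqFix g := by
  set c := g ^ ((orderOf g + 1) / 2) with hc
  have hcc : c * c = g := by
    rw [hc, ← pow_add, show (orderOf g + 1) / 2 + (orderOf g + 1) / 2 = orderOf g + 1 by omega,
      pow_succ, pow_orderOf_eq_one, one_mul]
  have hcg : Commute c g := (Commute.refl g).pow_left _
  refine Nat.card_congr
    { toFun := fun h => ⟨c⁻¹ * h.1, ?_⟩
      invFun := fun t => ⟨c * t.1, ?_⟩
      left_inv := fun h => Subtype.ext (mul_inv_cancel_left c h.1)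
      right_inv := fun t => Subtype.ext (inv_mul_cancel_left c t.1) }
  · have hhg : Commute h.1 g := by
      have := (Commute.refl h.1).mul_right (Commute.refl h.1)
      rwa [h.2] at this
    have hhc : Commute h.1 c := by rw [hc]; exact hhg.pow_right _
    refine ⟨?_, (hcg.inv_left.symm.mul_right hhg.symm).eq⟩
    calc c⁻¹ * h.1 * (c⁻¹ * h.1) = c⁻¹ * (h.1 * c⁻¹) * h.1 := by simp [mul_assoc]
      _ = c⁻¹ * c⁻¹ * (h.1 * h.1) := by rw [hhc.inv_right.eq]; simp [mul_assoc]
      _ = c⁻¹ * c⁻¹ * (c * c) := by rw [h.2, hcc]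
      _ = 1 := by group
  · have htc : Commute t.1 c := by
      rw [hc]; exact (show Commute t.1 g from t.2.2.symm).pow_right _
    calc c * t.1 * (c * t.1) = c * (t.1 * c) * t.1 := by simp [mul_assoc]
      _ = c * c * (t.1 * t.1) := by rw [htc.eq]; simp [mul_assoc]
      _ = g := by rw [t.2.1, hcc, mul_one]

variable [Fintype G]

/-- The number of commuting square roots of one, summed over the elements of odd order. -/
theorem sum_regular_sqFix (hE : ∀ h : G, ¬ 4 ∣ orderOf h) :
    ∑ g ∈ Finset.univ.filter (fun g : G => ¬ 2 ∣ orderOf g), sqFix g = Nat.card G := by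
  classical
  rw [Nat.card_eq_fintype_card, ← Finset.card_univ,
    Finset.card_eq_sum_card_fiberwise (f := fun h : G => h * h) (t := Finset.univ.filter
      (fun g : G => ¬ 2 ∣ orderOf g)) (fun h _ => Finset.mem_filter.2 ⟨Finset.mem_univ _, sq_regular hE h⟩)]
  refine Finset.sum_congr rfl fun g hg => ?_
  rw [← card_roots (Finset.mem_filter.1 hg).2, Nat.card_eq_fintype_card, Fintype.card_subtype]

/-- The indicator as a sum over the elements of odd order. -/
theorem nu_eq_regular (hE : ∀ h : G, ¬ 4 ∣ orderOf h) (χ : G → ℂ) :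
    nu χ = (Nat.card G : ℂ)⁻¹ *
      ∑ g ∈ Finset.univ.filter (fun g : G => ¬ 2 ∣ orderOf g), χ g * (sqFix g : ℂ) := by
  classical
  rw [nu, ← Finset.sum_fiberwise_of_maps_to (g := fun h : G => h * h)
    (t := Finset.univ.filter (fun g : G => ¬ 2 ∣ orderOf g)) (fun h _ => Finset.mem_filter.2 ⟨Finset.mem_univ _, sq_regular hE h⟩)]
  congr 1
  refine Finset.sum_congr rfl fun g hg => ?_
  rw [Finset.sum_congr rfl fun h hh => congrArg χ (Finset.mem_filter.1 hh).2, Finset.sum_const,
    nsmul_eq_mul, mul_comm, ← card_roots (Finset.mem_filter.1 hg).2, Nat.card_eq_fintype_card,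
    Fintype.card_subtype]

/-- Indicators are orthogonal to the singular elements. -/
theorem sum_nu_singular [Fintype (Cfsg.IrrCharacter G)] (hE : ∀ h : G, ¬ 4 ∣ orderOf h) {g : G}
    (hg : 2 ∣ orderOf g) :
    ∑ χ : Cfsg.IrrCharacter G, nu (χ : G → ℂ) * (χ : G → ℂ) g = 0 := by
  classical
  have hreal : ∀ χ : Cfsg.IrrCharacter G, conj (nu (χ : G → ℂ)) = nu (χ : G → ℂ) := fun χ => by
    rcases nu_trichotomy χ with h | h | h <;> simp [h]
  rw [Finset.sum_congr rfl (g := fun χ : Cfsg.IrrCharacter G =>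
    conj (nu (χ : G → ℂ)) * (χ : G → ℂ) g) fun χ _ => by rw [hreal χ]]
  simp only [nu, map_mul, map_sum, map_inv₀, Complex.conj_natCast,
    Finset.mul_sum, Finset.sum_mul]
  rw [Finset.sum_comm]
  refine Finset.sum_eq_zero fun s _ => ?_
  have h := second_orthogonality g (s * s)
  rw [if_neg fun hc => sq_regular hE s (by
    obtain ⟨x, hx⟩ := isConj_iff.1 hc
    rwa [← hx, show orderOf (x * g * x⁻¹) = orderOf g from MulEquiv.orderOf_eq (MulAut.conj x) g])]
    at h
  calc _ = (Nat.card G : ℂ)⁻¹ * ∑ χ : Cfsg.IrrCharacter G,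
        (χ : G → ℂ) g * conj ((χ : G → ℂ) (s * s)) := by
        rw [Finset.mul_sum]; exact Finset.sum_congr rfl fun χ _ => by ring
    _ = 0 := by rw [h, mul_zero]

/-- The involutions. -/
def IsInv2 (u : G) : Prop := u * u = 1 ∧ u ≠ 1

theorem IsInv2.orderOf_eq {u : G} (h : IsInv2 u) : orderOf u = 2 :=
  orderOf_eq_prime (by rw [pow_two]; exact h.1) h.2

theorem isPPart_inv {u y : G} (hu : IsInv2 u) (hc : Commute u y) (hy : ¬ 2 ∣ orderOf y) :
    Cfsg.IsPPart 2 (u * y) u :=
  ⟨y, rfl, hc, ⟨1, by rw [hu.orderOf_eq, pow_one]⟩, hy⟩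

theorem singular_of_inv {u y : G} (hu : IsInv2 u) (hc : Commute u y) (hy : ¬ 2 ∣ orderOf y) :
    2 ∣ orderOf (u * y) := by
  rw [hc.orderOf_mul_eq_mul_orderOf_of_coprime
    (by rw [hu.orderOf_eq]; exact Nat.prime_two.coprime_iff_not_dvd.2 hy), hu.orderOf_eq]
  exact dvd_mul_right _ _

theorem sum_sqFix_section (hE : ∀ h : G, ¬ 4 ∣ orderOf h) {u : G} (hu : IsInv2 u)
    [Fintype (Subgroup.centralizer ({u} : Set G))] :
    ∑ y ∈ Finset.univ.filter
        (fun y : Subgroup.centralizer ({u} : Set G) => ¬ 2 ∣ orderOf y),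
      sqFix (u * (y : G)) = Nat.card (Subgroup.centralizer ({u} : Set G)) := by
  set C := Subgroup.centralizer ({u} : Set G)
  rw [← sum_regular_sqFix (G := C) fun h => by rw [← Subgroup.orderOf_coe]; exact hE h]
  refine Finset.sum_congr (by ext; simp) fun y hy => ?_
  have hyo : ¬ 2 ∣ orderOf (y : G) := by
    rw [Subgroup.orderOf_coe]; exact (Finset.mem_filter.1 hy).2
  have hyu : Commute u (y : G) := Subgroup.mem_centralizer_iff.1 y.2 u rfl
  have hmem : ∀ h : G, u * (y : G) * h = h * (u * y) →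
      h ∈ C ∧ (y : G) * h = h * y := by
    intro h hh
    have hu' : h * u = u * h :=
      commute_of_isConj_section Nat.prime_two ⟨1, by rw [hu.orderOf_eq, pow_one]⟩ hyu hyo hyu hyo
        (mul_inv_eq_iff_eq_mul.2 hh.symm)
    refine ⟨Subgroup.mem_centralizer_singleton_iff.2 hu', ?_⟩
    apply mul_left_cancel (a := u)
    rw [← mul_assoc, hh, ← mul_assoc, hu', mul_assoc]
  refine Nat.card_congr
    { toFun := fun h => ⟨⟨h.1, (hmem h.1 h.2.2).1⟩, Subtype.ext h.2.1,
        Subtype.ext (hmem h.1 h.2.2).2⟩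
      invFun := fun h => ⟨(h.1 : G), congrArg Subtype.val h.2.1, ?_⟩
      left_inv := fun h => rfl
      right_inv := fun h => rfl }
  have h2 : (y : G) * h.1 = h.1 * y := congrArg Subtype.val h.2.2
  have h3 : u * (h.1 : G) = h.1 * u := Subgroup.mem_centralizer_iff.1 h.1.2 u rfl
  rw [mul_assoc, h2, ← mul_assoc, h3, mul_assoc]

open scoped Classical in
/-- A sum over the singular elements by their involutions. -/
theorem sum_singular (hE : ∀ h : G, ¬ 4 ∣ orderOf h) (F : G → ℂ) :
    ∑ g ∈ Finset.univ.filter (fun g : G => 2 ∣ orderOf g), F g =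
      ∑ u ∈ Finset.univ.filter (fun u : G => IsInv2 u),
        ∑ y ∈ Finset.univ.filter
          (fun y : Subgroup.centralizer ({u} : Set G) => ¬ 2 ∣ orderOf y), F (u * (y : G)) := by
  rw [Finset.sum_sigma']
  symm
  refine Finset.sum_bij (fun x _ => x.1 * (x.2 : G)) ?_ ?_ ?_ (fun _ _ => rfl)
  · rintro ⟨u, y⟩ h
    simp only [Finset.mem_sigma, Finset.mem_filter, Finset.mem_univ, true_and] at h ⊢
    exact singular_of_inv h.1 (Subgroup.mem_centralizer_iff.1 y.2 u rfl)
      (by rw [Subgroup.orderOf_coe]; exact h.2)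
  · rintro ⟨u, y⟩ h ⟨u', y'⟩ h' e
    simp only [Finset.mem_sigma, Finset.mem_filter, Finset.mem_univ, true_and] at h h'
    have hu : u = u' := ppart_unique Nat.prime_two
      (isPPart_inv h.1 (Subgroup.mem_centralizer_iff.1 y.2 u rfl)
        (by rw [Subgroup.orderOf_coe]; exact h.2))
      (by
        show Cfsg.IsPPart 2 (u * (y : G)) u'
        rw [show u * (y : G) = u' * (y' : G) from e]
        exact isPPart_inv h'.1 (Subgroup.mem_centralizer_iff.1 y'.2 u' rfl)
          (by rw [Subgroup.orderOf_coe]; exact h'.2))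
    subst hu
    have hy : (y : G) = y' := mul_left_cancel e
    rw [Subtype.ext hy]
  · intro g hg
    simp only [Finset.mem_filter, Finset.mem_univ, true_and] at hg
    obtain ⟨u, hu⟩ := exists_ppart Nat.prime_two g
    obtain ⟨y, rfl, hc, ⟨k, hk⟩, hy⟩ := hu
    have hk1 : k = 1 := by
      rcases k with _ | _ | k
      · exfalso
        rw [pow_zero, orderOf_eq_one_iff] at hk
        subst hk
        rw [one_mul] at hg
        exact hy hg
      · rfl
      · exact absurd (show 4 ∣ orderOf u from hk ▸ ⟨2 ^ k, by ring⟩) (hE u)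
    subst hk1
    rw [pow_one] at hk
    have hinv : IsInv2 u := ⟨by rw [← pow_two, ← hk, pow_orderOf_eq_one],
      fun e => by simp [e] at hk⟩
    exact ⟨⟨u, ⟨y, Subgroup.mem_centralizer_singleton_iff.2 hc.eq.symm⟩⟩, by
      simp only [Finset.mem_sigma, Finset.mem_filter, Finset.mem_univ, true_and]
      exact ⟨hinv, by rw [← Subgroup.orderOf_coe]; exact hy⟩, rfl⟩

open scoped Classical in
/-- The multiplicity in terms of the indicator and the values at the involutions. -/
theorem classInner_sqFix (hE : ∀ h : G, ¬ 4 ∣ orderOf h) (χ : G → ℂ)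
    (hval : ∀ u y : G, IsInv2 u → Commute u y → ¬ 2 ∣ orderOf y → χ (u * y) = χ u) :
    Cfsg.classInner χ (fun g : G => (sqFix g : ℂ)) = nu χ + (Nat.card G : ℂ)⁻¹ *
      ∑ u ∈ Finset.univ.filter (fun u : G => IsInv2 u),
        χ u * (Nat.card (Subgroup.centralizer ({u} : Set G)) : ℂ) := by
  rw [classInner_def, nu_eq_regular hE, ← mul_add]
  congr 1
  simp only [Complex.conj_natCast]
  rw [← Finset.sum_filter_add_sum_filter_not Finset.univ (fun g : G => ¬ 2 ∣ orderOf g)]
  congr 1
  simp only [not_not]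
  rw [sum_singular hE]
  refine Finset.sum_congr rfl fun u hu => ?_
  have hu' := (Finset.mem_filter.1 hu).2
  rw [Finset.sum_congr rfl (g := fun y : Subgroup.centralizer ({u} : Set G) =>
    χ u * (sqFix (u * (y : G)) : ℂ)) fun y hy => ?_]
  · rw [← Finset.mul_sum, ← Nat.cast_sum, sum_sqFix_section hE hu']
  · rw [hval u y hu' (Subgroup.mem_centralizer_iff.1 y.2 u rfl)
      (by rw [Subgroup.orderOf_coe]; exact (Finset.mem_filter.1 hy).2)]

end Cfsg.Agent.Blocks.FreeTwo
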