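import Mathlib
import Cfsg.Agent.BlocksChars.IndicatorRestrict
import Cfsg.Agent.Lib.Blocks.FreeTwo.Section
import Cfsg.Agent.Lib.Blocks.FreeTwo.Residue

/-!
# The principal block of a group with a free inertial action on an elementary abelian 2-group

The indicators and the values at the involutions of the principal block.
-/

set_option autoImplicit false
set_option linter.style.haveILetI false
set_option linter.unusedSectionVars false

namespace Cfsg.Agent.Blocks.FreeTwo

open Cfsg.Agent.Blocks Cfsg.Agent.Blocks.Star Cfsg.Agent.Blocks.EightNine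
open Cfsg.Agent.Characters Cfsg.Agent.FrobeniusSchur Cfsg.Agent.BlockCharsA
open Cfsg.Agent.BlockCharsA.BrauerPairs Cfsg.Agent.BlockCharsA.PairConj
open Cfsg.Agent.BlockCharsA.PairLocal Cfsg.Agent.BlockCharsA.PairFusion
open Cfsg.Agent.BlockCharsA.PairPrincipal
open scoped ComplexConjugate

universe u

variable {G : Type u} [Group G] [Finite G] [Fintype G] {M : Ideal Cfsg.AlgInt}

theorem comm_of_exp (P : Subgroup G) (hel : ∀ x ∈ P, x * x = 1) :
    ∀ x ∈ P, ∀ y ∈ P, x * y = y * x := fun x hx y hy => by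
  have hi : ∀ z ∈ P, z⁻¹ = z := fun z hz => inv_eq_of_mul_eq_one_left (hel z hz)
  rw [← hi _ (mul_mem hx hy), mul_inv_rev, hi x hx, hi y hy]

/-- Involutions are conjugate into the Sylow subgroup. -/
theorem exists_conj_mem (P : Sylow 2 G) {u : G} (hu : IsInv2 u) :
    ∃ g : G, g * u * g⁻¹ ∈ (P : Subgroup G) := by
  haveI : Fact (Nat.Prime 2) := ⟨Nat.prime_two⟩
  have hp : IsPGroup 2 (Subgroup.zpowers u) :=
    IsPGroup.of_card (n := 1) (by rw [Nat.card_zpowers, hu.orderOf_eq]; norm_num)
  obtain ⟨Q, hQ⟩ := hp.exists_le_sylow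
  obtain ⟨g, hg⟩ := MulAction.exists_smul_eq G Q P
  refine ⟨g, ?_⟩
  have : g * u * g⁻¹ ∈ ((g • Q : Sylow 2 G) : Subgroup G) := by
    rw [Sylow.coe_subgroup_smul, Subgroup.mem_pointwise_smul_iff_inv_smul_mem]
    simpa [MulAut.smul_def, mul_assoc] using hQ (Subgroup.mem_zpowers u)
  rwa [hg] at this

/-- The values on the section of an involution are constant. -/
theorem value_section [Fintype (Cfsg.IrrCharacter G)] (hM : Cfsg.IsPModular 2 M) (P : Sylow 2 G)
    (hel : ∀ x ∈ (P : Subgroup G), x * x = 1)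
    (hfree : Frees (P : Subgroup G) (prin M (P : Subgroup G))) {χ : Cfsg.IrrCharacter G}
    (hχ : χ ∈ Cfsg.principalBlock M G) {u y : G} (hu : IsInv2 u) (hc : Commute u y)
    (hy : ¬ 2 ∣ orderOf y) : (χ : G → ℂ) (u * y) = (χ : G → ℂ) u := by
  classical
  have hmax := isMaximal_prin hM P
  have hab := comm_of_exp (P : Subgroup G) hel
  obtain ⟨x, hx⟩ := exists_conj_mem P hu
  set v : (P : Subgroup G) := ⟨x * u * x⁻¹, hx⟩ with hvdef
  have hv1 : v ≠ 1 := fun h => hu.2 (by
    have := congrArg Subtype.val h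
    simpa [hvdef] using this)
  have hv := hfree.freeAt hv1
  set s := x * y * x⁻¹ with hsdef
  have hso : ¬ 2 ∣ orderOf s := by
    rw [hsdef, show orderOf (x * y * x⁻¹) = orderOf y from MulEquiv.orderOf_eq (MulAut.conj x) y]
    exact hy
  have hsc : Commute (v : G) s := hc.map (MulAut.conj x).toMonoidHom
  obtain ⟨-, hgB, he⟩ := gAt_spec hM hmax v
  have hξ : trivIrr _ ∈ gAt 2 M (prin M (P : Subgroup G)) (v : G) := by
    rw [gAt_prin hM hmax v]; exact trivIrr_mem_principal hM
  have hmem : s ∈ CU (v : G) := mem_CU_of_commute hsc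
  have h1 := th_eq_coef hM hmax hab hv (irr_isClassFunction χ) hξ (s := ⟨s, hmem⟩)
    (by rw [← Subgroup.orderOf_coe]; exact hso)
  have hsum := eq_sum_th hM (M := M) (χ : G → ℂ) (v : G) s
  rw [Finset.sum_eq_single (eps 2 M (prin M (P : Subgroup G)) v)] at hsum
  · have hval := value_eq_coef hM hmax hab hv hχ
    calc (χ : G → ℂ) (u * y) = (χ : G → ℂ) ((v : G) * s) := by
          rw [show (v : G) * s = x * (u * y) * x⁻¹ by simp [hvdef, hsdef, mul_assoc],
            irr_isClassFunction χ]
      _ = (χ : G → ℂ) (v : G) := by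
          rw [hsum]
          show th _ _ _ ((⟨s, hmem⟩ : CU (v : G)) : G) = _
          rw [h1, hval]
          simp [trivIrr]
      _ = (χ : G → ℂ) u := irr_isClassFunction χ u x
  · intro ε hε hne
    obtain ⟨g, hg, rfl⟩ := mem_BI.1 hε
    refine th_eq_zero hM (isPBlock_principal M G) hχ (orderOf_top hM hmax v) hg (fun hpair => hne ?_)
      (mem_regAt.2 ⟨hsc, hso⟩)
    rw [he, gAt_prin hM hmax v, eq_prin hM hpair]
  · exact fun h => absurd (eps_mem_BI hM hmax v) h

open scoped Classical in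
/-- Each class of involutions meets the Sylow subgroup in one orbit. -/
theorem card_fused (hM : Cfsg.IsPModular 2 M) (P : Sylow 2 G)
    (hel : ∀ x ∈ (P : Subgroup G), x * x = 1)
    (hfree : Frees (P : Subgroup G) (prin M (P : Subgroup G))) [Fintype (P : Subgroup G)]
    {u : G} (hu : IsInv2 u) :
    (Finset.univ.filter fun v : (P : Subgroup G) => v ≠ 1 ∧ IsConj (v : G) u).card =
      Nat.card (inertR (P : Subgroup G) (prin M (P : Subgroup G))) := by
  haveI : Fact (Nat.Prime 2) := ⟨Nat.prime_two⟩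
  have hab := comm_of_exp (P : Subgroup G) hel
  obtain ⟨x, hx⟩ := exists_conj_mem P hu
  set v₀ : (P : Subgroup G) := ⟨x * u * x⁻¹, hx⟩
  have hv0 : v₀ ≠ 1 := fun h => hu.2 (by
    have h' : x * u * x⁻¹ = 1 := congrArg Subtype.val h
    simpa using h')
  have hconj : IsConj u (v₀ : G) := isConj_iff.2 ⟨x, rfl⟩
  rw [← hfree.card_orb (p := 2) (M := M) hab hv0, ← Fintype.card_subtype,
    ← Nat.card_eq_fintype_card]
  refine Nat.card_congr (Equiv.ofBijective (fun v => ⟨(v.1 : G), ?_⟩) ⟨?_, ?_⟩)
  · obtain ⟨g, hg⟩ := isConj_iff.1 (hconj.symm.trans v.2.2.symm)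
    obtain ⟨n, hn, hn', -⟩ := exists_normalizer_pair P hab v₀.2 v₀.2
      (by rw [hg]; exact v.1.2) (by rw [hg]; exact v.1.2)
    refine ⟨n, by rw [stab_prin hM]; exact hn, ?_⟩
    rw [hn', hg]
  · intro a b h
    exact Subtype.ext (Subtype.ext (congrArg (fun z => (z.1 : G)) h))
  · rintro ⟨g, t, ht, rfl⟩
    refine ⟨⟨⟨t * v₀ * t⁻¹, conj_mem_top ht v₀.2⟩, fun h => hv0 (Subtype.ext ?_),
      (isConj_iff.2 ⟨t, rfl⟩ : IsConj (v₀ : G) (t * v₀ * t⁻¹)).symm.trans hconj.symm⟩, rfl⟩
    have h' : t * (v₀ : G) * t⁻¹ = 1 := congrArg Subtype.val h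
    simpa using h'

open scoped Classical in
/-- The values at the involutions, weighted by their centralisers. -/
theorem sum_inv_weighted (hM : Cfsg.IsPModular 2 M) (P : Sylow 2 G)
    (hel : ∀ x ∈ (P : Subgroup G), x * x = 1)
    (hfree : Frees (P : Subgroup G) (prin M (P : Subgroup G))) [Fintype (P : Subgroup G)]
    {f : G → ℂ} (hf : Cfsg.IsClassFunction G f) :
    (Nat.card (inertR (P : Subgroup G) (prin M (P : Subgroup G))) : ℂ) *
        ∑ u ∈ Finset.univ.filter (fun u : G => IsInv2 u),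
          f u * (Nat.card (Subgroup.centralizer ({u} : Set G)) : ℂ) =
      (Nat.card G : ℂ) * ∑ v ∈ Finset.univ.filter (fun v : (P : Subgroup G) => v ≠ 1), f v := by
  have hC : ∀ {a b : G}, IsConj a b → Nat.card (Subgroup.centralizer ({a} : Set G)) =
      Nat.card (Subgroup.centralizer ({b} : Set G)) := fun {a b} h => by
    have h1 := BlocksChars.ClassAlg.classSize_mul_card_centralizer a
    have h2 := BlocksChars.ClassAlg.classSize_mul_card_centralizer b
    have h3 : BlocksChars.ClassAlg.classSize a = BlocksChars.ClassAlg.classSize b :=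
      Nat.card_congr (Equiv.subtypeEquivRight fun g => ⟨h.symm.trans, h.trans⟩)
    have h4 : 0 < BlocksChars.ClassAlg.classSize b := by
      haveI : Nonempty {g : G // IsConj b g} := ⟨⟨b, IsConj.refl b⟩⟩
      exact Nat.card_pos
    rw [h3, ← h2] at h1
    exact Nat.eq_of_mul_eq_mul_left h4 h1
  have hinv : ∀ (v : (P : Subgroup G)) (g : G), v ≠ 1 → IsConj (v : G) g → IsInv2 g := by
    intro v g hv h
    obtain ⟨c, rfl⟩ := isConj_iff.1 h
    refine ⟨?_, fun e => hv (Subtype.ext (by simpa using e))⟩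
    rw [show c * (v : G) * c⁻¹ * (c * v * c⁻¹) = c * ((v : G) * v) * c⁻¹ by group, hel v v.2,
      mul_one, mul_inv_cancel]
  have h1 : ∀ v ∈ Finset.univ.filter (fun v : (P : Subgroup G) => v ≠ 1),
      (Nat.card G : ℂ) * f v = ∑ g ∈ Finset.univ.filter (fun u : G => IsInv2 u),
        if IsConj (v : G) g then f g * (Nat.card (Subgroup.centralizer ({g} : Set G)) : ℂ)
          else 0 := by
    intro v hv
    rw [← Finset.sum_filter, Finset.sum_congr rfl (g := fun _ =>
      f v * (Nat.card (Subgroup.centralizer ({(v : G)} : Set G)) : ℂ)) fun g hg => by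
        rw [← BlocksChars.ClassAlg.classFun_eq_of_isConj hf (Finset.mem_filter.1 hg).2,
          hC (Finset.mem_filter.1 hg).2], Finset.sum_const, nsmul_eq_mul,
      Finset.filter_filter, Finset.filter_congr (q := fun g => IsConj (v : G) g) fun g _ =>
        ⟨fun h => h.2, fun h => ⟨hinv v g (Finset.mem_filter.1 hv).2 h, h⟩⟩,
      ← Fintype.card_subtype, ← Nat.card_eq_fintype_card,
      ← BlocksChars.ClassAlg.classSize_mul_card_centralizer (v : G), Nat.cast_mul]
    show _ = (BlocksChars.ClassAlg.classSize (v : G) : ℂ) * _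
    ring
  rw [Finset.mul_sum, Finset.mul_sum, Finset.sum_congr rfl h1, Finset.sum_comm]
  refine Finset.sum_congr rfl fun g hg => ?_
  rw [← Finset.sum_filter, Finset.sum_const, Finset.filter_filter,
    card_fused hM P hel hfree (Finset.mem_filter.1 hg).2, nsmul_eq_mul]

open scoped Classical in
/-- The sum of the values at the non-trivial elements of the Sylow subgroup. -/
noncomputable def invSum (P : Sylow 2 G) [Fintype (P : Subgroup G)] (f : G → ℂ) : ℂ :=
  ∑ v ∈ Finset.univ.filter (fun v : (P : Subgroup G) => v ≠ 1), f v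

open scoped Classical in
/-- A real number as a multiplicity. -/
theorem exists_mult (χ : Cfsg.IrrCharacter G) :
    ∃ m : ℕ, (m : ℂ) = Cfsg.classInner (fun g : G => (sqFix g : ℂ)) (χ : G → ℂ) := by
  obtain ⟨n, τ, -, hτ⟩ := χ.2
  refine ⟨Module.finrank ℂ (Representation.IntertwiningMap τ (permRep (G := G))), ?_⟩
  rw [← hτ, ← classInner_character]
  congr 1
  exact funext fun g => permRep_character g

open scoped Classical in
/-- The multiplicity, the indicator and the values at the involutions. -/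
theorem mult_formula [Fintype (Cfsg.IrrCharacter G)] (hM : Cfsg.IsPModular 2 M) (P : Sylow 2 G)
    (hel : ∀ x ∈ (P : Subgroup G), x * x = 1)
    (hfree : Frees (P : Subgroup G) (prin M (P : Subgroup G))) [Fintype (P : Subgroup G)]
    {χ : Cfsg.IrrCharacter G} (hχ : χ ∈ Cfsg.principalBlock M G) {m : ℕ}
    (hm : (m : ℂ) = Cfsg.classInner (fun g : G => (sqFix g : ℂ)) (χ : G → ℂ)) :
    (Nat.card (inertR (P : Subgroup G) (prin M (P : Subgroup G))) : ℂ) *
      ((m : ℂ) - nu (χ : G → ℂ)) = invSum P (χ : G → ℂ) := by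
  have hm' : (m : ℂ) = Cfsg.classInner (χ : G → ℂ) (fun g : G => (sqFix g : ℂ)) := by
    rw [← Complex.conj_natCast m, hm, ← classInner_conj_symm]
  rw [hm', classInner_sqFix (not_four_dvd P hel) _ fun u y hu hc hy =>
    value_section hM P hel hfree hχ hu hc hy, add_sub_cancel_left, mul_left_comm,
    sum_inv_weighted hM P hel hfree (irr_isClassFunction χ), invSum,
    inv_mul_cancel_left₀ natCard_ne_zero]

open scoped Classical in
/-- The norm of the sums at the involutions. -/
theorem invSum_norm [Fintype (Cfsg.IrrCharacter G)] (hM : Cfsg.IsPModular 2 M) (P : Sylow 2 G)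
    (hel : ∀ x ∈ (P : Subgroup G), x * x = 1)
    (hfree : Frees (P : Subgroup G) (prin M (P : Subgroup G))) [Fintype (P : Subgroup G)] :
    ∑ χ ∈ Finset.univ.filter (· ∈ Cfsg.principalBlock M G),
        invSum P (χ : G → ℂ) * conj (invSum P (χ : G → ℂ)) =
      ((Nat.card (P : Subgroup G) - 1 : ℕ) : ℂ) *
        (Nat.card (inertR (P : Subgroup G) (prin M (P : Subgroup G))) : ℂ) *
          (Nat.card (P : Subgroup G) : ℂ) := by
  have hmax := isMaximal_prin hM P
  have hab := comm_of_exp (P : Subgroup G) hel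
  haveI : Fact (Nat.Prime 2) := ⟨Nat.prime_two⟩
  set S := Finset.univ.filter (fun v : (P : Subgroup G) => v ≠ 1) with hS
  have hinner : ∀ v ∈ S, ∀ w ∈ S, ∑ χ ∈ Finset.univ.filter (· ∈ Cfsg.principalBlock M G),
      (χ : G → ℂ) v * conj ((χ : G → ℂ) w) =
      if IsConj (v : G) w then (Nat.card (P : Subgroup G) : ℂ) else 0 := by
    intro v hv w hw
    split_ifs with hc
    · have hfv := hfree.freeAt (Finset.mem_filter.1 hv).2
      rw [← sum_coef_sq hM hmax hab hfv]
      refine Finset.sum_congr rfl fun χ hχ => ?_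
      rw [← BlocksChars.ClassAlg.classFun_eq_of_isConj (irr_isClassFunction χ) hc,
        ← value_eq_coef hM hmax hab hfv (Finset.mem_filter.1 hχ).2]
    · have h := BlocksChars.SectionOrth.sum_pElement_eq_zero hM (isPBlock_principal M G)
        (orderOf_top hM hmax v) (orderOf_top hM hmax w) hc
      rwa [ZStar.Principal.finsum_mem_eq_sum_filter] at h
  simp only [invSum, map_sum, Finset.sum_mul, Finset.mul_sum]
  rw [Finset.sum_comm]
  rw [Finset.sum_congr rfl (g := fun _ =>
    (Nat.card (inertR (P : Subgroup G) (prin M (P : Subgroup G))) : ℂ) *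
      (Nat.card (P : Subgroup G) : ℂ)) fun w hw => ?_]
  · rw [Finset.sum_const, nsmul_eq_mul, Finset.filter_ne', Finset.card_erase_of_mem
      (Finset.mem_univ _), Finset.card_univ, ← Nat.card_eq_fintype_card, mul_assoc]
  rw [Finset.sum_comm, Finset.sum_congr rfl fun v hv => hinner v hv w hw, ← Finset.sum_filter,
    Finset.sum_const, nsmul_eq_mul, Finset.filter_filter]
  congr 2
  have hw2 : IsInv2 (w : G) := ⟨hel w w.2, fun h => (Finset.mem_filter.1 hw).2 (Subtype.ext h)⟩
  exact card_fused hM P hel hfree hw2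

open scoped Classical in
/-- The indicators are orthogonal to the sums at the involutions. -/
theorem nu_invSum [Fintype (Cfsg.IrrCharacter G)] (hM : Cfsg.IsPModular 2 M) (P : Sylow 2 G)
    (hel : ∀ x ∈ (P : Subgroup G), x * x = 1) [Fintype (P : Subgroup G)] :
    ∑ χ ∈ Finset.univ.filter (· ∈ Cfsg.principalBlock M G),
      nu (χ : G → ℂ) * invSum P (χ : G → ℂ) = 0 := by
  haveI : Fact (Nat.Prime 2) := ⟨Nat.prime_two⟩
  simp only [invSum, Finset.mul_sum]
  rw [Finset.sum_comm]
  refine Finset.sum_eq_zero fun v hv => ?_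
  have ho : orderOf (v : G) = 2 :=
    IsInv2.orderOf_eq ⟨hel v v.2, fun h => (Finset.mem_filter.1 hv).2 (Subtype.ext h)⟩
  rw [Finset.sum_filter]
  refine BlocksChars.SectionOrth.blockSum_eq_zero_of_section hM (isPBlock_principal M G)
    (p := 2) ⟨1, by rw [ho, pow_one]⟩ _ fun g x hg hc => sum_nu_singular (not_four_dvd P hel) ?_
  obtain ⟨y, rfl, hxy, -, hy⟩ := hg
  obtain ⟨c, hc'⟩ := isConj_iff.1 hc
  have hxo : orderOf x = 2 := by
    rw [← hc', show orderOf (c * (v : G) * c⁻¹) = orderOf (v : G) from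
      MulEquiv.orderOf_eq (MulAut.conj c) _, ho]
  rw [hxy.orderOf_mul_eq_mul_orderOf_of_coprime
    (by rw [hxo]; exact Nat.prime_two.coprime_iff_not_dvd.2 hy), hxo]
  exact dvd_mul_right _ _

open scoped Classical in
/-- Symplectic characters have even multiplicity. -/
theorem even_mult {χ : Cfsg.IrrCharacter G} (hν : nu (χ : G → ℂ) = -1) {m : ℕ}
    (hm : (m : ℂ) = Cfsg.classInner (fun g : G => (sqFix g : ℂ)) (χ : G → ℂ)) : 2 ∣ m := by
  have hreal := (nu_ne_zero_iff χ).1 (by rw [hν]; norm_num)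
  have hloc : ∀ H : Subgroup G, ∃ a : ℕ, 2 ∣ a ∧ Cfsg.classInner (fun h : H => (χ : G → ℂ) h)
      ((trivIrr H : Cfsg.IrrCharacter H) : H → ℂ) = (a : ℂ) := by
    intro H
    obtain ⟨n, τ, -, hτ⟩ := χ.2
    obtain ⟨a, ha⟩ := classInner_char_nat (G := H) (χ := fun h : H => (χ : G → ℂ) h)
      ⟨n, τ.comp H.subtype, by funext h; rw [← hτ]; rfl⟩ (irr_isCharacter (trivIrr H))
    refine ⟨a, ?_, ha⟩
    by_contra hodd
    have h := BlocksChars.IndicatorRestrict.nu_eq_of_mult_odd H χ (trivIrr H) hreal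
      (fun h => by simp [trivIrr]) (Nat.odd_iff.2 (by omega)) ha
    rw [hν] at h
    simp [nu, trivIrr, natCard_ne_zero] at h
    norm_num at h
  choose a ha2 ha using fun h : G => hloc (Subgroup.centralizer ({h} : Set G))
  have hS : ∀ h : G, ∑ g : G, (if g * h = h * g then (χ : G → ℂ) g else 0) =
      (Nat.card (Subgroup.centralizer ({h} : Set G)) : ℂ) * (a h : ℂ) := by
    intro h
    rw [← ha h, classInner_def, mul_inv_cancel_left₀ natCard_ne_zero, ← Finset.sum_filter]
    simp only [trivIrr, map_one, mul_one]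
    exact Finset.sum_subtype _ (fun g => by simp [Subgroup.mem_centralizer_singleton_iff]) _
  have hclass : ∀ h g : G, IsConj h g → a h = a g := by
    intro h g hc
    obtain ⟨c, rfl⟩ := isConj_iff.1 hc
    have hcard := Nat.card_congr ((MulAut.conj c).toEquiv.subtypeEquiv
      (p := fun x => x ∈ Subgroup.centralizer ({h} : Set G))
      (q := fun x => x ∈ Subgroup.centralizer ({c * h * c⁻¹} : Set G)) fun x => by
        simp only [Subgroup.mem_centralizer_singleton_iff]
        constructor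
        · intro e
          show c * x * c⁻¹ * (c * h * c⁻¹) = c * h * c⁻¹ * (c * x * c⁻¹)
          rw [show c * x * c⁻¹ * (c * h * c⁻¹) = c * (x * h) * c⁻¹ by group, e]; group
        · intro e
          have e' : c * x * c⁻¹ * (c * h * c⁻¹) = c * h * c⁻¹ * (c * x * c⁻¹) := e
          calc x * h = c⁻¹ * (c * x * c⁻¹ * (c * h * c⁻¹)) * c := by group
            _ = h * x := by rw [e']; group)
    have h2 : ∑ x : G, (if x * h = h * x then (χ : G → ℂ) x else 0) =
        ∑ x : G, (if x * (c * h * c⁻¹) = c * h * c⁻¹ * x then (χ : G → ℂ) x else 0) := by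
      refine Fintype.sum_equiv (MulAut.conj c).toEquiv _ _ fun x => ?_
      rw [show (MulAut.conj c).toEquiv x = c * x * c⁻¹ from rfl, irr_isClassFunction χ]
      refine if_congr ⟨fun e => ?_, fun e => ?_⟩ rfl rfl
      · rw [show c * x * c⁻¹ * (c * h * c⁻¹) = c * (x * h) * c⁻¹ by group, e]; group
      · calc x * h = c⁻¹ * (c * x * c⁻¹ * (c * h * c⁻¹)) * c := by group
          _ = h * x := by rw [e]; group
    rw [hS, hS, hcard] at h2
    exact_mod_cast mul_left_cancel₀ natCard_ne_zero h2
  have hswap : (Nat.card G : ℂ) * (m : ℂ) = ∑ h : {h : G // h * h = 1},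
      (Nat.card (Subgroup.centralizer ({h.1} : Set G)) : ℂ) * (a h.1 : ℂ) := by
    simp only [← hS]
    rw [← Complex.conj_natCast m, hm, ← classInner_conj_symm, Cfsg.Agent.Characters.classInner_def,
      mul_inv_cancel_left₀ natCard_ne_zero, Finset.sum_comm]
    refine Finset.sum_congr rfl fun g _ => ?_
    rw [← Finset.sum_filter, Finset.sum_const, nsmul_eq_mul, mul_comm]
    congr 1
    simp only [map_natCast, sqFix, Nat.card_eq_fintype_card, ← Fintype.card_subtype]
    refine congrArg Nat.cast (Fintype.card_congr (α := {h : G // h * h = 1 ∧ g * h = h * g})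
      (β := {h : {h : G // h * h = 1} // g * h.1 = h.1 * g}) ?_)
    exact
      { toFun := fun h => ⟨⟨h.1, h.2.1⟩, h.2.2⟩
        invFun := fun h => ⟨h.1.1, h.1.2, h.2⟩
        left_inv := fun _ => rfl
        right_inv := fun _ => rfl }
  have hnat : Nat.card G * m = ∑ h ∈ Finset.univ.filter (fun h : G => h * h = 1),
      Nat.card (Subgroup.centralizer ({h} : Set G)) * a h := by
    rw [Finset.sum_subtype (p := fun h : G => h * h = 1) _ (fun h => by simp)]
    exact_mod_cast hswap
  haveI := Fintype.ofFinite (ConjClasses G)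
  rw [← Finset.sum_fiberwise (g := ConjClasses.mk)] at hnat
  have hdiv : 2 * Nat.card G ∣ Nat.card G * m := by
    rw [hnat]
    refine Finset.dvd_sum fun K _ => ?_
    rw [Finset.filter_filter]
    by_cases hK : ∃ h : G, h * h = 1 ∧ ConjClasses.mk h = K
    · obtain ⟨h, hh, rfl⟩ := hK
      have hfil : Finset.univ.filter (fun g : G => g * g = 1 ∧ ConjClasses.mk g = ConjClasses.mk h) =
          Finset.univ.filter (fun g : G => IsConj h g) := by
        refine Finset.filter_congr fun g _ => ⟨fun e => (ConjClasses.mk_eq_mk_iff_isConj.1 e.2).symm,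
          fun e => ⟨?_, (ConjClasses.mk_eq_mk_iff_isConj.2 e).symm⟩⟩
        obtain ⟨c, rfl⟩ := isConj_iff.1 e
        rw [show c * h * c⁻¹ * (c * h * c⁻¹) = c * (h * h) * c⁻¹ by group, hh, mul_one,
          mul_inv_cancel]
      have hconst : ∀ g ∈ Finset.univ.filter (fun g : G => IsConj h g),
          Nat.card (Subgroup.centralizer ({g} : Set G)) * a g =
            Nat.card (Subgroup.centralizer ({h} : Set G)) * a h := by
        intro g hg
        have hc := (Finset.mem_filter.1 hg).2
        rw [← hclass h g hc]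
        obtain ⟨c, rfl⟩ := isConj_iff.1 hc
        congr 1
        have h1 := BlocksChars.ClassAlg.classSize_mul_card_centralizer h
        have h2 := BlocksChars.ClassAlg.classSize_mul_card_centralizer (c * h * c⁻¹)
        have h3 : BlocksChars.ClassAlg.classSize (c * h * c⁻¹) = BlocksChars.ClassAlg.classSize h :=
          Nat.card_congr (Equiv.subtypeEquivRight fun x => ⟨hc.trans, hc.symm.trans⟩)
        rw [h3, ← h1] at h2
        exact Nat.eq_of_mul_eq_mul_left (by
          haveI : Nonempty {g : G // IsConj h g} := ⟨⟨h, IsConj.refl h⟩⟩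
          exact Nat.card_pos) h2
      rw [hfil, Finset.sum_congr rfl hconst, Finset.sum_const, smul_eq_mul, ← Fintype.card_subtype,
        ← Nat.card_eq_fintype_card, ← mul_assoc]
      show 2 * Nat.card G ∣ BlocksChars.ClassAlg.classSize h * _ * a h
      rw [BlocksChars.ClassAlg.classSize_mul_card_centralizer, mul_comm 2]
      exact mul_dvd_mul_left _ (ha2 h)
    · rw [Finset.filter_eq_empty_iff.2 fun g _ e => hK ⟨g, e⟩, Finset.sum_empty]
      exact dvd_zero _
  rw [mul_comm 2] at hdiv
  exact Nat.dvd_of_mul_dvd_mul_left Nat.card_pos hdiv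

open scoped Classical in
/-- Symplectic characters have even degree and even values at involutions. -/
theorem even_value {χ : Cfsg.IrrCharacter G} (hν : nu (χ : G → ℂ) = -1) {v : G} (hv : v * v = 1) :
    ∃ n : ℤ, (χ : G → ℂ) v = ((2 * n : ℤ) : ℂ) := by
  have hreal := (nu_ne_zero_iff χ).1 (by rw [hν]; norm_num)
  have hloc : ∀ H : Subgroup G, ∀ [Fintype H], ∃ a : ℕ,
      (Nat.card H : ℂ) * (a : ℂ) = ∑ h : H, (χ : G → ℂ) h ∧ 2 ∣ a := by
    intro H _
    obtain ⟨n, τ, -, hτ⟩ := χ.2
    obtain ⟨a, ha⟩ := classInner_char_nat (G := H) (χ := fun h : H => (χ : G → ℂ) h)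
      ⟨n, τ.comp H.subtype, by funext h; rw [← hτ]; rfl⟩ (irr_isCharacter (trivIrr H))
    refine ⟨a, ?_, ?_⟩
    · rw [← ha, classInner_def, mul_inv_cancel_left₀ natCard_ne_zero]
      simp [trivIrr]
    by_contra hodd
    have h := BlocksChars.IndicatorRestrict.nu_eq_of_mult_odd H χ (trivIrr H) hreal
      (fun h => by simp [trivIrr]) (Nat.odd_iff.2 (by omega)) ha
    rw [hν] at h
    simp [nu, trivIrr, natCard_ne_zero] at h
    norm_num at h
  obtain ⟨a, ha, ⟨c, rfl⟩⟩ := hloc ⊥
  rw [Subgroup.card_bot, Nat.cast_one, one_mul, Fintype.sum_unique,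
    show ((default : (⊥ : Subgroup G)) : G) = 1 from Subgroup.mem_bot.1 (Subtype.prop _)] at ha
  by_cases h1 : v = 1
  · exact ⟨c, by rw [h1]; simpa using ha.symm⟩
  let H : Subgroup G :=
    { carrier := {1, v}
      one_mem' := Or.inl rfl
      mul_mem' := by
        rintro a b (rfl | rfl) (rfl | rfl) <;> simp [hv]
      inv_mem' := by
        rintro a (rfl | rfl)
        · simp
        · exact Or.inr (inv_eq_of_mul_eq_one_left hv) }
  haveI := Fintype.ofFinite H
  obtain ⟨b, hb, -⟩ := hloc H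
  have hu : (Finset.univ : Finset H) = {1, ⟨v, Or.inr rfl⟩} := by
    ext ⟨x, hx⟩
    rcases hx with rfl | rfl <;> simp [Subtype.ext_iff]
  have hne : (1 : H) ≠ ⟨v, Or.inr rfl⟩ := fun e => h1 (congrArg Subtype.val e).symm
  rw [Nat.card_eq_fintype_card, ← Finset.card_univ, hu, Finset.card_pair hne,
    Finset.sum_pair hne] at hb
  refine ⟨(b : ℤ) - c, ?_⟩
  have h1' : (χ : G → ℂ) ((1 : H) : G) = ((2 * c : ℕ) : ℂ) := by simpa using ha.symm
  rw [h1'] at hb
  push_cast at hb ⊢
  linear_combination -hb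

end Cfsg.Agent.Blocks.FreeTwo
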