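import Mathlib
import Cfsg.Agent.Lib.Blocks.FreeTwo.Facts

/-!
# The number of characters for a cyclic free inertial quotient on an elementary abelian 2-group

A transitive action forces `|P|` characters; five on a group of order sixteen forces eight.
-/

set_option autoImplicit false
set_option linter.style.haveILetI false
set_option linter.unusedSectionVars false

namespace Cfsg.Agent.Blocks.FreeTwo

open Cfsg.Agent.Blocks Cfsg.Agent.Blocks.Star Cfsg.Agent.Blocks.EightNine
open Cfsg.Agent.Characters Cfsg.Agent.FrobeniusSchur Cfsg.Agent.BlockCharsA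
open Cfsg.Agent.BlockCharsA.BrauerPairs Cfsg.Agent.BlockCharsA.PairConj
open Cfsg.Agent.BlockCharsA.PairLocal Cfsg.Agent.BlockCharsA.PairFusion
open Cfsg.Agent.BlockCharsA.PairPrincipal
open scoped ComplexConjugate

universe u

/-- A fixed-point-free automorphism splits the non-trivial elements into cycles of equal length,
which can be threaded into one. -/
theorem exists_thread {A : Type u} [Group A] [Finite A] {γ : MulAut A}
    (hfree : ∀ i : ℕ, ∀ v : A, v ≠ 1 → (γ ^ i) v = v → γ ^ i = 1) (hA : 1 < Nat.card A) :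
    ∃ (J : ℕ) (s : ℕ → A), Nat.card A - 1 = J * orderOf γ ∧
      (∀ n, s n ≠ 1) ∧ (∀ n, s (n + (Nat.card A - 1)) = s n) ∧
      Set.InjOn s (Set.Iio (Nat.card A - 1)) ∧ (∀ i n, (γ ^ i) (s n) = s (n + i * J)) := by
  classical
  haveI := Fintype.ofFinite A
  set e := orderOf γ with he
  have hfin : IsOfFinOrder γ := isOfFinOrder_of_finite γ
  have he0 : 0 < e := orderOf_pos γ
  let st : Setoid {v : A // v ≠ 1} :=
    { r := fun u w => ∃ i : ℕ, (γ ^ i) u.1 = w.1
      iseqv :=
        { refl := fun u => ⟨0, by simp⟩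
          symm := by
            rintro u w ⟨i, hi⟩
            refine ⟨i * (e - 1), ?_⟩
            rw [← hi, ← MulAut.mul_apply, ← pow_add,
              show i * (e - 1) + i = e * i by
                obtain ⟨e', he'⟩ : ∃ e', e = e' + 1 := ⟨e - 1, by omega⟩
                rw [he', Nat.add_sub_cancel]; ring,
              pow_mul, he, pow_orderOf_eq_one, one_pow, MulAut.one_apply]
          trans := by
            rintro u w z ⟨i, hi⟩ ⟨j, hj⟩
            exact ⟨j + i, by rw [pow_add, MulAut.mul_apply, hi, hj]⟩ } }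
  let Q := Quotient st
  haveI := Fintype.ofFinite Q
  set J := Fintype.card Q with hJ
  let q : Q ≃ Fin J := Fintype.equivFin Q
  let rep : Fin J → A := fun j => (q.symm j).out.1
  have hrep : ∀ j, rep j ≠ 1 := fun j => (q.symm j).out.2
  have hmap : ∀ (i : ℕ) {v : A}, v ≠ 1 → (γ ^ i) v ≠ 1 := fun i v hv h =>
    hv ((γ ^ i).injective (h.trans (map_one (γ ^ i)).symm))
  have hb : Function.Bijective fun a : Fin J × Fin e =>
      (⟨(γ ^ (a.2 : ℕ)) (rep a.1), hmap _ (hrep _)⟩ : {v : A // v ≠ 1}) := by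
    constructor
    · rintro ⟨j, i⟩ ⟨j', i'⟩ h
      have h1 : (γ ^ (i : ℕ)) (rep j) = (γ ^ (i' : ℕ)) (rep j') := congrArg Subtype.val h
      have h2 : j = j' := by
        apply q.symm.injective
        rw [← Quotient.out_eq (q.symm j), ← Quotient.out_eq (q.symm j')]
        refine Quotient.sound (st.trans (⟨(i : ℕ), rfl⟩ : st (q.symm j).out
          ⟨(γ ^ (i : ℕ)) (rep j), hmap _ (hrep _)⟩) (st.symm ⟨(i' : ℕ), h1.symm⟩))
      subst h2
      congr 1
      rcases le_total (i : ℕ) (i' : ℕ) with hle | hle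
      · have h3 : (γ ^ ((i' : ℕ) - i)) (rep j) = rep j := by
          refine (γ ^ (i : ℕ)).injective ?_
          rw [← MulAut.mul_apply, ← pow_add, Nat.add_sub_cancel' hle]
          exact h1.symm
        have h4 := orderOf_dvd_of_pow_eq_one (hfree _ _ (hrep j) h3)
        exact Fin.ext (by have := Nat.eq_zero_of_dvd_of_lt h4 (by omega); omega)
      · have h3 : (γ ^ ((i : ℕ) - i')) (rep j) = rep j := by
          refine (γ ^ (i' : ℕ)).injective ?_
          rw [← MulAut.mul_apply, ← pow_add, Nat.add_sub_cancel' hle]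
          exact h1
        have h4 := orderOf_dvd_of_pow_eq_one (hfree _ _ (hrep j) h3)
        exact Fin.ext (by have := Nat.eq_zero_of_dvd_of_lt h4 (by omega); omega)
    · intro v
      obtain ⟨i, hi⟩ := Quotient.mk_out (s := st) v
      refine ⟨(q (Quotient.mk st v), ⟨i % e, Nat.mod_lt _ he0⟩), Subtype.ext ?_⟩
      show (γ ^ (i % e)) (q.symm (q (Quotient.mk st v))).out.1 = v.1
      rw [he, pow_mod_orderOf, q.symm_apply_apply, hi]
  have hcard : Nat.card A - 1 = J * e := by
    have h := Fintype.card_congr (Equiv.ofBijective _ hb)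
    rw [Fintype.card_prod, Fintype.card_fin, Fintype.card_fin, Fintype.card_subtype_compl,
      Fintype.card_subtype_eq, ← Nat.card_eq_fintype_card] at h
    omega
  have hJ0 : 0 < J := by
    rcases Nat.eq_zero_or_pos J with h | h
    · rw [h, zero_mul] at hcard; omega
    · exact h
  refine ⟨J, fun n => (γ ^ (n / J)) (rep ⟨n % J, Nat.mod_lt _ hJ0⟩), hcard,
    fun n => hmap _ (hrep _), fun n => ?_, ?_, fun i n => ?_⟩
  · simp only [hcard, Nat.add_mul_div_left _ _ hJ0, Nat.add_mul_mod_self_left, pow_add, he,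
      pow_orderOf_eq_one, mul_one]
  · intro a ha b hb' h
    simp only [Set.mem_Iio, hcard] at ha hb'
    have hlt : ∀ c, c < J * e → c / J < e := fun c hc =>
      (Nat.div_lt_iff_lt_mul hJ0).2 (by rwa [mul_comm])
    have h2 := hb.injective (a₁ := (⟨a % J, Nat.mod_lt _ hJ0⟩, ⟨a / J, hlt a ha⟩))
      (a₂ := (⟨b % J, Nat.mod_lt _ hJ0⟩, ⟨b / J, hlt b hb'⟩)) (Subtype.ext h)
    simp only [Prod.mk.injEq, Fin.mk.injEq] at h2
    rw [← Nat.div_add_mod a J, ← Nat.div_add_mod b J, h2.1, h2.2]
  · show (γ ^ i) ((γ ^ (n / J)) _) = _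
    rw [← MulAut.mul_apply, ← pow_add, add_comm i]
    congr 1
    · rw [Nat.add_mul_div_right _ _ hJ0]
    · congr 1; exact Fin.ext (by simp)

variable {G : Type u} [Group G] [Finite G] {M : Ideal Cfsg.AlgInt}

/-- The counts. -/
theorem card_cases (hM : Cfsg.IsPModular 2 M) (P : Sylow 2 G)
    (hel : ∀ x ∈ (P : Subgroup G), x * x = 1)
    (hfree : Frees (P : Subgroup G) (prin M (P : Subgroup G)))
    (hcyc : IsCyclic (inertR (P : Subgroup G) (prin M (P : Subgroup G))))
    (hP1 : (P : Subgroup G) ≠ ⊥) :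
    (Nat.card (inertR (P : Subgroup G) (prin M (P : Subgroup G))) =
        Nat.card (P : Subgroup G) - 1 →
      Nat.card (Cfsg.principalBlock M G) = Nat.card (P : Subgroup G)) ∧
    (Nat.card (inertR (P : Subgroup G) (prin M (P : Subgroup G))) = 5 →
      Nat.card (P : Subgroup G) = 16 → Nat.card (Cfsg.principalBlock M G) = 8) := by
  classical
  haveI := Fintype.ofFinite G
  haveI := Fintype.ofFinite (P : Subgroup G)
  haveI := Fintype.ofFinite (Cfsg.IrrCharacter G)
  haveI : Fact (Nat.Prime 2) := ⟨Nat.prime_two⟩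
  set R := inertR (P : Subgroup G) (prin M (P : Subgroup G)) with hR
  set q := Nat.card (P : Subgroup G) with hq
  have hmax := isMaximal_prin hM P
  have hab := comm_of_exp (P : Subgroup G) hel
  have hq2 : 1 < q := by
    have h1 : 0 < q := Nat.card_pos
    have h2 : q ≠ 1 := fun h => hP1 (Subgroup.eq_bot_of_card_eq _ h)
    omega
  obtain ⟨⟨γ, hγR⟩, hγ⟩ := hcyc.exists_generator
  have hpow : ∀ β ∈ R, ∃ i : ℕ, γ ^ i = β := fun β hβ => by
    obtain ⟨i, hi⟩ := mem_powers_iff_mem_zpowers.2 (hγ ⟨β, hβ⟩)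
    exact ⟨i, by simpa using congrArg Subtype.val hi⟩
  have horder : orderOf γ = Nat.card R := by
    rw [← Subgroup.orderOf_mk (G := MulAut (P : Subgroup G)) γ hγR]
    exact (orderOf_eq_card_of_forall_mem_zpowers hγ)
  obtain ⟨J, s, hJ, hs1, hper, hinj, hshift⟩ := exists_thread (γ := γ)
    (fun i v hv h => hfree.eq_one (pow_mem hγR i) hv h) hq2
  rw [horder] at hJ
  have hequiv : ∀ x ∈ Subgroup.normalizer ((P : Subgroup G) : Set G),
      ∃ i : ℕ, ∀ n, x * (s n : G) * x⁻¹ = (s (n + i) : G) := by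
    intro x hx
    have hxs : x ∈ stab (P : Subgroup G) (prin M (P : Subgroup G)) := by rw [stab_prin hM]; exact hx
    obtain ⟨i, hi⟩ := hpow _ (inertAct_mem hxs)
    exact ⟨i * J, fun n => by rw [← hshift i n, hi]; rfl⟩
  set B := Cfsg.principalBlock M G with hB
  choose m hm using fun χ : Cfsg.IrrCharacter G => exists_mult χ
  have hbound := card_le_sum_mult hM P hel (N := q - 1) (by omega) (by omega) s hs1 hper hinj hequiv
    m hm
  set e := Nat.card R with he
  have he0 : 0 < e := Nat.card_pos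
  have heodd : ¬ 2 ∣ e := Frees.not_dvd_card hM P.2 hP1 hfree
  let Bs := Finset.univ.filter (· ∈ B)
  have hν : ∀ χ : Cfsg.IrrCharacter G, ∃ ν : ℤ, nu (χ : G → ℂ) = (ν : ℂ) ∧
      (ν = 0 ∨ ν = 1 ∨ ν = -1) := fun χ => by
    rcases nu_trichotomy χ with h | h | h
    exacts [⟨0, by simp [h], by simp⟩, ⟨1, by simp [h], by simp⟩, ⟨-1, by simp [h], by simp⟩]
  choose ν hνe hν3 using hν
  set D : Cfsg.IrrCharacter G → ℤ := fun χ => (m χ : ℤ) - ν χ with hD
  have hDs : ∀ χ ∈ Bs, ((e : ℤ) * D χ : ℂ) = invSum P (χ : G → ℂ) := fun χ hχ => by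
    rw [← mult_formula hM P hel hfree (Finset.mem_filter.1 hχ).2 (hm χ), hνe, ← hR, ← he]
    simp only [D]; push_cast; ring
  have hnorm : (e : ℤ) * ∑ χ ∈ Bs, D χ ^ 2 = (q - 1 : ℕ) * q := by
    have h := invSum_norm hM P hel hfree
    rw [← hR, ← he, Finset.sum_congr rfl (g := fun χ : Cfsg.IrrCharacter G =>
      ((e : ℂ) * e) * ((D χ ^ 2 : ℤ) : ℂ)) fun χ hχ => (by
      rw [← hDs χ hχ]
      simp only [map_mul, map_intCast, map_natCast, Int.cast_natCast]
      push_cast; ring), ← Finset.mul_sum, ← Int.cast_sum] at h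
    have he' : (e : ℂ) ≠ 0 := Nat.cast_ne_zero.2 he0.ne'
    have h2 : (e : ℂ) * ((∑ χ ∈ Bs, D χ ^ 2 : ℤ) : ℂ) = ((q - 1 : ℕ) : ℂ) * (q : ℂ) :=
      mul_left_cancel₀ he' (by rw [← mul_assoc, h]; ring)
    exact_mod_cast h2
  have hortho : ∑ χ ∈ Bs, ν χ * D χ = 0 := by
    have h := nu_invSum hM P hel
    rw [Finset.sum_congr rfl (g := fun χ : Cfsg.IrrCharacter G =>
      (e : ℂ) * ((ν χ * D χ : ℤ) : ℂ)) fun χ hχ => (by
      rw [← hDs χ hχ, hνe]; push_cast; ring), ← Finset.mul_sum, mul_eq_zero] at h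
    exact_mod_cast h.resolve_left (Nat.cast_ne_zero.2 he0.ne')
  have hν01 : ∀ χ ∈ Bs, ν χ = 0 ∨ ν χ = 1 := by
    intro χ hχ
    rcases hν3 χ with h | h | h
    · exact Or.inl h
    · exact Or.inr h
    exfalso
    have hνm : nu (χ : G → ℂ) = -1 := by rw [hνe, h]; simp
    obtain ⟨c, hc⟩ := even_mult hνm (hm χ)
    choose n hn using fun v : (P : Subgroup G) => even_value hνm (hel v v.2)
    have h2 := hDs χ hχ
    rw [invSum, Finset.sum_congr rfl fun v _ => hn v, ← Int.cast_sum, ← Finset.mul_sum] at h2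
    have h3 : (e : ℤ) * D χ = 2 * ∑ v ∈ Finset.univ.filter
        (fun v : (P : Subgroup G) => v ≠ 1), n v := by exact_mod_cast h2
    rcases Int.prime_two.dvd_or_dvd ⟨_, h3⟩ with h4 | h4
    · exact heodd (by exact_mod_cast h4)
    · obtain ⟨d, hd⟩ := h4
      simp only [D, h, hc] at hd
      push_cast at hd
      omega
  have hq' : (q : ℤ) ≤ ∑ χ ∈ Bs, (ν χ + D χ - ν χ * D χ) := by
    rw [Finset.sum_sub_distrib, hortho, sub_zero]
    have h : ((q - 1 + 1 : ℕ) : ℤ) ≤ ∑ χ ∈ Bs, (m χ : ℤ) := by exact_mod_cast hbound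
    rw [Nat.sub_add_cancel (by omega)] at h
    exact h.trans_eq (Finset.sum_congr rfl fun χ _ => by simp [D])
  have hcardB : Nat.card B = Bs.card := by
    rw [Nat.card_eq_fintype_card, ← Fintype.card_subtype]
  refine ⟨fun heN => ?_, fun he5 hq16 => ?_⟩
  · set v₀ := s 0
    have hne : ∀ χ ∈ Bs, D χ ≠ 0 := by
      intro χ hχ h0
      have hall : (Finset.univ.filter fun v : (P : Subgroup G) => v ≠ 1 ∧ IsConj (v : G) v₀) =
          Finset.univ.filter fun v : (P : Subgroup G) => v ≠ 1 := by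
        refine Finset.eq_of_subset_of_card_le (fun v hv => ?_) ?_
        · exact Finset.mem_filter.2 ⟨Finset.mem_univ _, (Finset.mem_filter.1 hv).2.1⟩
        · rw [card_fused hM P hel hfree (u := (v₀ : G))
            ⟨hel _ v₀.2, fun h => hs1 0 (Subtype.ext h)⟩, ← hR, ← he, heN, Finset.filter_ne',
            Finset.card_erase_of_mem (Finset.mem_univ _), Finset.card_univ,
            ← Nat.card_eq_fintype_card]
      have h1 := hDs χ hχ
      rw [h0, Int.cast_zero, mul_zero, invSum, ← hall, Finset.sum_congr rfl (g := fun _ =>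
        (χ : G → ℂ) (v₀ : G)) fun v hv => ?_, Finset.sum_const, nsmul_eq_mul, eq_comm,
        mul_eq_zero] at h1
      · have hfv := hfree.freeAt (hs1 0)
        refine h1.elim (fun h => ?_) (fun h => ?_)
        · rw [Nat.cast_eq_zero, hall, Finset.filter_ne', Finset.card_erase_of_mem
            (Finset.mem_univ _), Finset.card_univ, ← Nat.card_eq_fintype_card] at h
          omega
        · rw [value_eq_coef hM hmax hab hfv (Finset.mem_filter.1 hχ).2] at h
          exact coef_ne_zero hM hmax hab hfv (Finset.mem_filter.1 hχ).2 h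
      · exact BlocksChars.ClassAlg.classFun_eq_of_isConj (irr_isClassFunction χ)
          (Finset.mem_filter.1 hv).2.2
    rw [heN] at hnorm
    have hsq : ∑ χ ∈ Bs, D χ ^ 2 = (q : ℤ) :=
      mul_left_cancel₀ (by omega : ((q - 1 : ℕ) : ℤ) ≠ 0) hnorm
    have hterm : ∀ χ ∈ Bs, (D χ + ν χ) * (D χ - 1) ≥ 0 ∧
        ((D χ + ν χ) * (D χ - 1) = 0 → D χ ^ 2 = 1) := by
      intro χ hχ
      have hd := hne χ hχ
      rcases hν01 χ hχ with h | h <;> rw [h]
      · refine ⟨?_, fun e => ?_⟩
        · rcases lt_or_gt_of_ne hd with h' | h' <;> nlinarith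
        · rcases mul_eq_zero.1 e with e' | e'
          · omega
          · rw [sub_eq_zero.1 e']; norm_num
      · refine ⟨?_, fun e => ?_⟩
        · rcases lt_or_gt_of_ne hd with h' | h' <;> nlinarith
        · rcases mul_eq_zero.1 e with e' | e'
          · rw [show D χ = -1 by omega]; norm_num
          · rw [sub_eq_zero.1 e']; norm_num
    have hz : ∑ χ ∈ Bs, (D χ + ν χ) * (D χ - 1) = 0 := by
      refine le_antisymm ?_ (Finset.sum_nonneg fun χ hχ => (hterm χ hχ).1)
      have e1 : ∀ χ, (D χ + ν χ) * (D χ - 1) = D χ ^ 2 - (ν χ + D χ - ν χ * D χ) := fun χ => by ring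
      simp only [e1, Finset.sum_sub_distrib] at hq' ⊢
      omega
    have hone := fun χ hχ => (hterm χ hχ).2
      ((Finset.sum_eq_zero_iff_of_nonneg fun χ hχ => (hterm χ hχ).1).1 hz χ hχ)
    rw [Finset.sum_congr rfl hone, Finset.sum_const, nsmul_eq_mul, mul_one] at hsq
    rw [hcardB]
    exact_mod_cast hsq
  · have hnorm' : ∑ χ ∈ Bs, D χ ^ 2 = 48 := by rw [he5, hq16] at hnorm; omega
    obtain ⟨n, hn, hk, -, hl, -⟩ := free_counts hM hmax hab hP1 hfree
    rw [← hR, ← he, he5, ← hq, hq16] at hn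
    rw [← hR, ← he, he5] at hl
    by_contra hne8
    have hk7 : Bs.card ≤ 7 := by
      rw [← hcardB]
      have hk' : Nat.card B = n + Cfsg.blockRank 2 B := hk
      omega
    have h1B : trivIrr G ∈ Bs := Finset.mem_filter.2 ⟨Finset.mem_univ _, trivIrr_mem_principal hM⟩
    have hν1 : ν (trivIrr G) = 1 := by
      have h := hνe (trivIrr G)
      simp [nu, trivIrr, natCard_ne_zero] at h
      exact_mod_cast h.symm
    have hD1 : D (trivIrr G) = 3 := by
      have h := hDs _ h1B
      have h' : invSum P ((trivIrr G : Cfsg.IrrCharacter G) : G → ℂ) = ((15 : ℕ) : ℂ) := by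
        simp only [invSum, trivIrr, map_one]
        rw [Finset.sum_const, nsmul_eq_mul, mul_one, Finset.filter_ne',
          Finset.card_erase_of_mem (Finset.mem_univ _), Finset.card_univ,
          ← Nat.card_eq_fintype_card, ← hq, hq16]
      rw [h', he5] at h
      have h'' : (5 : ℤ) * D (trivIrr G) = 15 := by exact_mod_cast h
      omega
    set O := Bs.erase (trivIrr G) with hO
    have hOcard : O.card ≤ 6 := by rw [hO, Finset.card_erase_of_mem h1B]; omega
    rw [← Finset.sum_erase_add _ _ h1B, ← hO, hν1, hD1] at hq'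
    rw [← Finset.sum_erase_add _ _ h1B, ← hO, hD1] at hnorm'
    rw [← Finset.sum_erase_add _ _ h1B, ← hO, hν1, hD1] at hortho
    rw [hq16] at hq'
    set Z := O.filter (fun χ => ν χ = 0) with hZ
    have hterm : ∀ χ ∈ O, ν χ + D χ - ν χ * D χ = if ν χ = 0 then D χ else 1 := fun χ hχ => by
      rcases hν01 χ (Finset.mem_of_mem_erase hχ) with h | h <;> simp [h]
    rw [Finset.sum_congr rfl hterm, Finset.sum_ite, ← hZ, Finset.sum_const, nsmul_one] at hq'
    have hsplit := Finset.card_filter_add_card_filter_not (s := O) (fun χ => ν χ = 0)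
    rw [← hZ] at hsplit
    have hlt : Z.card < O.card := by
      refine lt_of_le_of_ne (Finset.card_filter_le _ _) fun h => ?_
      rw [Finset.sum_eq_zero fun χ hχ => by
        have : χ ∈ Z := by
          rw [hZ, Finset.eq_of_subset_of_card_le (Finset.filter_subset _ _) h.ge]; exact hχ
        rw [(Finset.mem_filter.1 this).2, zero_mul]] at hortho
      omega
    have hZsq : ∑ χ ∈ Z, D χ ^ 2 ≤ 39 :=
      le_trans (Finset.sum_le_sum_of_subset_of_nonneg (Finset.filter_subset _ _)
        fun χ _ _ => sq_nonneg _) (by omega)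
    have hcs := sq_sum_le_card_mul_sum_sq (s := Z) (f := fun χ => D χ)
    have hsum : 9 + (Z.card : ℤ) ≤ ∑ χ ∈ Z, D χ := by
      push_cast at hq'
      omega
    have hn5 : Z.card ≤ 5 := by omega
    have hcs' : (9 + (Z.card : ℤ)) ^ 2 ≤ (Z.card : ℤ) * 39 := by
      refine le_trans (pow_le_pow_left₀ (by positivity) hsum 2) (hcs.trans ?_)
      exact mul_le_mul_of_nonneg_left hZsq (by positivity)
    interval_cases hc : Z.card <;> norm_num at hcs'

end Cfsg.Agent.Blocks.FreeTwo
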