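import Mathlib
import Cfsg.Agent.S4571
import Cfsg.Agent.Lib.Blocks.Star.Watanabe
import Cfsg.Agent.Lib.Blocks.EightNine.Local

/-!
# Splitting off the fixed points of the inertial group on an abelian Sylow 2-subgroup

If the inertial group acts freely outside its fixed points `F`, the local ranks on `F` all equal
the rank of the principal block of `C(F) / F`, where the action is free.
-/

set_option autoImplicit false
set_option linter.style.haveILetI false
set_option linter.unusedSectionVars false

namespace Cfsg.Agent.Blocks.FreeTwo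

open Cfsg.Agent.Blocks Cfsg.Agent.Blocks.Star Cfsg.Agent.Blocks.EightNine
open Cfsg.Agent.Characters Cfsg.Agent.BlockCharsA
open Cfsg.Agent.BlockCharsA.BrauerPairs Cfsg.Agent.BlockCharsA.PairConj
open Cfsg.Agent.BlockCharsA.PairLocal Cfsg.Agent.BlockCharsA.PairFusion
open Cfsg.Agent.BlockCharsA.PairPrincipal

universe u

variable {G : Type u} [Group G] [Finite G] {M : Ideal Cfsg.AlgInt}

/-- The order of the inertial group of the principal block. -/
theorem card_inertR_prin (hM : Cfsg.IsPModular 2 M) (P : Subgroup G) :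
    Nat.card (inertR P (prin M P)) =
      (Subgroup.centralizer (P : Set G)).relIndex (Subgroup.normalizer (P : Set G)) := by
  rw [card_inertR, stab_prin hM]

/-- The inertial group of an abelian Sylow 2-subgroup has odd order. -/
theorem odd_inertR (hM : Cfsg.IsPModular 2 M) (P : Sylow 2 G)
    (hab : ∀ x ∈ (P : Subgroup G), ∀ y ∈ (P : Subgroup G), x * y = y * x) :
    ¬ 2 ∣ Nat.card (inertR (P : Subgroup G) (prin M (P : Subgroup G))) := by
  haveI : Fact (Nat.Prime 2) := ⟨Nat.prime_two⟩
  rw [card_inertR_prin hM]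
  intro h
  have hPC : (P : Subgroup G) ≤ Subgroup.centralizer ((P : Subgroup G) : Set G) :=
    fun x hx y hy => hab y hy x hx
  have h1 := Subgroup.relIndex_dvd_index_of_le (H := (P : Subgroup G))
    (K := Subgroup.centralizer ((P : Subgroup G) : Set G)) hPC
  have h2 : (Subgroup.centralizer ((P : Subgroup G) : Set G)).relIndex
      (Subgroup.normalizer ((P : Subgroup G) : Set G)) ∣
        (Subgroup.centralizer ((P : Subgroup G) : Set G)).index :=
    Subgroup.relIndex_dvd_index_of_le (Subgroup.centralizer_le_normalizer _)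
  exact P.not_dvd_index ((h.trans h2).trans (Subgroup.index_dvd_of_le hPC))

/-- An element fixing a coset of the fixed points fixes its elements. -/
theorem fixed_of_coset (hM : Cfsg.IsPModular 2 M) (P : Sylow 2 G)
    (hab : ∀ x ∈ (P : Subgroup G), ∀ y ∈ (P : Subgroup G), x * y = y * x) {F : Subgroup G}
    (hFP : F ≤ (P : Subgroup G))
    (hfix : ∀ t ∈ Subgroup.normalizer ((P : Subgroup G) : Set G), ∀ f ∈ F, t * f * t⁻¹ = f)
    {t v : G} (ht : t ∈ Subgroup.normalizer ((P : Subgroup G) : Set G)) (hv : v ∈ (P : Subgroup G))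
    (h : v⁻¹ * (t * v * t⁻¹) ∈ F) : t * v * t⁻¹ = v := by
  haveI : Fact (Nat.Prime 2) := ⟨Nat.prime_two⟩
  set f := v⁻¹ * (t * v * t⁻¹) with hf
  have hiter : ∀ n : ℕ, t ^ n * v * (t ^ n)⁻¹ = v * f ^ n := by
    intro n
    induction n with
    | zero => simp
    | succ n ih =>
      rw [pow_succ', show t * t ^ n * v * (t * t ^ n)⁻¹ = t * (t ^ n * v * (t ^ n)⁻¹) * t⁻¹ by group,
        ih, show t * (v * f ^ n) * t⁻¹ = t * v * t⁻¹ * (t * f ^ n * t⁻¹) by group,
        hfix t ht _ (pow_mem h n), show t * v * t⁻¹ = v * f by rw [hf, mul_inv_cancel_left],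
        mul_assoc, ← pow_succ']
  set e := Nat.card (inertR (P : Subgroup G) (prin M (P : Subgroup G))) with he
  have hts : t ∈ stab (P : Subgroup G) (prin M (P : Subgroup G)) := by rw [stab_prin hM]; exact ht
  have hpow : (⟨inertAct (P : Subgroup G) _ ⟨t, hts⟩, inertAct_mem hts⟩ :
      inertR (P : Subgroup G) (prin M (P : Subgroup G))) ^ e = 1 := pow_card_eq_one'
  have hC : t ^ e ∈ Subgroup.centralizer ((P : Subgroup G) : Set G) := by
    refine mem_centralizer_of_inertAct (pow_mem hts e) ?_
    have := congrArg Subtype.val hpow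
    rw [SubgroupClass.coe_pow, ← map_pow] at this
    exact this
  have hfe : f ^ e = 1 := by
    have h1 := hiter e
    rw [← hC v hv, mul_inv_cancel_right] at h1
    exact mul_eq_left.1 h1.symm
  obtain ⟨k, hk⟩ := IsPGroup.iff_orderOf.1 P.2 ⟨f, hFP h⟩
  rw [Subgroup.orderOf_mk] at hk
  have hk0 : k = 0 := by
    by_contra hk0
    exact odd_inertR hM P hab ((dvd_pow_self 2 hk0).trans (hk ▸ orderOf_dvd_of_pow_eq_one hfe))
  have hf1 : f = 1 := orderOf_eq_one_iff.1 (by rw [hk, hk0, pow_zero])
  exact (inv_mul_eq_one.1 hf1).symm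

/-- The group `C(F) / F` with its free inertial action. -/
theorem exists_free_quotient (hM : Cfsg.IsPModular 2 M) (P : Sylow 2 G)
    (hab : ∀ x ∈ (P : Subgroup G), ∀ y ∈ (P : Subgroup G), x * y = y * x) {F : Subgroup G}
    (hFP : F ≤ (P : Subgroup G))
    (hfix : ∀ t ∈ Subgroup.normalizer ((P : Subgroup G) : Set G), ∀ f ∈ F, t * f * t⁻¹ = f)
    (hfree : ∀ t ∈ Subgroup.normalizer ((P : Subgroup G) : Set G), ∀ v ∈ (P : Subgroup G), v ∉ F →
      t * v * t⁻¹ = v → t ∈ Subgroup.centralizer ((P : Subgroup G) : Set G))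
    (hne : ¬ (P : Subgroup G) ≤ F) :
    ∃ (H : Type u) (_ : Group H) (_ : Finite H) (Q : Sylow 2 H),
      Nat.card F * Nat.card (Q : Subgroup H) = Nat.card (P : Subgroup G) ∧
      (∀ x ∈ (Q : Subgroup H), ∀ y ∈ (Q : Subgroup H), x * y = y * x) ∧
      Frees (Q : Subgroup H) (prin M (Q : Subgroup H)) ∧
      Nat.card (inertR (Q : Subgroup H) (prin M (Q : Subgroup H))) =
        Nat.card (inertR (P : Subgroup G) (prin M (P : Subgroup G))) ∧
      Cfsg.blockRank 2 (Cfsg.principalBlock M (Subgroup.centralizer (F : Set G))) =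
        Cfsg.blockRank 2 (Cfsg.principalBlock M H) := by
  haveI : Fact (Nat.Prime 2) := ⟨Nat.prime_two⟩
  set K := Subgroup.centralizer (F : Set G) with hK
  have hPK : (P : Subgroup G) ≤ K := fun x hx f hf => hab f (hFP hf) x hx
  have hNK : Subgroup.normalizer ((P : Subgroup G) : Set G) ≤ K := fun t ht f hf => by
    have h := hfix t ht f hf
    conv_lhs => rw [← h]
    group
  have hFK : F ≤ K := fun f hf => hPK (hFP hf)
  set Z := F.subgroupOf K with hZ
  have hZc : Z ≤ Subgroup.center K := fun z hz => Subgroup.mem_center_iff.2 fun k =>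
    Subtype.ext ((k.2 (z : G) hz).symm)
  haveI : Z.Normal := ⟨fun z hz k => by
    rw [(Subgroup.mem_center_iff.1 (hZc hz) k), mul_inv_cancel_right]; exact hz⟩
  set π := QuotientGroup.mk' Z with hπ
  have hπs : Function.Surjective π := QuotientGroup.mk'_surjective Z
  set P' : Sylow 2 K := P.subtype hPK with hP'
  set Q : Sylow 2 (K ⧸ Z) := P'.mapSurjective hπs with hQ
  have hQc : (Q : Subgroup (K ⧸ Z)) = ((P : Subgroup G).subgroupOf K).map π := rfl
  have hZP : Z ≤ (P : Subgroup G).subgroupOf K := fun z hz => hFP hz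
  have hker : π.ker = Z := QuotientGroup.ker_mk' Z
  have hmem : ∀ k : K, π k ∈ (Q : Subgroup (K ⧸ Z)) ↔ (k : G) ∈ (P : Subgroup G) := by
    intro k
    rw [hQc, ← Subgroup.mem_comap, Subgroup.comap_map_eq, hker, sup_of_le_left hZP]
    rfl
  have hQab : ∀ x ∈ (Q : Subgroup (K ⧸ Z)), ∀ y ∈ (Q : Subgroup (K ⧸ Z)), x * y = y * x := by
    intro x hx y hy
    obtain ⟨a, rfl⟩ := hπs x
    obtain ⟨b, rfl⟩ := hπs y
    rw [← map_mul, ← map_mul]
    exact congrArg π (Subtype.ext (hab _ ((hmem a).1 hx) _ ((hmem b).1 hy)))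
  have hnorm : ∀ k : K, π k ∈ Subgroup.normalizer ((Q : Subgroup (K ⧸ Z)) : Set (K ⧸ Z)) ↔
      (k : G) ∈ Subgroup.normalizer ((P : Subgroup G) : Set G) := by
    intro k
    simp only [Subgroup.mem_normalizer_iff]
    constructor
    · intro h x
      constructor
      · intro hx
        have := (h (π ⟨x, hPK hx⟩)).1 ((hmem _).2 hx)
        rw [← map_inv, ← map_mul, ← map_mul, hmem] at this
        exact this
      · intro hx
        have hxK : x ∈ K := by
          have := mul_mem (mul_mem (inv_mem k.2) (hPK hx)) k.2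
          rwa [show (k : G)⁻¹ * ((k : G) * x * (k : G)⁻¹) * k = x by group] at this
        refine (hmem ⟨x, hxK⟩).1 ((h (π ⟨x, hxK⟩)).2 ?_)
        rw [← map_inv, ← map_mul, ← map_mul, hmem]
        exact hx
    · intro h z
      obtain ⟨x, rfl⟩ := hπs z
      rw [← map_inv, ← map_mul, ← map_mul, hmem, hmem]
      exact h x
  have hcent : ∀ k : K, (k : G) ∈ Subgroup.normalizer ((P : Subgroup G) : Set G) →
      (π k ∈ Subgroup.centralizer ((Q : Subgroup (K ⧸ Z)) : Set (K ⧸ Z)) ↔
        (k : G) ∈ Subgroup.centralizer ((P : Subgroup G) : Set G)) := by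
    intro k hk
    constructor
    · intro h
      obtain ⟨v, hv, hvF⟩ := SetLike.not_le_iff_exists.1 hne
      refine hfree k hk v hv hvF (fixed_of_coset hM P hab hFP hfix hk hv ?_)
      have h1 := h (π ⟨v, hPK hv⟩) ((hmem _).2 hv)
      have h2 : π ((⟨v, hPK hv⟩ : K)⁻¹ * (k * ⟨v, hPK hv⟩ * k⁻¹)) = 1 := by
        rw [map_mul, map_mul, map_mul, map_inv, map_inv, ← h1, mul_inv_cancel_right,
          inv_mul_cancel]
      rw [← MonoidHom.mem_ker, hker] at h2
      exact h2
    · intro h z hz
      obtain ⟨x, rfl⟩ := hπs z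
      rw [← map_mul, ← map_mul]
      exact congrArg π (Subtype.ext (h x ((hmem x).1 hz)))
  refine ⟨K ⧸ Z, inferInstance, inferInstance, Q, ?_, hQab, ?_, ?_, ?_⟩
  · have h2 : Nat.card ((P : Subgroup G).subgroupOf K) =
        Nat.card (Q : Subgroup (K ⧸ Z)) * Nat.card Z := by
      rw [hQc, Subgroup.card_eq_card_quotient_mul_card_subgroup
        (Z.subgroupOf ((P : Subgroup G).subgroupOf K)),
        Nat.card_congr (Subgroup.subgroupOfEquivOfLe hZP).toEquiv]
      congr 1
      have e := QuotientGroup.quotientKerEquivRange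
        (π.comp ((P : Subgroup G).subgroupOf K).subtype)
      have hk' : (π.comp ((P : Subgroup G).subgroupOf K).subtype).ker =
          Z.subgroupOf ((P : Subgroup G).subgroupOf K) := by
        rw [← MonoidHom.comap_ker, hker]; rfl
      rw [← hk', Nat.card_congr e.toEquiv, MonoidHom.range_comp, Subgroup.range_subtype]
    rw [Nat.card_congr (Subgroup.subgroupOfEquivOfLe hPK).toEquiv,
      Nat.card_congr (Subgroup.subgroupOfEquivOfLe hFK).toEquiv] at h2
    rw [h2, mul_comm]
  · intro z hz w hw hw1 hzw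
    obtain ⟨k, rfl⟩ := hπs z
    obtain ⟨v, rfl⟩ := hπs w
    rw [stab_prin hM, hnorm] at hz
    have hvP := (hmem v).1 hw
    have hvF : (v : G) ∉ F := fun h => hw1 (by rw [← MonoidHom.mem_ker, hker]; exact h)
    have h2 : π (v⁻¹ * (k * v * k⁻¹)) = 1 := by
      rw [map_mul, map_mul, map_mul, map_inv, map_inv, hzw, inv_mul_cancel]
    rw [← MonoidHom.mem_ker, hker] at h2
    exact (hcent k hz).2 (hfree k hz v hvP hvF (fixed_of_coset hM P hab hFP hfix hz hvP h2))
  · rw [card_inertR_prin hM, card_inertR_prin hM,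
      ← Subgroup.relIndex_subgroupOf (H := Subgroup.centralizer ((P : Subgroup G) : Set G)) hNK]
    have hmapN : Subgroup.normalizer ((Q : Subgroup (K ⧸ Z)) : Set (K ⧸ Z)) =
        ((Subgroup.normalizer ((P : Subgroup G) : Set G)).subgroupOf K).map π := by
      ext z
      obtain ⟨k, rfl⟩ := hπs z
      constructor
      · intro hz
        exact ⟨k, (hnorm k).1 hz, rfl⟩
      · rintro ⟨k', hk', e⟩
        rw [← e]
        exact (hnorm k').2 hk'
    rw [hmapN, ← Subgroup.relIndex_comap, ← Subgroup.inf_relIndex_right,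
      ← Subgroup.inf_relIndex_right ((Subgroup.centralizer ((P : Subgroup G) : Set G)).subgroupOf K)]
    congr 1
    ext k
    simp only [Subgroup.mem_inf, Subgroup.mem_comap, Subgroup.mem_subgroupOf]
    exact and_congr_left fun hk => hcent k hk
  · refine Cfsg.Agent.S4571.result 2 M hM Z (P.2.to_le hFP).comap_subtype ?_
    refine sup_eq_right.2 (fun z hz => ?_) |>.trans ?_
    · exact fun y hy => Subgroup.mem_center_iff.1 (hZc hz) y
    · exact eq_top_iff.2 fun k _ y hy => ((Subgroup.mem_center_iff.1 (hZc hy)) k).symm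

/-- The local ranks on the fixed points. -/
theorem lv_fixed [Fintype G] (hM : Cfsg.IsPModular 2 M) (P : Sylow 2 G)
    (hab : ∀ x ∈ (P : Subgroup G), ∀ y ∈ (P : Subgroup G), x * y = y * x) {F : Subgroup G}
    (hFP : F ≤ (P : Subgroup G))
    (hfix : ∀ t ∈ Subgroup.normalizer ((P : Subgroup G) : Set G), ∀ f ∈ F, t * f * t⁻¹ = f)
    {v : G} (hv : v ∈ F) :
    lv 2 M (prin M (P : Subgroup G)) (Subgroup.zpowers v) =
      Cfsg.blockRank 2 (Cfsg.principalBlock M (Subgroup.centralizer (F : Set G))) := by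
  classical
  haveI : Fact (Nat.Prime 2) := ⟨Nat.prime_two⟩
  have hmax := isMaximal_prin hM P
  have key : ∀ s : Finset F, lv 2 M (prin M (P : Subgroup G)) (Subgroup.zpowers v) =
      lv 2 M (prin M (P : Subgroup G))
        (Subgroup.closure (insert v ((s.image fun f : F => (f : G)) : Set G))) := by
    intro s
    induction s using Finset.induction with
    | empty => simp [Subgroup.zpowers_eq_closure]
    | insert z s _ ih =>
      rw [ih, Finset.image_insert, Finset.coe_insert, Set.insert_comm,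
        Set.insert_eq (z : G), Subgroup.closure_union, sup_comm, ← Subgroup.zpowers_eq_closure]
      refine lv_sup_eq hM hmax hab _ _ ((Subgroup.closure_le _).2 ?_) rfl z (hFP z.2) fun t ht _ => ?_
      · rintro x (rfl | hx)
        · exact hFP hv
        · obtain ⟨f, -, rfl⟩ := Finset.mem_image.1 hx
          exact hFP f.2
      · rw [stab_prin hM] at ht
        exact hfix t ht z z.2
  haveI := Fintype.ofFinite F
  rw [key Finset.univ, show Subgroup.closure (insert v (((Finset.univ : Finset F).image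
    fun f : F => (f : G)) : Set G)) = F from le_antisymm ((Subgroup.closure_le _).2 ?_)
      fun f hf => Subgroup.subset_closure (Or.inr (Finset.mem_image.2 ⟨⟨f, hf⟩, Finset.mem_univ _, rfl⟩)),
    lv_eq hM hmax (subpairLE_prin hM _ F (P : Subgroup G) rfl P.2 hFP)]
  rintro x (rfl | hx)
  · exact hv
  · obtain ⟨f, -, rfl⟩ := Finset.mem_image.1 hx
    exact f.2

open scoped Classical in
/-- The number of characters. -/
theorem card_eq_fixed (hM : Cfsg.IsPModular 2 M) (P : Sylow 2 G)
    (hab : ∀ x ∈ (P : Subgroup G), ∀ y ∈ (P : Subgroup G), x * y = y * x) {F : Subgroup G}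
    (hFP : F ≤ (P : Subgroup G))
    (hfix : ∀ t ∈ Subgroup.normalizer ((P : Subgroup G) : Set G), ∀ f ∈ F, t * f * t⁻¹ = f)
    (hfree : ∀ t ∈ Subgroup.normalizer ((P : Subgroup G) : Set G), ∀ v ∈ (P : Subgroup G), v ∉ F →
      t * v * t⁻¹ = v → t ∈ Subgroup.centralizer ((P : Subgroup G) : Set G))
    {n : ℕ} (hn : Nat.card (P : Subgroup G) =
      Nat.card F + n * Nat.card (inertR (P : Subgroup G) (prin M (P : Subgroup G)))) :
    Nat.card (Cfsg.principalBlock M G) = Nat.card F *
      Cfsg.blockRank 2 (Cfsg.principalBlock M (Subgroup.centralizer (F : Set G))) + n := by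
  haveI : Fact (Nat.Prime 2) := ⟨Nat.prime_two⟩
  haveI := Fintype.ofFinite G
  haveI := Fintype.ofFinite (P : Subgroup G)
  have hmax := isMaximal_prin hM P
  set l := Cfsg.blockRank 2 (Cfsg.principalBlock M (Subgroup.centralizer (F : Set G)))
  set e := Nat.card (inertR (P : Subgroup G) (prin M (P : Subgroup G))) with he
  have he0 : (e : ℂ) ≠ 0 := Nat.cast_ne_zero.2 Nat.card_pos.ne'
  have h := card_eq_sum hM hmax hab
  rw [← Finset.sum_filter_add_sum_filter_not Finset.univ
    (fun v : (P : Subgroup G) => (v : G) ∈ F)] at h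
  rw [Finset.sum_congr rfl (g := fun _ => (l : ℂ)) fun v hv => ?_,
    Finset.sum_congr (s₁ := Finset.univ.filter fun v : (P : Subgroup G) => ¬ (v : G) ∈ F) rfl
      (g := fun _ => 1 / (e : ℂ)) fun v hv => ?_] at h
  · have hcardF : (Finset.univ.filter fun v : (P : Subgroup G) => (v : G) ∈ F).card = Nat.card F := by
      rw [← Fintype.card_subtype, ← Nat.card_eq_fintype_card]
      exact Nat.card_congr (Subgroup.subgroupOfEquivOfLe hFP).toEquiv
    have hsplit := Finset.card_filter_add_card_filter_not (s := (Finset.univ : Finset (P : Subgroup G)))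
      (fun v : (P : Subgroup G) => (v : G) ∈ F)
    rw [hcardF, Finset.card_univ, ← Nat.card_eq_fintype_card, hn] at hsplit
    rw [Finset.sum_const, Finset.sum_const, nsmul_eq_mul, nsmul_eq_mul, hcardF,
      show (Finset.univ.filter fun v : (P : Subgroup G) => ¬ (v : G) ∈ F).card = n * e by omega,
      Nat.cast_mul, mul_one_div, mul_div_cancel_right₀ _ he0] at h
    exact_mod_cast h
  · have hvF := (Finset.mem_filter.1 hv).2
    have hfr : ∀ β ∈ inertR (P : Subgroup G) (prin M (P : Subgroup G)), β v = v → β = 1 := by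
      intro β hβ hβv
      obtain ⟨t, ht, htv⟩ := inertR_exists hβ
      have hC := hfree t (by rw [← stab_prin hM]; exact ht) v v.2 hvF (by rw [← htv v, hβv])
      refine MulEquiv.ext fun w => Subtype.ext ?_
      rw [htv w, ← hC w w.2, mul_inv_cancel_right]
      rfl
    rw [card_orbS_free v hfr, lv_free hM hmax hab (freeAt_of v hfr), Nat.cast_one, ← he]
  · have hvF := (Finset.mem_filter.1 hv).2
    have hall : ∀ β ∈ inertR (P : Subgroup G) (prin M (P : Subgroup G)), β v = v := fun β hβ => by
      obtain ⟨t, ht, htv⟩ := inertR_exists hβ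
      rw [stab_prin hM] at ht
      exact Subtype.ext (by rw [htv v, hfix t ht v hvF])
    rw [card_orbS_fixed v hall, Nat.cast_one, div_one, lv_fixed hM P hab hFP hfix hvF]

end Cfsg.Agent.Blocks.FreeTwo
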