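import Mathlib
import Cfsg.Agent.Lib.Blocks.FreeTwo.Fixed
import Cfsg.Agent.Lib.Blocks.FreeTwo.Counts

/-!
# Inertial actions of prime order and transitive actions
-/

set_option autoImplicit false
set_option linter.style.haveILetI false
set_option linter.unusedSectionVars false

namespace Cfsg.Agent.Blocks.FreeTwo

open Cfsg.Agent.Blocks Cfsg.Agent.Blocks.Star Cfsg.Agent.Blocks.EightNine
open Cfsg.Agent.Characters Cfsg.Agent.BlockCharsA
open Cfsg.Agent.BlockCharsA.BrauerPairs Cfsg.Agent.BlockCharsA.PairConj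
open Cfsg.Agent.BlockCharsA.PairLocal Cfsg.Agent.BlockCharsA.PairFusion
open Cfsg.Agent.BlockCharsA.PairPrincipal

universe u

/-- A group of order fifteen is cyclic. -/
theorem isCyclic_fifteen {A : Type u} [Group A] (h : Nat.card A = 15) : IsCyclic A := by
  classical
  haveI : Finite A := Nat.finite_of_card_ne_zero (by omega)
  haveI : Fact (Nat.Prime 5) := ⟨by norm_num⟩
  haveI : Fact (Nat.Prime 3) := ⟨by norm_num⟩
  obtain ⟨a, ha⟩ := exists_prime_orderOf_dvd_card' (G := A) 5 (by omega)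
  obtain ⟨b, hb⟩ := exists_prime_orderOf_dvd_card' (G := A) 3 (by omega)
  haveI hN : (Subgroup.zpowers a).Normal := by
    refine Subgroup.normal_of_index_eq_minFac_card ?_
    have h1 := (Subgroup.zpowers a).index_mul_card
    rw [Nat.card_zpowers, ha, h] at h1
    rw [show (Subgroup.zpowers a).index = 3 by omega, h]
    norm_num
  obtain ⟨i, hi⟩ := Subgroup.mem_zpowers_iff.1
    (hN.conj_mem a (Subgroup.mem_zpowers a) b)
  have hiter : ∀ n : ℕ, b ^ n * a * (b ^ n)⁻¹ = a ^ (i ^ n) := by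
    intro n
    induction n with
    | zero => simp
    | succ n ih =>
      rw [pow_succ', show b * b ^ n * a * (b * b ^ n)⁻¹ = b * (b ^ n * a * (b ^ n)⁻¹) * b⁻¹ by group,
        ih, ← conj_zpow, ← hi, ← zpow_mul, ← pow_succ']
  have h3 : a ^ (i ^ 3 : ℤ) = a ^ (1 : ℤ) := by
    rw [← hiter 3, show b ^ 3 = 1 from hb ▸ pow_orderOf_eq_one b]; simp
  rw [zpow_eq_zpow_iff_modEq, ha] at h3
  have hi1 : i ≡ 1 [ZMOD 5] := by
    have hr : i % 5 = 0 ∨ i % 5 = 1 ∨ i % 5 = 2 ∨ i % 5 = 3 ∨ i % 5 = 4 := by omega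
    have hp : i ^ 3 % 5 = (i % 5) ^ 3 % 5 := (Int.ModEq.pow 3 (Int.mod_modEq i 5)).symm
    unfold Int.ModEq at h3 ⊢
    push_cast at h3
    rcases hr with r | r | r | r | r <;> rw [r] at hp <;> norm_num at hp h3 ⊢ <;> omega
  have hcomm : Commute a b := by
    have h' : a ^ i = a ^ (1 : ℤ) := zpow_eq_zpow_iff_modEq.2 (by rw [ha]; exact_mod_cast hi1)
    rw [hi, zpow_one] at h'
    exact (mul_inv_eq_iff_eq_mul.1 h').symm
  refine isCyclic_of_orderOf_eq_card (a * b) ?_
  rw [hcomm.orderOf_mul_eq_mul_orderOf_of_coprime (by rw [ha, hb]; norm_num), ha, hb, h]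

variable {G : Type u} [Group G] [Finite G] {M : Ideal Cfsg.AlgInt}

/-- A set stable under a free action has a multiple of the order of the group as size. -/
theorem dvd_card_stable (hM : Cfsg.IsPModular 2 M) (P : Subgroup G) (S : Set P)
    (hS : ∀ β ∈ inertR P (prin M P), ∀ v ∈ S, β v ∈ S)
    (hfree : ∀ β ∈ inertR P (prin M P), ∀ v ∈ S, β v = v → β = 1) :
    Nat.card (inertR P (prin M P)) ∣ Nat.card S := by
  classical
  haveI := Fintype.ofFinite S
  letI : MulAction (inertR P (prin M P)) S :=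
    { smul := fun β v => ⟨(β : MulAut P) v.1, hS _ β.2 _ v.2⟩
      one_smul := fun v => rfl
      mul_smul := fun β β' v => rfl }
  have h := dvd_card_of_stabilizer (X := S) (⊥ : Subgroup (inertR P (prin M P)))
    fun v β hβ => Subgroup.mem_bot.2 (Subtype.ext
      (hfree _ β.2 _ v.2 (congrArg Subtype.val (MulAction.mem_stabilizer_iff.1 hβ))))
  rwa [Subgroup.index_bot] at h

/-- A transitive free action lives on an elementary abelian group. -/
theorem exp_two_of_transitive (hM : Cfsg.IsPModular 2 M) (P : Sylow 2 G)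
    (hfree : Frees (P : Subgroup G) (prin M (P : Subgroup G))) (hP1 : (P : Subgroup G) ≠ ⊥)
    (he : Nat.card (inertR (P : Subgroup G) (prin M (P : Subgroup G))) =
      Nat.card (P : Subgroup G) - 1) :
    ∀ x ∈ (P : Subgroup G), x * x = 1 := by
  classical
  haveI : Fact (Nat.Prime 2) := ⟨Nat.prime_two⟩
  haveI := Fintype.ofFinite (P : Subgroup G)
  obtain ⟨k, hk⟩ := IsPGroup.iff_card.1 P.2
  have hk0 : k ≠ 0 := fun h => hP1 (Subgroup.eq_bot_of_card_eq _ (by rw [hk, h, pow_zero]))
  obtain ⟨z, hz⟩ := exists_prime_orderOf_dvd_card' (G := (P : Subgroup G)) 2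
    (hk ▸ dvd_pow_self 2 hk0)
  have hz1 : z ≠ 1 := fun h => by simp [h] at hz
  intro x hx
  by_cases hx1 : x = 1
  · rw [hx1, one_mul]
  have hsub : (Finset.univ.image fun β : inertR (P : Subgroup G) (prin M (P : Subgroup G)) =>
      (β : MulAut (P : Subgroup G)) z) = Finset.univ.erase 1 := by
    refine Finset.eq_of_subset_of_card_le (fun v hv => ?_) ?_
    · obtain ⟨β, -, rfl⟩ := Finset.mem_image.1 hv
      exact Finset.mem_erase.2 ⟨fun h => hz1 ((β : MulAut (P : Subgroup G)).injective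
        (h.trans (map_one (β : MulAut (P : Subgroup G))).symm)), Finset.mem_univ _⟩
    · rw [Finset.card_image_of_injective _ fun β γ h => ?_, Finset.card_univ,
        Finset.card_erase_of_mem (Finset.mem_univ _), Finset.card_univ, ← Nat.card_eq_fintype_card,
        ← Nat.card_eq_fintype_card, he]
      refine Subtype.ext (inv_mul_eq_one.1 (hfree.eq_one (mul_mem (inv_mem β.2) γ.2) hz1 ?_))
      rw [MulAut.mul_apply, show (γ : MulAut (P : Subgroup G)) z = (β : MulAut _) z from h.symm]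
      exact (β : MulAut (P : Subgroup G)).symm_apply_apply z
  have hxm : (⟨x, hx⟩ : (P : Subgroup G)) ∈ (Finset.univ.erase 1 : Finset (P : Subgroup G)) :=
    Finset.mem_erase.2 ⟨fun h => hx1 (congrArg Subtype.val h), Finset.mem_univ _⟩
  rw [← hsub, Finset.mem_image] at hxm
  obtain ⟨β, -, hβ⟩ := hxm
  have h2 : (⟨x, hx⟩ : (P : Subgroup G)) * ⟨x, hx⟩ = 1 := by
    have hzz : z * z = 1 := by
      have h := pow_orderOf_eq_one z
      rwa [hz, pow_two] at h
    rw [← hβ, ← map_mul, hzz, map_one]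
  exact congrArg Subtype.val h2

/-- The rank for order three on a four-group. -/
theorem rank_three_four (hM : Cfsg.IsPModular 2 M) (P : Sylow 2 G)
    (hab : ∀ x ∈ (P : Subgroup G), ∀ y ∈ (P : Subgroup G), x * y = y * x)
    (hfree : Frees (P : Subgroup G) (prin M (P : Subgroup G)))
    (hq : Nat.card (P : Subgroup G) = 4)
    (he : Nat.card (inertR (P : Subgroup G) (prin M (P : Subgroup G))) = 3) :
    Cfsg.blockRank 2 (Cfsg.principalBlock M G) = 3 := by
  haveI := Fintype.ofFinite G
  haveI := Fintype.ofFinite (Cfsg.IrrCharacter G)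
  have hP1 : (P : Subgroup G) ≠ ⊥ := fun h => by rw [h, Subgroup.card_bot] at hq; omega
  obtain ⟨n, -, -, -, -, h3⟩ := free_counts hM (isMaximal_prin hM P) hab hP1 hfree
  rcases h3 (by omega) with h | ⟨h, -⟩
  · exact h.trans he
  · rw [hq] at h; norm_num at h

/-- The rank for order seven on a group of order eight. -/
theorem rank_seven_eight (hM : Cfsg.IsPModular 2 M) (P : Sylow 2 G)
    (hab : ∀ x ∈ (P : Subgroup G), ∀ y ∈ (P : Subgroup G), x * y = y * x)
    (hfree : Frees (P : Subgroup G) (prin M (P : Subgroup G)))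
    (hq : Nat.card (P : Subgroup G) = 8)
    (he : Nat.card (inertR (P : Subgroup G) (prin M (P : Subgroup G))) = 7) :
    Nat.card (Cfsg.principalBlock M G) = 8 ∧
      Cfsg.blockRank 2 (Cfsg.principalBlock M G) = 7 := by
  haveI := Fintype.ofFinite G
  haveI := Fintype.ofFinite (Cfsg.IrrCharacter G)
  haveI : Fact (Nat.Prime 7) := ⟨by norm_num⟩
  have hP1 : (P : Subgroup G) ≠ ⊥ := fun h => by rw [h, Subgroup.card_bot] at hq; omega
  have hk := (card_cases hM P (exp_two_of_transitive hM P hfree hP1 (by omega)) hfree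
    (isCyclic_of_prime_card he) hP1).1 (by omega)
  obtain ⟨n, hn, hk', -, -, -⟩ := free_counts hM (isMaximal_prin hM P) hab hP1 hfree
  rw [hq] at hk
  rw [hq, he] at hn
  rw [hk] at hk'
  exact ⟨hk, by omega⟩

end Cfsg.Agent.Blocks.FreeTwo
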