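import Mathlib
import Cfsg.Agent.BlocksChars.FrobNormalizer.Setting
import Cfsg.Agent.Lib.Blocks.FreeTwo.Section
import Cfsg.Agent.Lib.Blocks.FreeTwo.Residue

/-!
# Square roots in the sections of a free abelian Sylow 2-subgroup

In the centraliser of a non-trivial element of the Sylow subgroup the elements of odd order form a
normal complement, so square roots and commuting square roots of one are counted in the Sylow
subgroup.
-/

set_option autoImplicit false
set_option linter.style.haveILetI false
set_option linter.unusedSectionVars false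

namespace Cfsg.Agent.Blocks.FreeTwo

open Cfsg.Agent.Blocks Cfsg.Agent.Characters Cfsg.Agent.FrobeniusSchur
open Cfsg.Agent.BlocksChars.FrobNormalizer
open Cfsg.Agent.BlocksChars.SectionOrth
open scoped ComplexConjugate

universe u

variable {G : Type u} [Group G] [Finite G] {P : Sylow 2 G} {e : ℕ}

/-- The retraction of the centraliser onto the Sylow subgroup. -/
theorem exists_retraction (h : Setting P e) {v : (P : Subgroup G)} (hv : v ≠ 1) :
    ∃ π : Subgroup.centralizer ({(v : G)} : Set G) →* (P : Subgroup G),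
      (∀ (w : (P : Subgroup G)) (hw : (w : G) ∈ Subgroup.centralizer ({(v : G)} : Set G)),
        π ⟨w, hw⟩ = w) ∧ ∀ x, π x = 1 ↔ ¬ 2 ∣ orderOf x := by
  classical
  haveI : Fact (Nat.Prime 2) := ⟨Nat.prime_two⟩
  set C := Subgroup.centralizer ({(v : G)} : Set G)
  obtain ⟨K, hKn, hK2, hidx, -, -, hmem⟩ := h.exists_complement hv
  haveI := hKn
  have hPC : (P : Subgroup G) ≤ C := fun x hx => Subgroup.mem_centralizer_singleton_iff.2
    (congrArg Subtype.val (h.comm.is_comm.comm (⟨x, hx⟩ : (P : Subgroup G)) v))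
  let ι : (P : Subgroup G) →* C ⧸ K := (QuotientGroup.mk' K).comp (Subgroup.inclusion hPC)
  have hinj : Function.Injective ι := by
    rw [← MonoidHom.ker_eq_bot_iff, Subgroup.eq_bot_iff_forall]
    intro w hw
    have hwK : Subgroup.inclusion hPC w ∈ K := (QuotientGroup.eq_one_iff _).1 hw
    obtain ⟨k, hk⟩ := exists_orderOf_eq P.2 w
    have h1 : orderOf (Subgroup.inclusion hPC w) ∣ Nat.card K := by
      rw [← Subgroup.orderOf_mk _ hwK]; exact orderOf_dvd_natCard _
    rw [← Subgroup.orderOf_coe, Subgroup.coe_inclusion, hk] at h1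
    rcases Nat.eq_zero_or_pos k with rfl | hk0
    · rw [pow_zero, orderOf_eq_one_iff] at hk
      exact Subtype.ext hk
    · exact absurd ((dvd_pow_self 2 hk0.ne').trans h1) hK2
  have hbij : Function.Bijective ι := by
    haveI := Fintype.ofFinite (P : Subgroup G)
    haveI := Fintype.ofFinite (C ⧸ K)
    refine (Fintype.bijective_iff_injective_and_card ι).2 ⟨hinj, ?_⟩
    rw [← Nat.card_eq_fintype_card, ← Nat.card_eq_fintype_card, ← Subgroup.index_eq_card, hidx]
  refine ⟨(MulEquiv.ofBijective ι hbij).symm.toMonoidHom.comp (QuotientGroup.mk' K),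
    fun w hw => ?_, fun x => ?_⟩
  · exact (MulEquiv.ofBijective ι hbij).symm_apply_apply w
  · show (MulEquiv.ofBijective ι hbij).symm (QuotientGroup.mk' K x) = 1 ↔ _
    rw [MulEquiv.map_eq_one_iff, QuotientGroup.mk'_apply, QuotientGroup.eq_one_iff]
    refine ⟨fun hx hd => hK2 (hd.trans ?_), hmem x⟩
    rw [← Subgroup.orderOf_mk x hx]
    exact orderOf_dvd_natCard _

variable [Fintype G]

open scoped Classical in
/-- Commuting square roots of one on a section. -/
theorem sum_sqFix_centralizer (h : Setting P e) {v : (P : Subgroup G)} (hv : v ≠ 1) :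
    (∑ y ∈ Finset.univ.filter
        (fun y : Subgroup.centralizer ({(v : G)} : Set G) => ¬ 2 ∣ orderOf y),
      sqFix ((v : G) * (y : G))) * Nat.card (P : Subgroup G) =
      Nat.card (Subgroup.centralizer ({(v : G)} : Set G)) * Nat.card (Om P) := by
  haveI : Fact (Nat.Prime 2) := ⟨Nat.prime_two⟩
  set C := Subgroup.centralizer ({(v : G)} : Set G) with hC
  obtain ⟨π, hπid, hπ⟩ := exists_retraction h hv
  have hPC : (P : Subgroup G) ≤ C := fun x hx => Subgroup.mem_centralizer_singleton_iff.2
    (congrArg Subtype.val (h.comm.is_comm.comm (⟨x, hx⟩ : (P : Subgroup G)) v))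
  -- as pairs in the centraliser
  have hfix : ∀ y : C, ¬ 2 ∣ orderOf y → sqFix ((v : G) * (y : G)) =
      (Finset.univ.filter fun t : C => t * t = 1 ∧ y * t = t * y).card := by
    intro y hy
    have hyo : ¬ 2 ∣ orderOf (y : G) := by rwa [Subgroup.orderOf_coe]
    have hyv : Commute (v : G) (y : G) := Subgroup.mem_centralizer_iff.1 y.2 _ rfl
    obtain ⟨k, hk⟩ := exists_orderOf_eq P.2 v
    have hmem : ∀ t : G, (v : G) * (y : G) * t = t * ((v : G) * y) →
        t ∈ C ∧ (y : G) * t = t * y := by
      intro t ht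
      have hu' : t * (v : G) = v * t :=
        commute_of_isConj_section Nat.prime_two ⟨k, hk⟩ hyv hyo hyv hyo
          (mul_inv_eq_iff_eq_mul.2 ht.symm)
      refine ⟨Subgroup.mem_centralizer_singleton_iff.2 hu', ?_⟩
      apply mul_left_cancel (a := (v : G))
      rw [← mul_assoc, ht, ← mul_assoc, hu', mul_assoc]
    rw [← Fintype.card_subtype, ← Nat.card_eq_fintype_card]
    refine Nat.card_congr
      { toFun := fun t => ⟨⟨t.1, (hmem t.1 t.2.2).1⟩, Subtype.ext t.2.1,
          Subtype.ext (hmem t.1 t.2.2).2⟩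
        invFun := fun t => ⟨(t.1 : G), congrArg Subtype.val t.2.1, ?_⟩
        left_inv := fun t => rfl
        right_inv := fun t => rfl }
    have h2 : (y : G) * t.1 = t.1 * y := congrArg Subtype.val t.2.2
    have h3 : (v : G) * (t.1 : G) = t.1 * v := Subgroup.mem_centralizer_iff.1 t.1.2 _ rfl
    rw [mul_assoc, h2, ← mul_assoc, h3, mul_assoc]
  rw [Finset.sum_congr rfl fun y hy => hfix y (Finset.mem_filter.1 hy).2]
  simp only [Finset.card_filter]
  rw [Finset.sum_comm, Finset.sum_mul]
  -- the centraliser of a square root of one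
  have hcen : ∀ t : C, t * t = 1 →
      ((Finset.univ.filter fun y : C => ¬ 2 ∣ orderOf y).filter fun y => y * t = t * y).card *
          Nat.card (P : Subgroup G) = Nat.card (Subgroup.centralizer ({t} : Set C)) ∧
        IsConj (⟨(π t : G), hPC (π t).2⟩ : C) t := by
    intro t ht
    have hp : IsPGroup 2 (Subgroup.zpowers t) := by
      obtain ⟨k, -, hk⟩ := (Nat.dvd_prime_pow Nat.prime_two).1
        (show orderOf t ∣ 2 ^ 1 from orderOf_dvd_of_pow_eq_one (by rw [pow_one, pow_two]; exact ht))
      exact IsPGroup.of_card (n := k) (by rw [Nat.card_zpowers, hk])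
    obtain ⟨R, hR⟩ := hp.exists_le_sylow
    obtain ⟨c, hc⟩ := MulAction.exists_smul_eq C R (P.subtype hPC)
    have hcP : (c * t * c⁻¹ : C) ∈ ((P.subtype hPC : Sylow 2 C) : Subgroup C) := by
      rw [← hc, Sylow.coe_subgroup_smul, Subgroup.mem_pointwise_smul_iff_inv_smul_mem]
      simpa [MulAut.smul_def, mul_assoc] using hR (Subgroup.mem_zpowers t)
    have hcP' : ((c * t * c⁻¹ : C) : G) ∈ (P : Subgroup G) := hcP
    have heq : π t = ⟨_, hcP'⟩ := by
      have h1 := hπid ⟨_, hcP'⟩ (c * t * c⁻¹ : C).2
      rw [map_mul, map_mul, map_inv, h.comm.is_comm.comm (π c) (π t), mul_inv_cancel_right] at h1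
      exact h1
    refine ⟨?_, (isConj_iff.2 ⟨c, Subtype.ext ?_⟩ : IsConj t (⟨(π t : G), hPC (π t).2⟩ : C)).symm⟩
    swap
    · rw [heq]
    set D := Subgroup.centralizer ({t} : Set C)
    have hsurj : Function.Surjective (π.comp D.subtype) := by
      intro w
      have hmem : c⁻¹ * ⟨w, hPC w.2⟩ * c ∈ D := by
        refine Subgroup.mem_centralizer_singleton_iff.2 (Subtype.ext ?_)
        have hcomm : (w : G) * ((c : G) * t * (c : G)⁻¹) = (c : G) * t * (c : G)⁻¹ * w :=
          congrArg Subtype.val (h.comm.is_comm.comm w ⟨_, hcP'⟩)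
        show (c : G)⁻¹ * (w : G) * c * (t : G) = (t : G) * ((c : G)⁻¹ * w * c)
        calc (c : G)⁻¹ * (w : G) * c * (t : G)
            = (c : G)⁻¹ * ((w : G) * ((c : G) * t * (c : G)⁻¹)) * c := by group
          _ = _ := by rw [hcomm]; group
      refine ⟨⟨_, hmem⟩, ?_⟩
      show π (c⁻¹ * ⟨w, hPC w.2⟩ * c) = w
      rw [map_mul, map_mul, map_inv, hπid w, h.comm.is_comm.comm (π c)⁻¹ w, inv_mul_cancel_right]
    have hker : Nat.card (π.comp D.subtype).ker =
        ((Finset.univ.filter fun y : C => ¬ 2 ∣ orderOf y).filter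
          fun y => y * t = t * y).card := by
      rw [Finset.filter_filter, ← Fintype.card_subtype, ← Nat.card_eq_fintype_card]
      exact Nat.card_congr
        { toFun := fun x => ⟨x.1.1, (hπ x.1.1).1 x.2,
            Subgroup.mem_centralizer_singleton_iff.1 x.1.2⟩
          invFun := fun x => ⟨⟨x.1, Subgroup.mem_centralizer_singleton_iff.2 x.2.2⟩,
            (hπ x.1).2 x.2.1⟩
          left_inv := fun _ => rfl
          right_inv := fun _ => rfl }
    rw [← hker, ← Nat.card_congr (QuotientGroup.quotientKerEquivOfSurjective _ hsurj).toEquiv,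
      mul_comm]
    exact (Subgroup.card_eq_card_quotient_mul_card_subgroup _).symm
  -- class by class
  rw [← Finset.sum_filter_add_sum_filter_not Finset.univ (fun t : C => t * t = 1),
    Finset.sum_eq_zero (s := Finset.univ.filter fun t : C => ¬ t * t = 1) fun t ht => by
      simp [(Finset.mem_filter.1 ht).2], add_zero,
    Finset.sum_congr rfl (g := fun t : C => Nat.card (Subgroup.centralizer ({t} : Set C)))
      fun t ht => by
        rw [← (hcen t (Finset.mem_filter.1 ht).2).1, Finset.card_filter]
        simp [(Finset.mem_filter.1 ht).2]]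
  haveI := Fintype.ofFinite (P : Subgroup G)
  rw [← Finset.sum_fiberwise_of_maps_to (g := fun t : C => π t)
    (t := Finset.univ.filter fun w : (P : Subgroup G) => w * w = 1) fun t ht => by
      simp only [Finset.mem_filter, Finset.mem_univ, true_and] at ht ⊢
      rw [← map_mul, ht, map_one]]
  rw [Finset.sum_congr rfl (g := fun _ => Nat.card C) fun w hw => ?_, Finset.sum_const,
    smul_eq_mul, ← Fintype.card_subtype, ← Nat.card_eq_fintype_card, mul_comm]
  have hww : w * w = 1 := (Finset.mem_filter.1 hw).2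
  set wC : C := ⟨w, hPC w.2⟩
  have hT : ((Finset.univ.filter fun t : C => t * t = 1).filter fun t => π t = w) =
      Finset.univ.filter fun t : C => IsConj wC t := by
    ext t
    simp only [Finset.mem_filter, Finset.mem_univ, true_and]
    constructor
    · rintro ⟨ht, rfl⟩
      exact (hcen t ht).2
    · intro hc
      obtain ⟨c, rfl⟩ := isConj_iff.1 hc
      refine ⟨?_, ?_⟩
      · rw [show c * wC * c⁻¹ * (c * wC * c⁻¹) = c * (wC * wC) * c⁻¹ by group,
          show wC * wC = 1 from Subtype.ext (congrArg Subtype.val hww : (w : G) * w = 1), mul_one,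
          mul_inv_cancel]
      · rw [map_mul, map_mul, map_inv, hπid w, h.comm.is_comm.comm (π c) w, mul_inv_cancel_right]
  have hconst : ∀ t ∈ Finset.univ.filter (fun t : C => IsConj wC t),
      Nat.card (Subgroup.centralizer ({t} : Set C)) =
        Nat.card (Subgroup.centralizer ({wC} : Set C)) := by
    intro t ht
    have hc := (Finset.mem_filter.1 ht).2
    have h1 := BlocksChars.ClassAlg.classSize_mul_card_centralizer wC
    have h2 := BlocksChars.ClassAlg.classSize_mul_card_centralizer t
    have h3 : BlocksChars.ClassAlg.classSize t = BlocksChars.ClassAlg.classSize wC :=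
      Nat.card_congr (Equiv.subtypeEquivRight fun x => ⟨hc.trans, hc.symm.trans⟩)
    rw [h3, ← h1] at h2
    exact Nat.eq_of_mul_eq_mul_left (by
      haveI : Nonempty {g : C // IsConj wC g} := ⟨⟨wC, IsConj.refl wC⟩⟩
      exact Nat.card_pos) h2
  rw [hT, Finset.sum_congr rfl hconst, Finset.sum_const, smul_eq_mul, ← Fintype.card_subtype,
    ← Nat.card_eq_fintype_card]
  exact BlocksChars.ClassAlg.classSize_mul_card_centralizer wC

open scoped Classical in
/-- Square roots on a section. -/
theorem sum_roots_centralizer (h : Setting P e) {v : (P : Subgroup G)} (hv : v ≠ 1) :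
    (∑ y ∈ Finset.univ.filter
        (fun y : Subgroup.centralizer ({(v : G)} : Set G) => ¬ 2 ∣ orderOf y),
      Nat.card {t : G // t * t = (v : G) * (y : G)}) * Nat.card (P : Subgroup G) =
      Nat.card (Subgroup.centralizer ({(v : G)} : Set G)) *
        Nat.card {w : (P : Subgroup G) // w * w = v} := by
  haveI : Fact (Nat.Prime 2) := ⟨Nat.prime_two⟩
  set C := Subgroup.centralizer ({(v : G)} : Set G) with hC
  obtain ⟨π, hπid, hπ⟩ := exists_retraction h hv
  have hPC : (P : Subgroup G) ≤ C := fun x hx => Subgroup.mem_centralizer_singleton_iff.2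
    (congrArg Subtype.val (h.comm.is_comm.comm (⟨x, hx⟩ : (P : Subgroup G)) v))
  set vC : C := ⟨v, hPC v.2⟩
  haveI := Fintype.ofFinite (P : Subgroup G)
  have hmemC : ∀ (y : C) (t : G), ¬ 2 ∣ orderOf y → t * t = (v : G) * y → t ∈ C := by
    intro y t hy ht
    have hyo : ¬ 2 ∣ orderOf (y : G) := by rwa [Subgroup.orderOf_coe]
    have hyv : Commute (v : G) (y : G) := Subgroup.mem_centralizer_iff.1 y.2 _ rfl
    obtain ⟨k, hk⟩ := exists_orderOf_eq P.2 v
    refine Subgroup.mem_centralizer_singleton_iff.2
      (commute_of_isConj_section Nat.prime_two ⟨k, hk⟩ hyv hyo hyv hyo ?_)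
    rw [← ht]; group
  have hset : ∀ y : C, ¬ 2 ∣ orderOf y → Nat.card {t : G // t * t = (v : G) * (y : G)} =
      (Finset.univ.filter fun t : C => t * t = vC * y).card := by
    intro y hy
    rw [← Fintype.card_subtype, ← Nat.card_eq_fintype_card]
    exact Nat.card_congr
      { toFun := fun t => ⟨⟨t.1, hmemC y t.1 hy t.2⟩, Subtype.ext t.2⟩
        invFun := fun t => ⟨(t.1 : G), congrArg Subtype.val t.2⟩
        left_inv := fun _ => rfl
        right_inv := fun _ => rfl }
  rw [Finset.sum_congr rfl fun y hy => hset y (Finset.mem_filter.1 hy).2]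
  have hfib : (∑ y ∈ Finset.univ.filter (fun y : C => ¬ 2 ∣ orderOf y),
      (Finset.univ.filter fun t : C => t * t = vC * y).card) =
      (Finset.univ.filter fun t : C => π t * π t = v).card := by
    rw [Finset.card_eq_sum_card_fiberwise (f := fun t : C => vC⁻¹ * (t * t))
      (t := Finset.univ.filter fun y : C => ¬ 2 ∣ orderOf y) fun t ht => ?_]
    · refine Finset.sum_congr rfl fun y hy => congrArg Finset.card (Finset.ext fun t => ?_)
      simp only [Finset.mem_filter, Finset.mem_univ, true_and, inv_mul_eq_iff_eq_mul]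
      refine ⟨fun ht => ⟨?_, ht⟩, fun ht => ht.2⟩
      rw [← map_mul, ht, map_mul, hπid v, (hπ y).2 (Finset.mem_filter.1 hy).2, mul_one]
    · simp only [Finset.coe_filter, Set.mem_ofPred_eq, Finset.mem_univ, true_and] at ht ⊢
      rw [← hπ, map_mul, map_inv, hπid v, map_mul, ht, inv_mul_cancel]
  rw [hfib, Finset.card_eq_sum_card_fiberwise (f := fun t : C => π t)
    (t := Finset.univ.filter fun w : (P : Subgroup G) => w * w = v) fun t ht => by
      simpa using ht]
  have hsurj : Function.Surjective π := fun w => ⟨⟨w, hPC w.2⟩, hπid w _⟩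
  have hker : Nat.card π.ker * Nat.card (P : Subgroup G) = Nat.card C := by
    rw [← Nat.card_congr (QuotientGroup.quotientKerEquivOfSurjective _ hsurj).toEquiv, mul_comm]
    exact (Subgroup.card_eq_card_quotient_mul_card_subgroup _).symm
  rw [Finset.sum_congr rfl (g := fun _ => Nat.card π.ker) fun w hw => ?_, Finset.sum_const,
    smul_eq_mul, ← Fintype.card_subtype, ← Nat.card_eq_fintype_card, mul_assoc, hker, mul_comm]
  rw [Finset.filter_filter, ← Fintype.card_subtype, ← Nat.card_eq_fintype_card]
  have hww := (Finset.mem_filter.1 hw).2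
  refine Nat.card_congr
    { toFun := fun t => ⟨t.1 * (⟨w, hPC w.2⟩ : C)⁻¹, ?_⟩
      invFun := fun z => ⟨z.1 * ⟨w, hPC w.2⟩, ?_⟩
      left_inv := fun t => Subtype.ext (inv_mul_cancel_right t.1 _)
      right_inv := fun z => Subtype.ext (mul_inv_cancel_right z.1 _) }
  · rw [MonoidHom.mem_ker, map_mul, map_inv, hπid w, t.2.2, mul_inv_cancel]
  · have hz : π (z.1 * ⟨w, hPC w.2⟩) = w := by
      rw [map_mul, hπid w, z.2, one_mul]
    exact ⟨by rw [hz, hww], hz⟩

end Cfsg.Agent.Blocks.FreeTwo
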