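import Mathlib
import Cfsg.Agent.Lib.Blocks.FreeTwo.Roots
import Cfsg.Agent.Lib.Blocks.FreeTwo.Facts

/-!
# Multiplicities for a free abelian Sylow 2-subgroup

The multiplicity of a character of the principal block in the module on square roots of one is its
indicator plus a weighted sum of its values on the Sylow subgroup.
-/

set_option autoImplicit false
set_option linter.style.haveILetI false
set_option linter.unusedSectionVars false

namespace Cfsg.Agent.Blocks.FreeTwo

open Cfsg.Agent.Blocks Cfsg.Agent.Characters Cfsg.Agent.FrobeniusSchur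
open Cfsg.Agent.BlocksChars.FrobNormalizer
open Cfsg.Agent.BlocksChars.SectionOrth
open scoped ComplexConjugate

universe u

variable {G : Type u} [Group G] [Finite G] [Fintype G] {P : Sylow 2 G} {e : ℕ}
  {M : Ideal Cfsg.AlgInt}

/-- The non-trivial 2-elements. -/
def IsTwoEl (u : G) : Prop := u ≠ 1 ∧ ∃ k : ℕ, orderOf u = 2 ^ k

theorem card_centralizer_conj {a b : G} (h : IsConj a b) :
    Nat.card (Subgroup.centralizer ({a} : Set G)) =
      Nat.card (Subgroup.centralizer ({b} : Set G)) := by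
  have h1 := BlocksChars.ClassAlg.classSize_mul_card_centralizer a
  have h2 := BlocksChars.ClassAlg.classSize_mul_card_centralizer b
  have h3 : BlocksChars.ClassAlg.classSize a = BlocksChars.ClassAlg.classSize b :=
    Nat.card_congr (Equiv.subtypeEquivRight fun g => ⟨h.symm.trans, h.trans⟩)
  have h4 : 0 < BlocksChars.ClassAlg.classSize b := by
    haveI : Nonempty {g : G // IsConj b g} := ⟨⟨b, IsConj.refl b⟩⟩
    exact Nat.card_pos
  rw [h3, ← h2] at h1
  exact Nat.eq_of_mul_eq_mul_left h4 h1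

open scoped Classical in
/-- A sum over the singular elements by their 2-parts. -/
theorem sum_two_sections (F : G → ℂ) :
    ∑ g ∈ Finset.univ.filter (fun g : G => 2 ∣ orderOf g), F g =
      ∑ u ∈ Finset.univ.filter (fun u : G => IsTwoEl u),
        ∑ y ∈ Finset.univ.filter
          (fun y : Subgroup.centralizer ({u} : Set G) => ¬ 2 ∣ orderOf y), F (u * (y : G)) := by
  rw [Finset.sum_sigma']
  symm
  refine Finset.sum_bij (fun x _ => x.1 * (x.2 : G)) ?_ ?_ ?_ (fun _ _ => rfl)
  · rintro ⟨u, y⟩ h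
    simp only [Finset.mem_sigma, Finset.mem_filter, Finset.mem_univ, true_and] at h ⊢
    obtain ⟨⟨hu1, k, hk⟩, hy⟩ := h
    have hk0 : k ≠ 0 := fun e => hu1 (orderOf_eq_one_iff.1 (by rw [hk, e, pow_zero]))
    have hcom : Commute u (y : G) := Subgroup.mem_centralizer_iff.1 y.2 u rfl
    rw [hcom.orderOf_mul_eq_mul_orderOf_of_coprime, hk]
    · exact dvd_mul_of_dvd_left (dvd_pow_self 2 hk0) _
    · rw [hk, Subgroup.orderOf_coe]
      exact (Nat.prime_two.coprime_iff_not_dvd.2 hy).pow_left k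
  · rintro ⟨u, y⟩ h ⟨u', y'⟩ h' e
    simp only [Finset.mem_sigma, Finset.mem_filter, Finset.mem_univ, true_and] at h h'
    have hu : u = u' := ppart_unique Nat.prime_two
      (⟨y, rfl, Subgroup.mem_centralizer_iff.1 y.2 u rfl, h.1.2,
        by rw [Subgroup.orderOf_coe]; exact h.2⟩ : Cfsg.IsPPart 2 (u * (y : G)) u)
      (⟨y', e.symm, Subgroup.mem_centralizer_iff.1 y'.2 u' rfl, h'.1.2,
        by rw [Subgroup.orderOf_coe]; exact h'.2⟩ : Cfsg.IsPPart 2 (u * (y : G)) u')
    subst hu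
    have hy : (y : G) = y' := mul_left_cancel e
    rw [Subtype.ext hy]
  · intro g hg
    simp only [Finset.mem_filter, Finset.mem_univ, true_and] at hg
    obtain ⟨u, hu⟩ := exists_ppart Nat.prime_two g
    obtain ⟨y, rfl, hc, hk, hy⟩ := hu
    have hu1 : u ≠ 1 := by
      rintro rfl
      rw [one_mul] at hg
      exact hy hg
    exact ⟨⟨u, ⟨y, Subgroup.mem_centralizer_singleton_iff.2 hc.eq.symm⟩⟩, by
      simp only [Finset.mem_sigma, Finset.mem_filter, Finset.mem_univ, true_and]
      exact ⟨⟨hu1, hk⟩, by rw [← Subgroup.orderOf_coe]; exact hy⟩, rfl⟩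

open scoped Classical in
/-- The conjugates in the Sylow subgroup of a 2-element. -/
theorem card_fused_setting (h : Setting P e) [Fintype (P : Subgroup G)] {u : G} (hu : IsTwoEl u) :
    (Finset.univ.filter fun v : (P : Subgroup G) => v ≠ 1 ∧ IsConj (v : G) u).card = e := by
  haveI : Fact (Nat.Prime 2) := ⟨Nat.prime_two⟩
  obtain ⟨x, hx⟩ : ∃ g : G, g * u * g⁻¹ ∈ (P : Subgroup G) := by
    obtain ⟨k, hk⟩ := hu.2
    obtain ⟨Q, hQ⟩ := (IsPGroup.of_card (p := 2) (n := k)
      ((Nat.card_zpowers u).trans hk)).exists_le_sylow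
    obtain ⟨g, hg⟩ := MulAction.exists_smul_eq G Q P
    exact ⟨g, by rw [← hg]; exact ⟨u, hQ (Subgroup.mem_zpowers u), rfl⟩⟩
  set v₀ : (P : Subgroup G) := ⟨x * u * x⁻¹, hx⟩
  have hv0 : v₀ ≠ 1 := fun h => hu.1 (by
    have h' : x * u * x⁻¹ = 1 := congrArg Subtype.val h
    simpa using h')
  have hconj : IsConj u (v₀ : G) := isConj_iff.2 ⟨x, rfl⟩
  rw [← Fintype.card_subtype, ← Nat.card_eq_fintype_card, ← h.card_autP]
  symm
  refine Nat.card_congr (Equiv.ofBijective
    (fun γ : autP P => ⟨(γ : MulAut (P : Subgroup G)) v₀, ?_, ?_⟩) ⟨?_, ?_⟩)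
  · exact fun e => hv0 ((γ : MulAut (P : Subgroup G)).injective
      (e.trans (map_one (γ : MulAut (P : Subgroup G))).symm))
  · obtain ⟨n, -, hn⟩ := autP_apply γ.2
    exact (isConj_iff.2 ⟨n, (hn v₀).symm⟩ : IsConj (v₀ : G) _).symm.trans hconj.symm
  · intro a b hab
    exact h.apply_injective hv0 (congrArg Subtype.val hab)
  · rintro ⟨w, hw1, hw⟩
    obtain ⟨γ, hγ, hγw⟩ := h.fusion (y := v₀) (z := w) (hw.trans hconj).symm
    exact ⟨⟨γ, hγ⟩, Subtype.ext hγw⟩

open scoped Classical in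
/-- Values at the 2-elements, weighted by their centralisers. -/
theorem sum_two_weighted (h : Setting P e) [Fintype (P : Subgroup G)] {f : G → ℂ}
    (hf : ∀ a b : G, IsConj a b → f a = f b) :
    (e : ℂ) * ∑ u ∈ Finset.univ.filter (fun u : G => IsTwoEl u),
          f u * (Nat.card (Subgroup.centralizer ({u} : Set G)) : ℂ) =
      (Nat.card G : ℂ) * ∑ v ∈ Finset.univ.filter (fun v : (P : Subgroup G) => v ≠ 1), f v := by
  have hinv : ∀ (v : (P : Subgroup G)) (g : G), v ≠ 1 → IsConj (v : G) g → IsTwoEl g := by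
    intro v g hv h
    obtain ⟨c, rfl⟩ := isConj_iff.1 h
    exact ⟨fun e => hv (Subtype.ext (by simpa using e)),
      exists_orderOf_eq_conj (by
        haveI : Fact (Nat.Prime 2) := ⟨Nat.prime_two⟩
        exact exists_orderOf_eq P.2 v) c⟩
  have h1 : ∀ v ∈ Finset.univ.filter (fun v : (P : Subgroup G) => v ≠ 1),
      (Nat.card G : ℂ) * f v = ∑ g ∈ Finset.univ.filter (fun u : G => IsTwoEl u),
        if IsConj (v : G) g then f g * (Nat.card (Subgroup.centralizer ({g} : Set G)) : ℂ)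
          else 0 := by
    intro v hv
    rw [← Finset.sum_filter, Finset.sum_congr rfl (g := fun _ =>
      f v * (Nat.card (Subgroup.centralizer ({(v : G)} : Set G)) : ℂ)) fun g hg => by
        rw [← hf _ _ (Finset.mem_filter.1 hg).2,
          card_centralizer_conj (Finset.mem_filter.1 hg).2], Finset.sum_const, nsmul_eq_mul,
      Finset.filter_filter, Finset.filter_congr (q := fun g => IsConj (v : G) g) fun g _ =>
        ⟨fun h => h.2, fun h => ⟨hinv v g (Finset.mem_filter.1 hv).2 h, h⟩⟩,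
      ← Fintype.card_subtype, ← Nat.card_eq_fintype_card,
      ← BlocksChars.ClassAlg.classSize_mul_card_centralizer (v : G), Nat.cast_mul]
    show _ = (BlocksChars.ClassAlg.classSize (v : G) : ℂ) * _
    ring
  rw [Finset.mul_sum, Finset.mul_sum, Finset.sum_congr rfl h1, Finset.sum_comm]
  refine Finset.sum_congr rfl fun g hg => ?_
  rw [← Finset.sum_filter, Finset.sum_const, Finset.filter_filter,
    card_fused_setting h (Finset.mem_filter.1 hg).2, nsmul_eq_mul]

/-- The number of square roots in the Sylow subgroup. -/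
noncomputable def rtP (P : Sylow 2 G) (v : (P : Subgroup G)) : ℕ :=
  Nat.card {w : (P : Subgroup G) // w * w = v}

open scoped Classical in
/-- The multiplicity, the indicator and the values on the Sylow subgroup. -/
theorem mult_formula_setting (h : Setting P e) (hM : Cfsg.IsPModular 2 M)
    [Fintype (P : Subgroup G)] {χ : Cfsg.IrrCharacter G} (hχ : χ ∈ Cfsg.principalBlock M G)
    {m : ℕ} (hm : (m : ℂ) = Cfsg.classInner (fun g : G => (sqFix g : ℂ)) (χ : G → ℂ)) :
    (e : ℂ) * (Nat.card (P : Subgroup G) : ℂ) * ((m : ℂ) - nu (χ : G → ℂ)) =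
      ∑ v ∈ Finset.univ.filter (fun v : (P : Subgroup G) => v ≠ 1),
        (χ : G → ℂ) v * ((Nat.card (Om P) : ℂ) - (rtP P v : ℂ)) := by
  haveI : Fact (Nat.Prime 2) := ⟨Nat.prime_two⟩
  set R : G → ℕ := fun g => Nat.card {t : G // t * t = g} with hR
  have hnu : nu (χ : G → ℂ) = (Nat.card G : ℂ)⁻¹ * ∑ g : G, (χ : G → ℂ) g * (R g : ℂ) := by
    rw [nu]
    congr 1
    rw [← Finset.sum_fiberwise (Finset.univ) (fun s : G => s * s)]
    refine Finset.sum_congr rfl fun g _ => ?_
    rw [Finset.sum_congr rfl fun s hs => congrArg (χ : G → ℂ) (Finset.mem_filter.1 hs).2,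
      Finset.sum_const, nsmul_eq_mul, mul_comm, hR]
    simp only [Nat.card_eq_fintype_card, Fintype.card_subtype]
  set D : G → ℂ := fun u => ∑ y ∈ Finset.univ.filter
      (fun y : Subgroup.centralizer ({u} : Set G) => ¬ 2 ∣ orderOf y),
    (χ : G → ℂ) (u * (y : G)) * ((sqFix (u * (y : G)) : ℂ) - (R (u * (y : G)) : ℂ)) with hD
  have hsum : (Nat.card G : ℂ) * ((m : ℂ) - nu (χ : G → ℂ)) =
      ∑ u ∈ Finset.univ.filter (fun u : G => IsTwoEl u), D u := by
    rw [← sum_two_sections (fun g => (χ : G → ℂ) g * ((sqFix g : ℂ) - (R g : ℂ))),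
      show (m : ℂ) = Cfsg.classInner (χ : G → ℂ) (fun g : G => (sqFix g : ℂ)) by
        rw [← Complex.conj_natCast m, hm, ← classInner_conj_symm], classInner_def, hnu, ← mul_sub,
      mul_inv_cancel_left₀ natCard_ne_zero, ← Finset.sum_sub_distrib, Finset.sum_filter]
    refine Finset.sum_congr rfl fun g _ => ?_
    rw [Complex.conj_natCast]
    split_ifs with hg
    · ring
    · rw [hR]
      simp only [card_roots hg]
      ring
  -- the sections of conjugate elements
  have hDc : ∀ a b : G, IsConj a b → D a / (Nat.card (Subgroup.centralizer ({a} : Set G)) : ℂ) =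
      D b / (Nat.card (Subgroup.centralizer ({b} : Set G)) : ℂ) := by
    intro a b hab
    rw [card_centralizer_conj hab]
    congr 1
    obtain ⟨c, rfl⟩ := isConj_iff.1 hab
    have hC : ∀ y : G, y ∈ Subgroup.centralizer ({a} : Set G) ↔
        c * y * c⁻¹ ∈ Subgroup.centralizer ({c * a * c⁻¹} : Set G) := fun y => by
      simp only [Subgroup.mem_centralizer_singleton_iff]
      constructor
      · intro e
        rw [show c * y * c⁻¹ * (c * a * c⁻¹) = c * (y * a) * c⁻¹ by group, e]; group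
      · intro e
        calc y * a = c⁻¹ * (c * y * c⁻¹ * (c * a * c⁻¹)) * c := by group
          _ = a * y := by rw [e]; group
    refine Finset.sum_equiv ((MulAut.conj c).toEquiv.subtypeEquiv hC) (fun y => ?_) fun y _ => ?_
    · simp only [Finset.mem_filter, Finset.mem_univ, true_and]
      rw [← Subgroup.orderOf_coe, ← Subgroup.orderOf_coe]
      show _ ↔ ¬ 2 ∣ orderOf (MulAut.conj c (y : G))
      rw [MulEquiv.orderOf_eq]
    · show _ = (χ : G → ℂ) (c * a * c⁻¹ * (c * (y : G) * c⁻¹)) * _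
      rw [show c * a * c⁻¹ * (c * (y : G) * c⁻¹) = c * (a * y) * c⁻¹ by group,
        irr_isClassFunction χ]
      congr 2
      · refine congrArg Nat.cast (Nat.card_congr ((MulAut.conj c).toEquiv.subtypeEquiv fun s => ?_))
        show _ ↔ c * s * c⁻¹ * (c * s * c⁻¹) = 1 ∧
          c * a * c⁻¹ * (c * (y : G) * c⁻¹) * (c * s * c⁻¹) =
            c * s * c⁻¹ * (c * a * c⁻¹ * (c * (y : G) * c⁻¹))
        rw [show c * a * c⁻¹ * (c * (y : G) * c⁻¹) = c * (a * y) * c⁻¹ by group]
        rw [show c * s * c⁻¹ * (c * s * c⁻¹) = c * (s * s) * c⁻¹ by group, conj_eq_one_iff]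
        refine and_congr_right fun _ => ⟨fun e => ?_, fun e => ?_⟩
        · rw [show c * (a * y) * c⁻¹ * (c * s * c⁻¹) = c * (a * y * s) * c⁻¹ by group, e]; group
        · calc a * y * s = c⁻¹ * (c * (a * y) * c⁻¹ * (c * s * c⁻¹)) * c := by group
            _ = s * (a * y) := by rw [e]; group
      · refine congrArg Nat.cast (Nat.card_congr ((MulAut.conj c).toEquiv.subtypeEquiv fun s => ?_))
        show _ ↔ c * s * c⁻¹ * (c * s * c⁻¹) = c * a * c⁻¹ * (c * (y : G) * c⁻¹)
        rw [show c * a * c⁻¹ * (c * (y : G) * c⁻¹) = c * (a * y) * c⁻¹ by group]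
        rw [show c * s * c⁻¹ * (c * s * c⁻¹) = c * (s * s) * c⁻¹ by group, mul_left_inj,
          mul_right_inj]
  have hq : (Nat.card (P : Subgroup G) : ℂ) ≠ 0 := Nat.cast_ne_zero.2 Nat.card_pos.ne'
  have hw := sum_two_weighted h hDc
  rw [Finset.sum_congr rfl fun u _ => div_mul_cancel₀ (D u)
    (Nat.cast_ne_zero.2 Nat.card_pos.ne'), ← hsum, mul_left_comm] at hw
  rw [mul_assoc, mul_left_comm, mul_left_cancel₀ natCard_ne_zero hw, Finset.mul_sum]
  refine Finset.sum_congr rfl fun v hv => ?_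
  have hv1 := (Finset.mem_filter.1 hv).2
  obtain ⟨k, hk⟩ := exists_orderOf_eq P.2 v
  simp only [hD]
  rw [Finset.sum_congr rfl (g := fun y : Subgroup.centralizer ({(v : G)} : Set G) =>
    (χ : G → ℂ) v * ((sqFix ((v : G) * (y : G)) : ℂ) - (R ((v : G) * (y : G)) : ℂ))) fun y hy => by
      rw [h.value_eq hM hχ hv1 ⟨y, rfl, Subgroup.mem_centralizer_iff.1 y.2 _ rfl, ⟨k, hk⟩,
        by rw [Subgroup.orderOf_coe]; exact (Finset.mem_filter.1 hy).2⟩],
    ← Finset.mul_sum, Finset.sum_sub_distrib, ← Nat.cast_sum, ← Nat.cast_sum]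
  have h1 := congrArg (fun n : ℕ => (n : ℂ)) (sum_sqFix_centralizer h hv1)
  have h2 := congrArg (fun n : ℕ => (n : ℂ)) (sum_roots_centralizer h hv1)
  simp only [Nat.cast_mul] at h1 h2
  simp only [hR, rtP]
  have hCne : (Nat.card (Subgroup.centralizer ({(v : G)} : Set G)) : ℂ) ≠ 0 :=
    Nat.cast_ne_zero.2 Nat.card_pos.ne'
  field_simp
  linear_combination ((χ : G → ℂ) (v : G)) * h1 - ((χ : G → ℂ) (v : G)) * h2

open scoped Classical in
/-- The indicators against a section of a non-square. -/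
theorem sum_nu_nonsquare (h : Setting P e) (hM : Cfsg.IsPModular 2 M)
    [Fintype (Cfsg.IrrCharacter G)] {v : (P : Subgroup G)} (hv : v ≠ 1)
    (hns : ∀ w : (P : Subgroup G), w * w ≠ v) :
    ∑ χ ∈ Finset.univ.filter (· ∈ Cfsg.principalBlock M G),
      nu (χ : G → ℂ) * (χ : G → ℂ) v = 0 := by
  haveI : Fact (Nat.Prime 2) := ⟨Nat.prime_two⟩
  rw [Finset.sum_filter]
  refine blockSum_eq_zero_of_section hM (isPBlock_principal M G)
    (exists_orderOf_eq P.2 v) _ fun g x hg hc => ?_
  -- no square root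
  have hno : ∀ s : G, ¬ IsConj g (s * s) := by
    intro s hs
    obtain ⟨c, hc'⟩ := isConj_iff.1 hc
    obtain ⟨d, hd⟩ := isConj_iff.1 hs
    obtain ⟨y, rfl, hxy, hxo, hy⟩ := hg
    set t := c⁻¹ * (d⁻¹ * s * d) * c with ht
    have htt : t * t = (v : G) * (c⁻¹ * y * c) := by
      rw [show t * t = c⁻¹ * (d⁻¹ * (s * s) * d) * c by rw [ht]; group, ← hd, ← hc']; group
    set C := Subgroup.centralizer ({(v : G)} : Set G) with hC
    obtain ⟨π, hπid, hπ⟩ := exists_retraction h hv
    have hvy : Commute (v : G) (c⁻¹ * y * c) := by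
      have hh := hxy.map (MulAut.conj c⁻¹).toMonoidHom
      simpa [← hc', mul_assoc] using hh
    have hyo : ¬ 2 ∣ orderOf (c⁻¹ * y * c) := by
      rw [show orderOf (c⁻¹ * y * c) = orderOf y by
        simpa using MulEquiv.orderOf_eq (MulAut.conj c⁻¹) y]
      exact hy
    have htC : t ∈ C := Subgroup.mem_centralizer_singleton_iff.2
      (commute_of_isConj_section Nat.prime_two (exists_orderOf_eq P.2 v) hvy hyo hvy hyo
        (by rw [← htt]; group))
    have hyC : c⁻¹ * y * c ∈ C := Subgroup.mem_centralizer_singleton_iff.2 hvy.eq.symm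
    refine hns (π ⟨t, htC⟩) ?_
    have hvC : (v : G) ∈ C := Subgroup.mem_centralizer_singleton_iff.2 rfl
    rw [← map_mul, show (⟨t, htC⟩ * ⟨t, htC⟩ : C) = ⟨v, hvC⟩ * ⟨_, hyC⟩ from Subtype.ext htt,
      map_mul, hπid v, (hπ _).2 (by rw [← Subgroup.orderOf_coe]; exact hyo), mul_one]
  have hreal : ∀ χ : Cfsg.IrrCharacter G, conj (nu (χ : G → ℂ)) = nu (χ : G → ℂ) := fun χ => by
    rcases nu_trichotomy χ with h | h | h <;> simp [h]
  rw [Finset.sum_congr rfl (g := fun χ : Cfsg.IrrCharacter G =>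
    conj (nu (χ : G → ℂ)) * (χ : G → ℂ) g) fun χ _ => by rw [hreal χ]]
  simp only [nu, map_mul, map_sum, map_inv₀, Complex.conj_natCast, Finset.mul_sum, Finset.sum_mul]
  rw [Finset.sum_comm]
  refine Finset.sum_eq_zero fun s _ => ?_
  have h2 := second_orthogonality g (s * s)
  rw [if_neg (hno s)] at h2
  calc _ = (Nat.card G : ℂ)⁻¹ * ∑ χ : Cfsg.IrrCharacter G,
        (χ : G → ℂ) g * conj ((χ : G → ℂ) (s * s)) := by
        rw [Finset.mul_sum]; exact Finset.sum_congr rfl fun χ _ => by ring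
    _ = 0 := by rw [h2, mul_zero]

end Cfsg.Agent.Blocks.FreeTwo
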