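import Mathlib
import Cfsg.Agent.BlocksChars.FrobNormalizer.Coeff
import Cfsg.Agent.Lib.Blocks.FreeTwo.Mult

/-!
# Linear characters of a free abelian Sylow 2-subgroup
-/

set_option autoImplicit false
set_option linter.style.haveILetI false
set_option linter.unusedSectionVars false

namespace Cfsg.Agent.Blocks.FreeTwo

open Cfsg.Agent.Blocks Cfsg.Agent.Blocks.Star Cfsg.Agent.Characters
open Cfsg.Agent.BlocksChars.FrobNormalizer
open scoped ComplexConjugate

universe u

variable {G : Type u} [Group G] [Finite G] {P : Sylow 2 G} {e : ℕ}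

/-- Odd fixed-point-free fusion: only elements of square one are real. -/
theorem not_inverted_setting (h : Setting P e) (hodd : ¬ 2 ∣ e) {y : (P : Subgroup G)}
    (hy : y * y ≠ 1) (g : G) : g * (y : G) * g⁻¹ ≠ (y : G)⁻¹ := by
  haveI : Fact (Nat.Prime 2) := ⟨Nat.prime_two⟩
  intro hg
  have hy1 : y ≠ 1 := fun e' => hy (by rw [e', one_mul])
  obtain ⟨γ, hγ, hγy⟩ := h.fusion (y := y) (z := y⁻¹) (isConj_iff.2 ⟨g, hg⟩)
  have h2 : γ * γ = 1 := h.eq_one_of_fixed ((autP P).mul_mem hγ hγ) hy1 (by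
    rw [MulAut.mul_apply, hγy, map_inv, hγy, inv_inv])
  obtain ⟨j, hj⟩ : ∃ j, e = 2 * j + 1 := ⟨e / 2, by omega⟩
  have h3 : γ ^ e = 1 := by
    have h' : (⟨γ, hγ⟩ : autP P) ^ e = 1 := by rw [← h.card_autP]; exact pow_card_eq_one'
    exact congrArg Subtype.val h'
  rw [hj, pow_succ, pow_mul, pow_two, h2, one_pow, one_mul] at h3
  rw [h3, MulAut.one_apply] at hγy
  exact hy (mul_eq_one_iff_eq_inv.2 hγy)

/-- A stable set without the identity has size a multiple of the order of the action. -/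
theorem dvd_card_setting (h : Setting P e) (T : Set (P : Subgroup G))
    (hT : ∀ γ ∈ autP P, ∀ v ∈ T, γ v ∈ T) (h1 : (1 : (P : Subgroup G)) ∉ T) :
    e ∣ Nat.card T := by
  letI : MulAction (autP P) T :=
    { smul := fun γ v => ⟨(γ : MulAut (P : Subgroup G)) v.1, hT _ γ.2 _ v.2⟩
      one_smul := fun _ => rfl
      mul_smul := fun _ _ _ => rfl }
  have h2 := dvd_card_of_stabilizer (X := T) (⊥ : Subgroup (autP P)) fun v γ hγ =>
    Subgroup.mem_bot.2 (Subtype.ext (h.eq_one_of_fixed γ.2 (fun e' : v.1 = 1 => h1 (e' ▸ v.2))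
      (congrArg Subtype.val (MulAction.mem_stabilizer_iff.1 hγ))))
  rwa [Subgroup.index_bot, h.card_autP] at h2

/-- The squaring map. -/
def sqHom (h : Setting P e) : (P : Subgroup G) →* (P : Subgroup G) where
  toFun w := w * w
  map_one' := one_mul 1
  map_mul' a b := by
    simp only [mul_assoc]
    congr 1
    rw [← mul_assoc, ← mul_assoc, h.comm.is_comm.comm b a]

/-- With all involutions fused, the exponent four forces a large group. -/
theorem sq_le_card (h : Setting P e) (hOm : Nat.card (Om P) = e + 1)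
    (hlt : e + 1 < Nat.card (P : Subgroup G)) : (e + 1) * (e + 1) ≤ Nat.card (P : Subgroup G) := by
  classical
  set R := (sqHom h).range with hR
  have hmul : Nat.card (P : Subgroup G) = Nat.card R * (e + 1) := by
    rw [← hOm, show Nat.card (Om P) = Nat.card (sqHom h).ker from rfl,
      ← Nat.card_congr (QuotientGroup.quotientKerEquivRange (sqHom h)).toEquiv]
    exact Subgroup.card_eq_card_quotient_mul_card_subgroup _
  have hd := dvd_card_setting h ((R : Set (P : Subgroup G)) \ {1}) ?_ (by simp)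
  · rw [Nat.card_coe_set_eq, Set.ncard_diff_singleton_of_mem (one_mem R), ← Nat.card_coe_set_eq]
      at hd
    change e ∣ Nat.card R - 1 at hd
    have hR2 : 1 < Nat.card R := by
      have h1 : 0 < Nat.card R := Nat.card_pos
      by_contra h2
      rw [show Nat.card R = 1 by omega, one_mul] at hmul
      omega
    have h3 := Nat.le_of_dvd (by omega) hd
    rw [hmul]
    exact Nat.mul_le_mul_right _ (by omega)
  · rintro γ hγ v ⟨⟨w, hw⟩, hv1⟩
    refine ⟨⟨γ w, ?_⟩, fun e' => hv1 (γ.injective (e'.trans (map_one γ).symm))⟩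
    show γ w * γ w = γ v
    rw [← map_mul, ← hw]
    rfl

/-- Characters of square one correspond in number to elements of square one. -/
theorem card_dual_sq (h : Setting P e) :
    Nat.card {ψ : (P : Subgroup G) →* ℂˣ // ψ * ψ = 1} = Nat.card (Om P) := by
  letI : CommGroup (P : Subgroup G) :=
    { (inferInstance : Group (P : Subgroup G)) with mul_comm := h.comm.is_comm.comm }
  obtain ⟨φ⟩ := CommGroup.monoidHom_mulEquiv_of_hasEnoughRootsOfUnity (P : Subgroup G) ℂ
  exact Nat.card_congr (φ.toEquiv.subtypeEquiv fun ψ => by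
    show _ ↔ φ ψ * φ ψ = 1
    rw [← map_mul, MulEquiv.map_eq_one_iff])

/-- Characters of square one separate the non-squares. -/
theorem exists_sq_dual (h : Setting P e) {v : (P : Subgroup G)} (hv : ∀ w, w * w ≠ v) :
    ∃ ψ : (P : Subgroup G) →* ℂˣ, ψ * ψ = 1 ∧ ψ v ≠ 1 := by
  set R := (sqHom h).range with hR
  haveI hn : R.Normal := ⟨fun r hr g => by rwa [h.comm.is_comm.comm g r, mul_inv_cancel_right]⟩
  obtain ⟨ψ, hψ⟩ := exists_dual_ne_one (A := (P : Subgroup G) ⧸ R) ⟨⟨fun a b => by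
    obtain ⟨a, rfl⟩ := QuotientGroup.mk_surjective a
    obtain ⟨b, rfl⟩ := QuotientGroup.mk_surjective b
    rw [← QuotientGroup.mk_mul, ← QuotientGroup.mk_mul, h.comm.is_comm.comm a b]⟩⟩
    (a := (v : (P : Subgroup G) ⧸ R)) fun e' => by
      obtain ⟨w, hw⟩ := (QuotientGroup.eq_one_iff v).1 e'
      exact hv w hw
  refine ⟨ψ.comp (QuotientGroup.mk' R), MonoidHom.ext fun w => ?_, hψ⟩
  show ψ (w : (P : Subgroup G) ⧸ R) * ψ (w : (P : Subgroup G) ⧸ R) = 1
  rw [← map_mul, ← QuotientGroup.mk_mul,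
    (QuotientGroup.eq_one_iff (w * w)).2 (show w * w ∈ R from ⟨w, rfl⟩), map_one]

open scoped Classical in
/-- The sum of the characters of square one at a non-square. -/
theorem sum_sq_dual (h : Setting P e) [Fintype ((P : Subgroup G) →* ℂˣ)]
    {v : (P : Subgroup G)} (hv : ∀ w, w * w ≠ v) :
    ∑ ψ ∈ Finset.univ.filter (fun ψ : (P : Subgroup G) →* ℂˣ => ψ * ψ = 1),
      ((ψ v : ℂˣ) : ℂ) = 0 := by
  obtain ⟨φ, hφ, hφv⟩ := exists_sq_dual h hv
  have h1 : ((φ v : ℂˣ) : ℂ) * ∑ ψ ∈ Finset.univ.filter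
      (fun ψ : (P : Subgroup G) →* ℂˣ => ψ * ψ = 1), ((ψ v : ℂˣ) : ℂ) =
      ∑ ψ ∈ Finset.univ.filter (fun ψ : (P : Subgroup G) →* ℂˣ => ψ * ψ = 1),
        ((ψ v : ℂˣ) : ℂ) := by
    rw [Finset.mul_sum]
    refine Finset.sum_equiv (Equiv.mulLeft φ) (fun ψ => ?_) fun ψ _ => by simp
    simp only [Finset.mem_filter, Finset.mem_univ, true_and, Equiv.coe_mulLeft]
    rw [show φ * ψ * (φ * ψ) = φ * φ * (ψ * ψ) from MonoidHom.ext fun w => by
      simp [mul_mul_mul_comm], hφ]
    constructor <;> intro e' <;>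
      exact MonoidHom.ext fun w => by simpa using DFunLike.congr_fun e' w
  by_contra hne
  exact hφv (Units.ext ((mul_eq_right₀ hne).1 h1))

open scoped Classical in
/-- The weights against a linear character. -/
theorem sum_weight (h : Setting P e) [Fintype (P : Subgroup G)]
    (φ : (P : Subgroup G) →* ℂˣ) :
    ∑ v ∈ Finset.univ.filter (fun v : (P : Subgroup G) => v ≠ 1),
      ((φ v : ℂˣ) : ℂ) * ((Nat.card (Om P) : ℂ) - (rtP P v : ℂ)) =
      (if φ = 1 then (Nat.card (P : Subgroup G) : ℂ) * (Nat.card (Om P) : ℂ) else 0) -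
        if φ * φ = 1 then (Nat.card (P : Subgroup G) : ℂ) else 0 := by
  rw [Finset.sum_filter_of_ne (p := fun v : (P : Subgroup G) => v ≠ 1) fun v _ hne e' => hne (by
    rw [e', show rtP P (1 : (P : Subgroup G)) = Nat.card (Om P) from rfl, sub_self, mul_zero])]
  simp only [mul_sub, Finset.sum_sub_distrib]
  congr 1
  · rw [← Finset.sum_mul, sum_hom_apply φ]
    split_ifs <;> simp
  · have h2 : ∀ v : (P : Subgroup G), ((φ v : ℂˣ) : ℂ) * (rtP P v : ℂ) =
        ∑ w ∈ Finset.univ.filter (fun w : (P : Subgroup G) => w * w = v),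
          (((φ * φ) w : ℂˣ) : ℂ) := by
      intro v
      rw [Finset.sum_congr rfl (g := fun _ => ((φ v : ℂˣ) : ℂ)) fun w hw => by
        rw [← (Finset.mem_filter.1 hw).2, map_mul, MonoidHom.mul_apply], Finset.sum_const,
        nsmul_eq_mul, mul_comm, rtP, Nat.card_eq_fintype_card, Fintype.card_subtype]
    rw [Finset.sum_congr rfl fun v _ => h2 v, Finset.sum_fiberwise, sum_hom_apply (φ * φ)]

open scoped Classical in
/-- A sum over an orbit as a sum over the automorphisms. -/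
theorem sum_orb (h : Setting P e) {ψ : (P : Subgroup G) →* ℂˣ} (hψ : ψ ≠ 1) [Fintype (autP P)]
    (v : (P : Subgroup G)) :
    ∑ φ ∈ orb ψ, ((φ v : ℂˣ) : ℂ) =
      ∑ γ : autP P, ((ψ ((γ : MulAut (P : Subgroup G)) v) : ℂˣ) : ℂ) := by
  symm
  refine Finset.sum_bij (fun γ _ => ψ.comp (γ : MulAut (P : Subgroup G)).toMonoidHom)
    (fun γ _ => mem_orb.2 ⟨γ, γ.2, fun _ => rfl⟩) (fun a _ b _ hab => h.dual_injective hψ hab)
    (fun φ hφ => ?_) fun γ _ => rfl
  obtain ⟨γ, hγ, hval⟩ := mem_orb.1 hφ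
  exact ⟨⟨γ, hγ⟩, Finset.mem_univ _, MonoidHom.ext fun w => (hval w).symm⟩

open scoped Classical in
/-- An orbit with real sums contains the inverse and consists of characters of square one. -/
theorem sq_eq_one_of_real (h : Setting P e) (hodd : ¬ 2 ∣ e)
    {ψ : (P : Subgroup G) →* ℂˣ} (hψ : ψ ≠ 1)
    (hreal : ∀ v : (P : Subgroup G), v ≠ 1 →
      conj (∑ φ ∈ orb ψ, ((φ v : ℂˣ) : ℂ)) = ∑ φ ∈ orb ψ, ((φ v : ℂˣ) : ℂ)) : ψ * ψ = 1 := by
  haveI := Fintype.ofFinite (P : Subgroup G)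
  have hre : ∀ v : (P : Subgroup G),
      ∑ φ ∈ orb ψ, ((φ⁻¹ v : ℂˣ) : ℂ) = ∑ φ ∈ orb ψ, ((φ v : ℂˣ) : ℂ) := by
    intro v
    by_cases hv : v = 1
    · simp [hv]
    · rw [← hreal v hv, map_sum]
      exact Finset.sum_congr rfl fun φ _ => (conj_apply φ v).symm
  have hmem : ψ⁻¹ ∈ orb ψ := by
    by_contra hn
    have h1 : ∑ v : (P : Subgroup G), ∑ φ ∈ orb ψ, (((ψ * φ⁻¹) v : ℂˣ) : ℂ) =
        ∑ v : (P : Subgroup G), ∑ φ ∈ orb ψ, (((ψ * φ) v : ℂˣ) : ℂ) := by
      refine Finset.sum_congr rfl fun v _ => ?_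
      simp only [MonoidHom.mul_apply, Units.val_mul, ← Finset.mul_sum]
      rw [hre v]
    rw [Finset.sum_comm] at h1
    conv_rhs at h1 => rw [Finset.sum_comm]
    simp only [sum_hom_apply] at h1
    rw [Finset.sum_ite, Finset.sum_ite] at h1
    have h2 : ((orb ψ).filter fun φ => ψ * φ = 1) = ∅ :=
      Finset.filter_eq_empty_iff.2 fun φ hφ e' => hn (by
        have e'' : φ = ψ⁻¹ := MonoidHom.ext fun w =>
          eq_inv_of_mul_eq_one_right (DFunLike.congr_fun e' w)
        rw [← e'']; exact hφ)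
    have h3 : ((orb ψ).filter fun φ => ψ * φ⁻¹ = 1) = {ψ} := by
      ext φ
      simp only [Finset.mem_filter, Finset.mem_singleton, mul_inv_eq_one]
      refine ⟨fun e' => ?_, fun e' => ⟨?_, ?_⟩⟩
      · exact MonoidHom.ext fun w => (by
          have := DFunLike.congr_fun e'.2 w
          exact (mul_inv_eq_one.1 this).symm)
      · rw [e']; exact mem_orb_self ψ
      · rw [e']
        exact MonoidHom.ext fun w => by simp
    simp [h2, h3, Nat.card_pos.ne'] at h1
  obtain ⟨γ, hγ, hval⟩ := mem_orb.1 hmem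
  have hval' : ∀ w, ψ (γ w) = (ψ w)⁻¹ := fun w => (hval w).symm
  have h2 : γ * γ = 1 := by
    by_contra hne
    refine hψ (h.eq_one_of_dual_fixed ((autP P).mul_mem hγ hγ) hne fun w => ?_)
    rw [MulAut.mul_apply, hval', hval', inv_inv]
  obtain ⟨j, hj⟩ : ∃ j, e = 2 * j + 1 := ⟨e / 2, by omega⟩
  have h3 : γ ^ e = 1 := by
    have h' : (⟨γ, hγ⟩ : autP P) ^ e = 1 := by rw [← h.card_autP]; exact pow_card_eq_one'
    exact congrArg Subtype.val h'
  rw [hj, pow_succ, pow_mul, pow_two, h2, one_pow, one_mul] at h3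
  refine MonoidHom.ext fun w => ?_
  have h4 := hval' w
  rw [h3, MulAut.one_apply] at h4
  show ψ w * ψ w = 1
  nth_rw 1 [h4]
  exact inv_mul_cancel _

open scoped Classical in
/-- The cubic moment of the orbit sums. -/
theorem sum_cube (h : Setting P e) [Fintype ((P : Subgroup G) →* ℂˣ)] [Fintype (autP P)]
    {t u : (P : Subgroup G)} (ht : t * t = 1) (hu : u * u ≠ 1) :
    ∑ ψ ∈ Finset.univ.erase (1 : (P : Subgroup G) →* ℂˣ),
      (∑ φ ∈ orb ψ, ((φ t : ℂˣ) : ℂ)) ^ 2 * (∑ φ ∈ orb ψ, ((φ u : ℂˣ) : ℂ)) =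
      -((e : ℂ) ^ 3) := by
  set θ : ((P : Subgroup G) →* ℂˣ) → ↥(P : Subgroup G) → ℂ := fun ψ v =>
    ∑ γ : autP P, ((ψ ((γ : MulAut (P : Subgroup G)) v) : ℂˣ) : ℂ) with hθ
  rw [Finset.sum_congr rfl (g := fun ψ => θ ψ t ^ 2 * θ ψ u) fun ψ hψ => by
    rw [sum_orb h (Finset.mem_erase.1 hψ).1, sum_orb h (Finset.mem_erase.1 hψ).1]]
  have hone : θ 1 t ^ 2 * θ 1 u = (e : ℂ) ^ 3 := by
    simp only [hθ, MonoidHom.one_apply, Units.val_one, Finset.sum_const, Finset.card_univ,
      nsmul_eq_mul, mul_one, ← Nat.card_eq_fintype_card, h.card_autP]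
    ring
  have hall : ∑ ψ : (P : Subgroup G) →* ℂˣ, θ ψ t ^ 2 * θ ψ u = 0 := by
    simp only [hθ, pow_two, Finset.sum_mul_sum]
    simp only [Finset.sum_mul]
    rw [Finset.sum_comm]
    refine Finset.sum_eq_zero fun a _ => ?_
    rw [Finset.sum_comm]
    refine Finset.sum_eq_zero fun b _ => ?_
    rw [Finset.sum_comm]
    refine Finset.sum_eq_zero fun c _ => ?_
    have hne : (a : MulAut (P : Subgroup G)) t * (c : MulAut (P : Subgroup G)) t *
        (b : MulAut (P : Subgroup G)) u ≠ 1 := by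
      intro e'
      apply hu
      apply (b : MulAut (P : Subgroup G)).injective
      have hs : ∀ x : (P : Subgroup G), x * x = 1 → ∀ y, y * y = 1 → x * y * (x * y) = 1 :=
        fun x hx y hy => by calc x * y * (x * y) = x * (y * x) * y := by simp [mul_assoc]
            _ = x * x * (y * y) := by rw [h.comm.is_comm.comm y x]; simp [mul_assoc]
            _ = 1 := by rw [hx, hy, mul_one]
      rw [map_mul, map_one, eq_inv_of_mul_eq_one_right e', ← mul_inv_rev, inv_eq_one]
      exact hs _ (by rw [← map_mul, ht, map_one]) _ (by rw [← map_mul, ht, map_one])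
    refine (Finset.sum_congr rfl fun ψ _ => ?_).trans ((sum_dual_apply h.comm _).trans (if_neg hne))
    rw [map_mul, map_mul, Units.val_mul, Units.val_mul]
  rw [← Finset.add_sum_erase _ _ (Finset.mem_univ (1 : (P : Subgroup G) →* ℂˣ)), hone] at hall
  linear_combination hall

end Cfsg.Agent.Blocks.FreeTwo
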