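import Mathlib
import Cfsg.Agent.S0205
import Cfsg.Agent.S0223
import Cfsg.Agent.S1225
import Cfsg.Agent.S1279
import Cfsg.Agent.S4739
import Cfsg.Agent.Lib.SolvableSignalizer.Connected
import Cfsg.Agent.Lib.Blocks.FreeTwo.Roots

/-!
# A free action of prime order which is not transitive on the involutions

The signalizer functor on the involutions of the Sylow 2-subgroup gives a normal subgroup of odd
order with quotient the normaliser, so the group is solvable.
-/

set_option autoImplicit false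
set_option linter.style.haveILetI false
set_option linter.unusedSectionVars false
open scoped Pointwise

namespace Cfsg.Agent.Blocks.FreeTwo

open Cfsg.Agent.Blocks Cfsg.Agent.Blocks.Star Cfsg.Agent.Characters
open Cfsg.Agent.BlocksChars.FrobNormalizer

universe u

variable {G : Type u} [Group G] [Finite G] {M : Ideal Cfsg.AlgInt}

/-- An extension of a group of odd order by a 2-group is solvable. -/
theorem isSolvable_of_odd_index {N : Subgroup G} [N.Normal] (hN : ¬ 2 ∣ Nat.card N)
    (hidx : ∃ k : ℕ, N.index = 2 ^ k) : Group.IsSolvable G := by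
  haveI : Fact (Nat.Prime 2) := ⟨Nat.prime_two⟩
  haveI : Group.IsSolvable N :=
    Cfsg.Agent.S0205.result (Nat.not_even_iff_odd.1 fun h => hN (even_iff_two_dvd.1 h))
  obtain ⟨k, hk⟩ := hidx
  haveI : Group.IsNilpotent (G ⧸ N) :=
    (IsPGroup.of_card (p := 2) (n := k) (by rw [← Subgroup.index_eq_card, hk])).isNilpotent
  exact Group.isSolvable_of_ker_le_range N.subtype (QuotientGroup.mk' N) (by simp)

/-- A group with a normal 2-complement is solvable. -/
theorem isSolvable_of_complement (h : Cfsg.HasNormalPComplement 2 G) : Group.IsSolvable G := by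
  haveI : Fact (Nat.Prime 2) := ⟨Nat.prime_two⟩
  obtain ⟨R, N, hN, hR⟩ := h
  haveI := hN
  obtain ⟨k, hk⟩ := IsPGroup.iff_card.1 R.2
  exact isSolvable_of_odd_index (N := N) (by rw [← hR.index_eq_card]; exact R.not_dvd_index)
    ⟨k, hR.symm.index_eq_card.trans hk⟩

open scoped Classical in
/-- An abelian quotient of odd order, trivial on the centraliser of a Sylow 2-subgroup, gives as
many characters of odd elements in the principal block. -/
theorem index_le_blockRank (hM : Cfsg.IsPModular 2 M) (P : Sylow 2 G) {K : Subgroup G} [K.Normal]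
    (hC : Subgroup.centralizer ((P : Subgroup G) : Set G) ≤ K) (hodd : ¬ 2 ∣ K.index)
    (habK : ∀ x y : G ⧸ K, x * y = y * x) :
    K.index ≤ Cfsg.blockRank 2 (Cfsg.principalBlock M G) := by
  haveI : Fact (Nat.Prime 2) := ⟨Nat.prime_two⟩
  letI : CommGroup (G ⧸ K) := { (inferInstance : Group (G ⧸ K)) with mul_comm := habK }
  haveI := Fintype.ofFinite ((G ⧸ K) →* ℂˣ)
  set f : ((G ⧸ K) →* ℂˣ) → G → ℂ := fun lam =>
    Cfsg.pRegularPart 2 (fun g : G => ((lam.comp (QuotientGroup.mk' K)) g : ℂ)) with hf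
  have hreg : ∀ z : G ⧸ K, ∃ g : G, ¬ 2 ∣ orderOf g ∧ (g : G ⧸ K) = z := by
    intro z
    obtain ⟨g, rfl⟩ := QuotientGroup.mk_surjective z
    obtain ⟨x, y, rfl, -, ⟨k, hk⟩, hy⟩ := exists_ppart Nat.prime_two g
    refine ⟨y, hy, ?_⟩
    have hx : (x : G ⧸ K) = 1 := by
      rw [← orderOf_eq_one_iff]
      refine Nat.eq_one_of_dvd_coprimes
        ((Nat.prime_two.coprime_iff_not_dvd.2 hodd).pow_left k) ?_ ?_
      · rw [← hk]; exact orderOf_map_dvd (QuotientGroup.mk' K) x
      · rw [Subgroup.index_eq_card]; exact orderOf_dvd_natCard _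
    rw [QuotientGroup.mk_mul, hx, one_mul]
  have hli : LinearIndependent ℂ f := by
    rw [Fintype.linearIndependent_iff]
    intro c hc
    have h0 := Fintype.linearIndependent_iff.1
      ((linearIndependent_monoidHom (G ⧸ K) ℂ).comp
        (fun lam : (G ⧸ K) →* ℂˣ => (Units.coeHom ℂ).comp lam) fun a b h =>
          MonoidHom.ext fun z => Units.ext (DFunLike.congr_fun h z)) c
    refine h0 (funext fun z => ?_)
    obtain ⟨g, hg, rfl⟩ := hreg z
    have := congrFun hc g
    simpa [hf, Cfsg.pRegularPart, Cfsg.IsPRegular, hg] using this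
  have hmem : ∀ lam : (G ⧸ K) →* ℂˣ, f lam ∈
      (fun χ : Cfsg.IrrCharacter G => Cfsg.pRegularPart 2 (χ : G → ℂ)) ''
        Cfsg.principalBlock M G := by
    intro lam
    refine ⟨⟨_, isIrrCharacter_linear (lam.comp (QuotientGroup.mk' K))⟩, fun g => ?_, rfl⟩
    simp only [Cfsg.centralChar, map_one, Units.val_one, div_one, mul_one]
    rw [← mul_one_sub]
    by_cases hi : 2 ∣ (Subgroup.centralizer ({g} : Set G)).index
    · refine ideal_mul_right hM ((ideal_natCast_iff hM _).2 hi) (ring_sub hM (ring_one hM) ?_)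
      refine ring_of_pow_eq_one hM (n := Nat.card (G ⧸ K)) Nat.card_pos.ne' ?_
      rw [← Units.val_pow_eq_pow_val, MonoidHom.comp_apply, ← map_pow, pow_card_eq_one', map_one,
        Units.val_one]
    · have hgK : g ∈ K := by
        set D := Subgroup.centralizer ({g} : Set G)
        obtain ⟨R⟩ : Nonempty (Sylow 2 D) := Sylow.nonempty
        have hRc : Nat.card ((R : Subgroup D).map D.subtype) = Nat.card (P : Subgroup G) := by
          rw [Subgroup.card_map_of_injective D.subtype_injective, R.card_eq_multiplicity,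
            P.card_eq_multiplicity, ← D.card_mul_index,
            Nat.factorization_mul Nat.card_pos.ne' (Subgroup.index_ne_zero_of_finite (H := D)),
            Finsupp.add_apply, Nat.factorization_eq_zero_of_not_dvd hi, add_zero]
        let R' : Sylow 2 G :=
          Sylow.ofCard ((R : Subgroup D).map D.subtype) (by rw [hRc, P.card_eq_multiplicity])
        obtain ⟨c, hc⟩ := MulAction.exists_smul_eq G R' P
        have hmemC : c * g * c⁻¹ ∈ Subgroup.centralizer ((P : Subgroup G) : Set G) := by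
          rw [Subgroup.mem_centralizer_iff]
          intro y hy
          rw [← hc, Sylow.coe_subgroup_smul, Sylow.coe_ofCard] at hy
          obtain ⟨z, hz, rfl⟩ := hy
          obtain ⟨z', -, rfl⟩ := hz
          show c * (z' : G) * c⁻¹ * (c * g * c⁻¹) = c * g * c⁻¹ * (c * (z' : G) * c⁻¹)
          rw [show c * (z' : G) * c⁻¹ * (c * g * c⁻¹) = c * ((z' : G) * g) * c⁻¹ by group,
            Subgroup.mem_centralizer_singleton_iff.1 z'.2]
          group
        have h2 := (inferInstance : K.Normal).conj_mem _ (hC hmemC) c⁻¹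
        simpa [mul_assoc] using h2
      rw [MonoidHom.comp_apply, QuotientGroup.mk'_apply, (QuotientGroup.eq_one_iff g).2 hgK,
        map_one, Units.val_one, sub_self, mul_zero]
      exact ideal_zero hM
  have hcard : K.index = Fintype.card ((G ⧸ K) →* ℂˣ) := by
    rw [Subgroup.index_eq_card, ← Nat.card_eq_fintype_card,
      card_dual ⟨⟨habK⟩⟩]
  rw [hcard, Cfsg.blockRank]
  haveI : Finite (Cfsg.IrrCharacter G) := inferInstance
  haveI := FiniteDimensional.span_of_finite ℂ
    ((Set.toFinite (Cfsg.principalBlock M G)).image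
      (fun χ : Cfsg.IrrCharacter G => Cfsg.pRegularPart 2 (χ : G → ℂ)))
  set S := Submodule.span ℂ ((fun χ : Cfsg.IrrCharacter G => Cfsg.pRegularPart 2 (χ : G → ℂ)) ''
    Cfsg.principalBlock M G)
  have hli' : LinearIndependent ℂ fun lam => (⟨f lam, Submodule.subset_span (hmem lam)⟩ : S) :=
    LinearIndependent.of_comp S.subtype hli
  exact hli'.fintype_card_le_finrank

/-- The order of the action divides the number of involutions in the Sylow subgroup. -/
theorem dvd_omega {P : Sylow 2 G} {e : ℕ} (h : Setting P e) : e ∣ Nat.card (Om P) - 1 := by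
  classical
  let S : Type u := {v : Om P // v.1 ≠ 1}
  letI : MulAction (autP P) S :=
    { smul := fun γ v => ⟨⟨(γ : MulAut (P : Subgroup G)) v.1.1, by rw [← map_mul, v.1.2, map_one]⟩,
        fun h' => v.2 ((γ : MulAut (P : Subgroup G)).injective
          (h'.trans (map_one (γ : MulAut (P : Subgroup G))).symm))⟩
      one_smul := fun _ => rfl
      mul_smul := fun _ _ _ => rfl }
  have h1 := dvd_card_of_stabilizer (X := S) (⊥ : Subgroup (autP P)) fun v γ hγ =>
    Subgroup.mem_bot.2 (Subtype.ext (h.eq_one_of_fixed γ.2 v.2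
      (congrArg (fun w : S => w.1.1) (MulAction.mem_stabilizer_iff.1 hγ))))
  rw [Subgroup.index_bot, h.card_autP] at h1
  haveI := Fintype.ofFinite (Om P)
  have h2 : Nat.card S = Nat.card (Om P) - 1 := by
    rw [Nat.card_congr (Equiv.subtypeEquivRight (q := fun v : Om P => v ≠ ⟨1, one_mul 1⟩)
      fun v => not_congr ⟨fun e' => Subtype.ext e', fun e' => congrArg Subtype.val e'⟩),
      Nat.card_eq_fintype_card,
      Fintype.card_subtype_compl, Fintype.card_subtype_eq, Nat.card_eq_fintype_card]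
  rwa [h2] at h1

/-- The order of a free action on a non-trivial 2-group is odd. -/
theorem odd_setting {P : Sylow 2 G} {e : ℕ} (h : Setting P e) (hP1 : (P : Subgroup G) ≠ ⊥) :
    ¬ 2 ∣ e ∧ ∃ r : ℕ, Nat.card (Om P) = 2 ^ r ∧ 1 ≤ r := by
  classical
  haveI : Fact (Nat.Prime 2) := ⟨Nat.prime_two⟩
  let A : Subgroup (P : Subgroup G) :=
    { carrier := {v | v * v = 1}
      one_mem' := one_mul 1
      mul_mem' := fun {a b} (ha : a * a = 1) (hb : b * b = 1) => by
        show a * b * (a * b) = 1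
        calc a * b * (a * b) = a * (b * a) * b := by simp [mul_assoc]
          _ = a * a * (b * b) := by rw [h.comm.is_comm.comm b a]; simp [mul_assoc]
          _ = 1 := by rw [ha, hb, mul_one]
      inv_mem' := fun {a} (ha : a * a = 1) => by
        show a⁻¹ * a⁻¹ = 1
        rw [← mul_inv_rev, ha, inv_one] }
  obtain ⟨r, hr⟩ := IsPGroup.iff_card.1 (P.2.to_subgroup A)
  obtain ⟨k, hk⟩ := IsPGroup.iff_card.1 P.2
  have hk0 : k ≠ 0 := fun h' => hP1 (Subgroup.eq_bot_of_card_eq _ (by rw [hk, h', pow_zero]))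
  obtain ⟨z, hz⟩ := exists_prime_orderOf_dvd_card' (G := (P : Subgroup G)) 2
    (hk ▸ dvd_pow_self 2 hk0)
  have hzA : z ∈ A := by
    show z * z = 1
    have h2 := pow_orderOf_eq_one z
    rwa [hz, pow_two] at h2
  have hr1 : 1 ≤ r := by
    by_contra h0
    rw [show r = 0 by omega, pow_zero] at hr
    have hz' : z ∈ (⊥ : Subgroup (P : Subgroup G)) := Subgroup.eq_bot_of_card_eq A hr ▸ hzA
    simp [Subgroup.mem_bot.1 hz'] at hz
  have hOm : Nat.card (Om P) = 2 ^ r := hr
  refine ⟨fun h2 => ?_, r, hOm, hr1⟩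
  have h3 := h2.trans (dvd_omega h)
  have h4 : 2 ∣ 2 ^ r := dvd_pow_self 2 (by omega)
  have h5 := Nat.two_pow_pos r
  rw [hOm] at h3
  omega

/-- The case of at least two classes of involutions. -/
theorem split_case (hM : Cfsg.IsPModular 2 M) {P : Sylow 2 G} {e : ℕ} (h : Setting P e)
    (hP1 : (P : Subgroup G) ≠ ⊥) (he : e.Prime) (hlt : e + 1 < Nat.card (Om P)) :
    Group.IsSolvable G ∧ e ≤ Cfsg.blockRank 2 (Cfsg.principalBlock M G) := by
  classical
  haveI : Fact (Nat.Prime 2) := ⟨Nat.prime_two⟩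
  haveI := h.comm
  obtain ⟨hodd, r, hr, -⟩ := odd_setting h hP1
  have he3 : 3 ≤ e := by
    have := he.two_le
    omega
  have hr3 : 3 ≤ r := by
    by_contra hr'
    have : 2 ^ r ≤ 2 ^ 2 := Nat.pow_le_pow_right (by norm_num) (by omega)
    omega
  set A := Cfsg.Agent.S4739.omega 2 (P : Subgroup G) h.comm with hAdef
  have hA : Cfsg.IsElementaryAbelian 2 A :=
    ⟨⟨⟨fun a b => Subtype.ext
      (congrArg Subtype.val (h.comm.is_comm.comm (⟨_, a.2.1⟩ : (P : Subgroup G)) ⟨_, b.2.1⟩) :)⟩⟩,
      fun a ha => ha.2⟩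
  have hcardA : 2 ^ 3 ≤ Nat.card A := by
    rw [show Nat.card A = Nat.card (Om P) from Nat.card_congr
      { toFun := fun a => ⟨⟨a.1, a.2.1⟩, Subtype.ext (by
          show (a : G) * a = 1
          rw [← pow_two]; exact a.2.2)⟩
        invFun := fun v => ⟨v.1.1, v.1.2, by
          rw [pow_two]; exact congrArg Subtype.val v.2⟩
        left_inv := fun _ => rfl
        right_inv := fun _ => rfl }, hr]
    exact Nat.pow_le_pow_right (by norm_num) hr3
  have hA2 : 2 ^ 2 ≤ Nat.card A := le_trans (by norm_num) hcardA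
  have hne : ∀ {a : G} (ha : a ∈ (P : Subgroup G)), a ≠ 1 → (⟨a, ha⟩ : (P : Subgroup G)) ≠ 1 :=
    fun ha ha1 e' => ha1 (congrArg Subtype.val e')
  have hsolv : ∀ a ∈ A, a ≠ 1 → Group.IsSolvable ↥(Subgroup.centralizer ({a} : Set G)) := by
    intro a ha ha1
    obtain ⟨K, hKn, hK2, -, -, hidx, -⟩ := h.exists_complement (hne ha.1 ha1)
    haveI := hKn
    exact isSolvable_of_odd_index (N := K) hK2 hidx
  have hθ := Cfsg.Agent.S1279.result 2 A hA hA2 hsolv
  set W := ⨆ a : {a : G // a ∈ A ∧ a ≠ 1}, Cfsg.centralizerPPrimeCore 2 (a : G) with hW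
  have hmem := Cfsg.Agent.SolvableSignalizer.iSup_mem Nat.prime_two hA hcardA hθ
  rw [← hW] at hmem
  have hW2 : ¬ 2 ∣ Nat.card W := hmem.2.1
  set N := Subgroup.normalizer ((P : Subgroup G) : Set G) with hN
  have hNW : N ≤ Subgroup.normalizer (W : Set G) := by
    intro g hg
    refine Cfsg.Agent.SolvableSignalizer.Amalgam.mem_normalizer_of_iSup fun a => ?_
    have hga : g * a * g⁻¹ ∈ A :=
      ⟨(Subgroup.mem_normalizer_iff.1 hg _).1 a.2.1.1, by rw [conj_pow, a.2.1.2, mul_one,
        mul_inv_cancel]⟩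
    have hga1 : g * a * g⁻¹ ≠ 1 := fun h => a.2.2 (conj_eq_one_iff.1 h)
    refine ⟨⟨_, hga, hga1⟩, le_of_eq ?_⟩
    rw [SolvableSignalizer.centralizerPPrimeCore_conj 2 (a : G) g, Coprime.conj_smul_eq_map]
  set H := W ⊔ N with hH
  have hPH : (P : Subgroup G) ≤ H := Subgroup.le_normalizer.trans le_sup_right
  -- involutions of `P`
  have hinv : ∀ {a : G}, a ∈ (P : Subgroup G) → orderOf a = 2 → a ∈ A ∧ a ≠ 1 := fun {a} ha ho =>
    ⟨⟨ha, by rw [← ho]; exact pow_orderOf_eq_one a⟩, fun e' => by simp [e'] at ho⟩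
  have hCH : ∀ a ∈ (P : Subgroup G), orderOf a = 2 → Subgroup.centralizer ({a} : Set G) ≤ H := by
    intro a ha ho
    obtain ⟨haA, ha1⟩ := hinv ha ho
    refine (Cfsg.Agent.S4739.centralizer_le_sup P h.comm (hsolv a haA ha1) ha).trans
      (sup_le_sup ?_ le_rfl)
    exact le_iSup (fun a : {a : G // a ∈ A ∧ a ≠ 1} => Cfsg.centralizerPPrimeCore 2 (a : G))
      ⟨a, haA, ha1⟩
  -- conjugating involutions of `H` into `P`
  have hconjH : ∀ t ∈ H, orderOf t = 2 → ∃ c ∈ H, c * t * c⁻¹ ∈ (P : Subgroup G) := by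
    intro t ht hto
    have hp : IsPGroup 2 (Subgroup.zpowers (⟨t, ht⟩ : H)) :=
      IsPGroup.of_card (n := 1) (by rw [Nat.card_zpowers, Subgroup.orderOf_mk, hto]; norm_num)
    obtain ⟨R, hR⟩ := hp.exists_le_sylow
    obtain ⟨c, hc⟩ := MulAction.exists_smul_eq H R (P.subtype hPH)
    refine ⟨c, c.2, ?_⟩
    have : (c * ⟨t, ht⟩ * c⁻¹ : H) ∈ ((P.subtype hPH : Sylow 2 H) : Subgroup H) := by
      rw [← hc, Sylow.coe_subgroup_smul, Subgroup.mem_pointwise_smul_iff_inv_smul_mem]
      simpa [MulAut.smul_def, mul_assoc] using hR (Subgroup.mem_zpowers _)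
    exact this
  have htop : H = ⊤ := by
    by_contra hne'
    obtain ⟨k, hk⟩ := IsPGroup.iff_card.1 P.2
    have hP2 : 2 ∣ Nat.card (P : Subgroup G) := by
      rw [hk]
      exact dvd_pow_self 2 fun h0 => hP1 (Subgroup.eq_bot_of_card_eq _ (by rw [hk, h0, pow_zero]))
    have heven : Even (Nat.card H) :=
      even_iff_two_dvd.2 (hP2.trans (Subgroup.card_dvd_of_le hPH))
    have hSE : Cfsg.IsStronglyEmbedded H := (Cfsg.Agent.S0223.result H hne' heven).2 ⟨?_, ?_⟩
    · obtain ⟨s, hs⟩ := exists_prime_orderOf_dvd_card' (G := (P : Subgroup G)) 2 hP2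
      have hso : orderOf (s : G) = 2 := by rw [Subgroup.orderOf_coe, hs]
      obtain ⟨g, hg⟩ : ∃ g : G, g ∉ H := by
        by_contra hall
        push Not at hall
        exact hne' (eq_top_iff.2 fun g _ => hall g)
      have hu : g * (s : G) * g⁻¹ ∉ H := by
        intro hmem
        refine (Nat.not_even_iff_odd.2 (hSE.2.2 g hg)) (even_iff_two_dvd.2 ?_)
        have hmem2 : g * (s : G) * g⁻¹ ∈ H ⊓ H.map (MulAut.conj g).toMonoidHom :=
          ⟨hmem, ⟨(s : G), hPH s.2, rfl⟩⟩
        have ho : orderOf (g * (s : G) * g⁻¹) = 2 :=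
          (MulEquiv.orderOf_eq (MulAut.conj g) (s : G)).trans hso
        rw [← ho, ← Subgroup.orderOf_mk _ hmem2]
        exact orderOf_dvd_natCard _
      have huo : orderOf (g * (s : G) * g⁻¹) = 2 :=
        (MulEquiv.orderOf_eq (MulAut.conj g) (s : G)).trans hso
      have hall := (Cfsg.Agent.S1225.result H hSE _ huo hu s s hso (hPH s.2) hso (hPH s.2)).2
      -- all involutions of `P` are conjugate under the normaliser
      have hs1 : s ≠ 1 := fun e' => by simp [e'] at hs
      haveI := Fintype.ofFinite (Om P)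
      have hsub : ∀ v : {v : Om P // v ≠ ⟨1, one_mul 1⟩},
          ∃ γ : autP P, (γ : MulAut (P : Subgroup G)) s = v.1.1 := by
        intro v
        have hv1 : v.1.1 ≠ 1 := fun e' => v.2 (Subtype.ext e')
        obtain ⟨γ, hγ, hγs⟩ := h.fusion (y := s) (z := v.1.1) (hall _ _ hso (by
          rw [Subgroup.orderOf_coe]
          exact orderOf_eq_prime (by rw [pow_two]; exact v.1.2) hv1))
        exact ⟨⟨γ, hγ⟩, hγs⟩
      choose F hF using hsub
      have hle := Nat.card_le_card_of_injective F fun a b hab => Subtype.ext (Subtype.ext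
        ((hF a).symm.trans ((congrArg (fun γ : autP P => (γ : MulAut (P : Subgroup G)) s) hab).trans
          (hF b))))
      rw [h.card_autP, Nat.card_eq_fintype_card, Fintype.card_subtype_compl,
        Fintype.card_subtype_eq, ← Nat.card_eq_fintype_card] at hle
      omega
    · intro t ht hto
      obtain ⟨c, hc, hcP⟩ := hconjH t ht hto
      intro x hx
      have hx' : c * x * c⁻¹ ∈ Subgroup.centralizer ({c * t * c⁻¹} : Set G) := by
        rw [Subgroup.mem_centralizer_singleton_iff] at hx ⊢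
        rw [show c * x * c⁻¹ * (c * t * c⁻¹) = c * (x * t) * c⁻¹ by group, hx]; group
      have := hCH _ hcP ((MulEquiv.orderOf_eq (MulAut.conj c) t).trans hto) hx'
      have h' := mul_mem (mul_mem (inv_mem hc) this) hc
      simpa [mul_assoc] using h'
    · intro t ht s hs hto hso hts
      obtain ⟨c, hc, hcP⟩ := hconjH t ht hto
      obtain ⟨d, hd, hdP⟩ := hconjH s hs hso
      obtain ⟨γ, hγ, hγt⟩ := h.fusion (y := ⟨_, hcP⟩) (z := ⟨_, hdP⟩)
        ((isConj_iff.2 ⟨c, rfl⟩ : IsConj t _).symm.trans (hts.trans (isConj_iff.2 ⟨d, rfl⟩)))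
      obtain ⟨n, hn, hnv⟩ := autP_apply hγ
      refine ⟨d⁻¹ * n * c, mul_mem (mul_mem (inv_mem hd) (Subgroup.mem_sup_right hn)) hc, ?_⟩
      have e' : n * (c * t * c⁻¹) * n⁻¹ = d * s * d⁻¹ := by
        rw [← hnv ⟨_, hcP⟩, hγt]
      calc d⁻¹ * n * c * t * (d⁻¹ * n * c)⁻¹
          = d⁻¹ * (n * (c * t * c⁻¹) * n⁻¹) * d := by group
        _ = s := by rw [e']; group
  -- the structure
  haveI hWn : W.Normal := by
    refine Subgroup.normalizer_eq_top_iff.1 (eq_top_iff.2 ?_)
    rw [← htop]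
    exact sup_le Subgroup.le_normalizer hNW
  set C := Subgroup.centralizer ((P : Subgroup G) : Set G) with hC
  have hCN : C ≤ N := Subgroup.centralizer_le_normalizer _
  have hWN : ∀ w ∈ W, w ∈ N → w ∈ C := by
    intro w hw hwN
    rw [hC, Subgroup.mem_centralizer_iff]
    intro x hx
    have h1 : w * x * w⁻¹ * x⁻¹ ∈ (P : Subgroup G) :=
      mul_mem ((Subgroup.mem_normalizer_iff.1 hwN x).1 hx) (inv_mem hx)
    have h2 : w * x * w⁻¹ * x⁻¹ ∈ W := by
      rw [show w * x * w⁻¹ * x⁻¹ = w * (x * w⁻¹ * x⁻¹) by group]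
      exact mul_mem hw (hWn.conj_mem _ (inv_mem hw) x)
    have h3 : w * x * w⁻¹ * x⁻¹ = 1 := by
      rw [← orderOf_eq_one_iff]
      obtain ⟨k, hk⟩ := IsPGroup.iff_card.1 P.2
      refine Nat.eq_one_of_dvd_coprimes ((Nat.prime_two.coprime_iff_not_dvd.2 hW2).pow_left k) ?_ ?_
      · rw [← Subgroup.orderOf_mk _ h1, ← hk]; exact orderOf_dvd_natCard _
      · rw [← Subgroup.orderOf_mk _ h2]; exact orderOf_dvd_natCard _
    calc x * w = w * x * w⁻¹ * x⁻¹ * (x * w) := by rw [h3, one_mul]
      _ = w * x := by group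
  -- the quotient map
  haveI hCn : (C.subgroupOf N).Normal := by
    rw [hC, ← Subgroup.normalizerMonoidHom_ker]
    exact MonoidHom.normal_ker _
  have hdec : ∀ g : G, ∃ w ∈ W, ∃ n ∈ N, w * n = g := fun g =>
    Subgroup.mem_sup_of_normal_left.1 (show g ∈ W ⊔ N by rw [← hH, htop]; exact trivial)
  set K := W ⊔ C with hK
  have hKn : K.Normal := by
    refine Subgroup.normalizer_eq_top_iff.1 (eq_top_iff.2 fun g _ => ?_)
    obtain ⟨w, hw, n, hn, rfl⟩ := hdec g
    refine mul_mem (Subgroup.le_normalizer (Subgroup.mem_sup_left hw)) ?_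
    have hnC : n ∈ Subgroup.normalizer (C : Set G) :=
      Subgroup.normal_subgroupOf_iff_le_normalizer hCN |>.1 hCn hn
    exact Subgroup.normalizer_inf_normalizer_le_normalizer_sup W C
      ⟨by rw [Subgroup.normalizer_eq_top]; trivial, hnC⟩
  haveI := hKn
  have hKN : K.subgroupOf N = C.subgroupOf N := by
    ext ⟨x, hx⟩
    rw [Subgroup.mem_subgroupOf, Subgroup.mem_subgroupOf]
    refine ⟨fun hxK => ?_, fun hxC => Subgroup.mem_sup_right hxC⟩
    obtain ⟨w, hw, c, hc, hwc⟩ := Subgroup.mem_sup_of_normal_left.1 (hxK : (⟨x, hx⟩ : N).1 ∈ W ⊔ C)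
    have hwN : w ∈ N := by
      have := mul_mem (show w * c ∈ N by rw [hwc]; exact hx) (inv_mem (hCN hc))
      simpa [mul_assoc] using this
    show x ∈ C
    rw [show x = w * c from hwc.symm]
    exact mul_mem (hWN w hw hwN) hc
  let φ : N →* G ⧸ K := (QuotientGroup.mk' K).comp N.subtype
  have hφs : Function.Surjective φ := by
    intro z
    obtain ⟨g, rfl⟩ := QuotientGroup.mk_surjective z
    obtain ⟨w, hw, n, hn, rfl⟩ := hdec g
    refine ⟨⟨n, hn⟩, ?_⟩
    show ((n : G) : G ⧸ K) = ((w * n : G) : G ⧸ K)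
    rw [QuotientGroup.mk_mul, (QuotientGroup.eq_one_iff w).2 (Subgroup.mem_sup_left hw), one_mul]
  have hidx : K.index = e := by
    rw [Subgroup.index_eq_card, ← Nat.card_congr
      (QuotientGroup.quotientKerEquivOfSurjective φ hφs).toEquiv, ← Subgroup.index_eq_card,
      show φ.ker = K.subgroupOf N by rw [← MonoidHom.comap_ker, QuotientGroup.ker_mk']; rfl, hKN]
    exact h.relIndex
  haveI : Fact e.Prime := ⟨he⟩
  haveI : IsCyclic (G ⧸ K) :=
    isCyclic_of_prime_card (p := e) (by rw [← Subgroup.index_eq_card, hidx])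
  have habK : ∀ x y : G ⧸ K, x * y = y * x :=
    (IsCyclic.commGroup (α := G ⧸ K)).mul_comm
  refine ⟨?_, hidx ▸ index_le_blockRank hM P le_sup_right (hidx.symm ▸ hodd) habK⟩
  -- solvability
  haveI : Group.IsSolvable W :=
    Cfsg.Agent.S0205.result (Nat.not_even_iff_odd.1 fun h => hW2 (even_iff_two_dvd.1 h))
  haveI hCsolv : Group.IsSolvable C := by
    have hPC : (P : Subgroup G) ≤ C := fun x hx => Subgroup.mem_centralizer_iff.2 fun y hy =>
      congrArg Subtype.val (h.comm.is_comm.comm (⟨y, hy⟩ : (P : Subgroup G)) ⟨x, hx⟩)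
    refine isSolvable_of_complement
      (Cfsg.Agent.Transfer.NormalPComplement.hasNormalPComplement_of_normalizer_le_centralizer
        (P.subtype hPC) fun x _ => Subgroup.mem_centralizer_iff.2 fun y hy => Subtype.ext ?_)
    exact Subgroup.mem_centralizer_iff.1 x.2 _ hy
  haveI hKsolv : Group.IsSolvable K := by
    let ψ : C →* K ⧸ W.subgroupOf K :=
      (QuotientGroup.mk' (W.subgroupOf K)).comp (Subgroup.inclusion le_sup_right)
    have hψ : Function.Surjective ψ := by
      intro z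
      obtain ⟨⟨k, hk⟩, rfl⟩ := QuotientGroup.mk_surjective z
      obtain ⟨w, hw, c, hc, rfl⟩ := Subgroup.mem_sup_of_normal_left.1 (hk : k ∈ W ⊔ C)
      refine ⟨⟨c, hc⟩, QuotientGroup.eq.2 ?_⟩
      rw [Subgroup.mem_subgroupOf]
      show c⁻¹ * (w * c) ∈ W
      simpa [mul_assoc] using hWn.conj_mem w hw c⁻¹
    haveI : Group.IsSolvable (K ⧸ W.subgroupOf K) := Group.isSolvable_of_surjective hψ
    exact Group.isSolvable_of_ker_le_range (Subgroup.inclusion (le_sup_left : W ≤ K))
      (QuotientGroup.mk' (W.subgroupOf K)) (by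
        rw [QuotientGroup.ker_mk']
        exact fun x hx => ⟨⟨(x : G), hx⟩, Subtype.ext rfl⟩)
  haveI : Group.IsSolvable (G ⧸ K) := Group.isSolvable_of_comm habK
  exact Group.isSolvable_of_ker_le_range K.subtype (QuotientGroup.mk' K) (by simp)

end Cfsg.Agent.Blocks.FreeTwo
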