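import Mathlib
import Cfsg.Agent.S4722
import Cfsg.Agent.BlocksChars.FrobNormalizer.Main
import Cfsg.Agent.Lib.Blocks.FreeTwo.Dual
import Cfsg.Agent.Lib.Blocks.FreeTwo.Split

/-!
# A free action of prime order, transitive on the involutions, in exponent at least four

The non-exceptional characters take the values `±1`, so there are as many as the order of the
action; the class of an involution then forces a linear character.
-/

set_option autoImplicit false
set_option linter.style.haveILetI false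
set_option linter.unusedSectionVars false

namespace Cfsg.Agent.Blocks.FreeTwo

open Cfsg.Agent.Blocks Cfsg.Agent.Blocks.Star Cfsg.Agent.Characters Cfsg.Agent.FrobeniusSchur
open Cfsg.Agent.BlocksChars.FrobNormalizer
open Cfsg.Agent.BlocksChars.SectionOrth
open scoped ComplexConjugate _root_.Classical

universe u

variable {G : Type u} [Group G] [Finite G] {M : Ideal Cfsg.AlgInt}

/-- What the transitive case gives. -/
structure TransData (P : Sylow 2 G) (e : ℕ) (M : Ideal Cfsg.AlgInt)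
    [Fintype ((P : Subgroup G) →* ℂˣ)]
    (Xf Yf : Finset (Cfsg.IrrCharacter G)) (a : Cfsg.IrrCharacter G → ℤ) (δ : ℤ)
    (ζ : ((P : Subgroup G) →* ℂˣ) → Cfsg.IrrCharacter G) : Prop where
  disj : Disjoint Xf Yf
  mem_block : ∀ χ, χ ∈ Cfsg.principalBlock M G ↔ χ ∈ Xf ∨ χ ∈ Yf
  cardX : Xf.card = e
  cardY : Yf.card * e = Nat.card (P : Subgroup G) - 1
  triv_mem : trivIrr G ∈ Xf
  triv_a : a (trivIrr G) = 1
  sq_a : ∀ χ ∈ Xf, a χ ^ 2 = 1
  valueX : ∀ χ ∈ Xf, ∀ z y : G, Cfsg.IsPPart 2 z y → y ∈ (P : Subgroup G) → y ≠ 1 →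
    (χ : G → ℂ) z = (a χ : ℂ)
  sign : δ = 1 ∨ δ = -1
  fibre : ∀ η ∈ Yf, ∃ ψ, ψ ≠ 1 ∧ ζ ψ = η ∧
    ((Finset.univ.erase 1).filter fun φ => ζ φ = η) = orb ψ
  zeta_mem : ∀ ψ, ψ ≠ 1 → ζ ψ ∈ Yf
  valueY : ∀ ψ, ψ ≠ 1 → ∀ (z : G) (y : (P : Subgroup G)), Cfsg.IsPPart 2 z (y : G) →
    (y : G) ≠ 1 → (ζ ψ : G → ℂ) z = (δ : ℂ) * ∑ φ ∈ orb ψ, ((φ y : ℂˣ) : ℂ)
  degY : ∀ η ∈ Yf, (δ : ℂ) * (η : G → ℂ) 1 = ∑ χ ∈ Xf, (a χ : ℂ) * (χ : G → ℂ) 1

/-- The indicators and the values force signs. -/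
theorem exists_transData (hM : Cfsg.IsPModular 2 M) {P : Sylow 2 G} {e : ℕ} (h : Setting P e)
    (he : e.Prime) (hodd : ¬ 2 ∣ e) (hOm : Nat.card (Om P) = e + 1)
    (hlt : e + 1 < Nat.card (P : Subgroup G)) [Fintype ((P : Subgroup G) →* ℂˣ)] :
    ∃ Xf Yf a δ ζ, TransData P e M Xf Yf a δ ζ := by
  haveI : Fact (Nat.Prime 2) := ⟨Nat.prime_two⟩
  haveI : Fact e.Prime := ⟨he⟩
  haveI := Fintype.ofFinite G
  haveI := Fintype.ofFinite (P : Subgroup G)
  haveI := Fintype.ofFinite (Cfsg.IrrCharacter G)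
  haveI := Fintype.ofFinite (Om P)
  set q := Nat.card (P : Subgroup G) with hq
  have hq2 := sq_le_card h hOm hlt
  rw [← hq] at hq2
  obtain ⟨X, Y, a, d, δ, ζ, hB, hdisj, hY, -, htriv, ha1, hδ, hval, hζY, hζs, hζo, hζi, hζv, hnorm,
    -, hlin⟩ := h.structure_principal hM he.pos hlt
  set Xf := (Set.toFinite X).toFinset with hXf
  set Yf := (Set.toFinite Y).toFinset with hYf
  have hmX : ∀ {χ}, χ ∈ Xf ↔ χ ∈ X := Set.Finite.mem_toFinset _
  have hmY : ∀ {χ}, χ ∈ Yf ↔ χ ∈ Y := Set.Finite.mem_toFinset _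
  have hXfd : Disjoint Xf Yf := Finset.disjoint_left.2 fun χ hχ hχ' =>
    Set.disjoint_left.1 hdisj (hmX.1 hχ) (hmY.1 hχ')
  have hblock : ∀ χ, χ ∈ Cfsg.principalBlock M G ↔ χ ∈ Xf ∨ χ ∈ Yf := fun χ => by
    rw [hB, hmX, hmY]; rfl
  -- sizes
  have hdvd : e ∣ q - 1 := by
    have h1 := dvd_card_setting h {v | v ≠ 1}
      (fun γ _ v hv e' => hv (γ.injective (e'.trans (map_one γ).symm))) (by simp)
    have h2 : Nat.card {v : (P : Subgroup G) | v ≠ 1} = q - 1 := by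
      rw [hq, Nat.card_eq_fintype_card, Nat.card_eq_fintype_card]
      exact (Fintype.card_subtype_compl (fun v : (P : Subgroup G) => v = 1)).trans (by simp)
    rwa [h2] at h1
  obtain ⟨n, hn⟩ := hdvd
  rw [hn, Nat.mul_div_cancel_left _ he.pos] at hY
  rw [hn, Nat.mul_div_cancel_left _ he.pos] at hlin
  rw [show ((q : ℤ) - 1) / (e : ℤ) = (n : ℤ) by
    rw [← Nat.cast_one, ← Nat.cast_sub (Nat.card_pos : 0 < q), hn, Nat.cast_mul,
      Int.mul_ediv_cancel_left _ (by exact_mod_cast he.pos.ne')]] at hnorm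
  have hnbig : e + 2 ≤ n := by
    by_contra hcon
    have hmul : e * n ≤ e * (e + 1) := Nat.mul_le_mul_left e (by omega)
    have : e * (e + 1) + e + 1 ≤ q := by
      calc e * (e + 1) + e + 1 = (e + 1) * (e + 1) := by ring
        _ ≤ q := hq2
    have h2 := he.two_le
    omega
  have htrivf : trivIrr G ∈ Xf := hmX.2 htriv
  rw [finsum_mem_eq_finite_toFinset_sum _ (Set.toFinite X), ← hXf] at hnorm
  have hsum1 : 1 ≤ ∑ χ ∈ Xf, a χ ^ 2 := by
    refine le_trans ?_ (Finset.single_le_sum (fun χ _ => sq_nonneg (a χ)) htrivf)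
    rw [ha1]; norm_num
  have hd0 : d = 0 := by
    by_contra hd
    have h1 : 1 ≤ d ^ 2 := by have := sq_pos_of_ne_zero hd; omega
    have h2 : (e : ℤ) + 2 ≤ (n : ℤ) := by exact_mod_cast hnbig
    nlinarith [sq_nonneg (d - δ), mul_le_mul (show (e : ℤ) + 1 ≤ (n : ℤ) - 1 by omega) h1
      zero_le_one (by omega)]
  have hδ2 : δ ^ 2 = 1 := by rcases hδ with rfl | rfl <;> norm_num
  subst hd0
  have hsq : ∑ χ ∈ Xf, a χ ^ 2 = e := by
    simp only [zero_sub, neg_sq, hδ2, zero_pow (two_ne_zero : (2 : ℕ) ≠ 0), mul_zero] at hnorm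
    linarith
  have hvalY : ∀ ψ, ψ ≠ 1 → ∀ (z : G) (y : (P : Subgroup G)), Cfsg.IsPPart 2 z (y : G) →
      (y : G) ≠ 1 → (ζ ψ : G → ℂ) z = (δ : ℂ) * ∑ φ ∈ orb ψ, ((φ y : ℂˣ) : ℂ) := by
    intro ψ hψ z y hz hy
    rw [hζv ψ hψ z y hz hy, Int.cast_zero, zero_add]
  have hppart : ∀ v : (P : Subgroup G), Cfsg.IsPPart 2 (v : G) (v : G) := fun v =>
    isPPart_self Nat.prime_two (exists_orderOf_eq P.2 v)
  have hne : ∀ {v : (P : Subgroup G)}, v ≠ 1 → (v : G) ≠ 1 := fun hv e' => hv (Subtype.ext e')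
  -- the exceptional character of square one
  obtain ⟨ψ₂, hψ₂1, hψ₂⟩ : ∃ ψ : (P : Subgroup G) →* ℂˣ, ψ ≠ 1 ∧ ψ * ψ = 1 := by
    by_contra hcon
    push Not at hcon
    have hsub : Subsingleton {ψ : (P : Subgroup G) →* ℂˣ // ψ * ψ = 1} :=
      ⟨fun x y => Subtype.ext ((by_contra fun h' => hcon _ h' x.2 : x.1 = 1).trans
        (by_contra fun h' => hcon _ h' y.2 : y.1 = 1).symm)⟩
    have hcard := card_dual_sq h
    rw [hOm] at hcard
    have := Finite.card_le_one_iff_subsingleton.2 hsub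
    have := he.two_le
    omega
  set T := Finset.univ.filter (fun ψ : (P : Subgroup G) →* ℂˣ => ψ * ψ = 1) with hT
  have hTcard : T.card = e + 1 := by
    rw [hT, ← Fintype.card_subtype, ← Nat.card_eq_fintype_card, card_dual_sq h, hOm]
  have h1T : (1 : (P : Subgroup G) →* ℂˣ) ∈ T :=
    Finset.mem_filter.2 ⟨Finset.mem_univ _, MonoidHom.ext fun w => by simp⟩
  have hsqorb : ∀ ψ φ : (P : Subgroup G) →* ℂˣ, φ ∈ orb ψ → (φ * φ = 1 ↔ ψ * ψ = 1) := by
    intro ψ φ hφ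
    obtain ⟨γ, -, hγ⟩ := mem_orb.1 hφ
    constructor <;> intro e'
    · refine MonoidHom.ext fun w => ?_
      have := DFunLike.congr_fun e' (γ⁻¹ w)
      simpa [hγ] using this
    · refine MonoidHom.ext fun w => ?_
      have := DFunLike.congr_fun e' (γ w)
      simpa [hγ] using this
  have horb2 : orb ψ₂ = T.erase 1 := by
    refine Finset.eq_of_subset_of_card_le (fun φ hφ => ?_) ?_
    · exact Finset.mem_erase.2 ⟨ne_one_of_mem_orb hψ₂1 hφ,
        Finset.mem_filter.2 ⟨Finset.mem_univ _, (hsqorb _ _ hφ).2 hψ₂⟩⟩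
    · rw [h.card_orb hψ₂1, Finset.card_erase_of_mem h1T, hTcard]
      omega
  set η₂ := ζ ψ₂ with hη₂
  -- multiplicities
  choose m hm using fun χ : Cfsg.IrrCharacter G => exists_mult χ
  have hν : ∀ χ : Cfsg.IrrCharacter G, ∃ ν : ℤ, nu (χ : G → ℂ) = (ν : ℂ) ∧
      (ν = 0 ∨ ν = 1 ∨ ν = -1) := fun χ => by
    rcases nu_trichotomy χ with h | h | h
    exacts [⟨0, by simp [h], by simp⟩, ⟨1, by simp [h], by simp⟩, ⟨-1, by simp [h], by simp⟩]
  choose ν hνe hν3 using hν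
  have heq : ((e : ℂ) * (q : ℂ)) ≠ 0 :=
    mul_ne_zero (Nat.cast_ne_zero.2 he.pos.ne') (Nat.cast_ne_zero.2 Nat.card_pos.ne')
  have hweight1 := sum_weight h (1 : (P : Subgroup G) →* ℂˣ)
  rw [if_pos rfl, if_pos (MonoidHom.ext fun w => by simp), hOm, ← hq] at hweight1
  simp only [MonoidHom.one_apply, Units.val_one, one_mul, Nat.cast_add, Nat.cast_one] at hweight1
  have hmX' : ∀ χ ∈ Xf, (m χ : ℤ) = ν χ + a χ := by
    intro χ hχ
    have h1 := mult_formula_setting h hM ((hblock χ).2 (Or.inl hχ)) (hm χ)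
    rw [hνe, ← hq, Finset.sum_congr rfl (g := fun v : (P : Subgroup G) =>
      (a χ : ℂ) * ((Nat.card (Om P) : ℂ) - (rtP P v : ℂ))) fun v hv => by
        rw [(hval χ (hmX.1 hχ)).2 _ _ (hppart v) v.2 (hne (Finset.mem_filter.1 hv).2)],
      ← Finset.mul_sum, hOm] at h1
    push_cast at h1
    rw [hweight1] at h1
    have h2 : ((m χ : ℤ) : ℂ) = ((ν χ + a χ : ℤ) : ℂ) := by
      push_cast
      exact mul_left_cancel₀ heq (by linear_combination h1)
    exact_mod_cast h2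
  have hmYψ : ∀ ψ, ψ ≠ 1 →
      ((m (ζ ψ) : ℤ) = ν (ζ ψ) + if ψ * ψ = 1 then -δ else 0) := by
    intro ψ hψ
    have h1 := mult_formula_setting h hM ((hblock _).2 (Or.inr (hmY.2 (hζY ψ hψ)))) (hm (ζ ψ))
    rw [hνe, ← hq, Finset.sum_congr rfl (g := fun v : (P : Subgroup G) =>
      (δ : ℂ) * ∑ φ ∈ orb ψ, ((φ v : ℂˣ) : ℂ) * ((Nat.card (Om P) : ℂ) - (rtP P v : ℂ)))
        fun v hv => by
          rw [hvalY ψ hψ _ v (hppart v) (hne (Finset.mem_filter.1 hv).2), mul_assoc,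
            Finset.sum_mul],
      ← Finset.mul_sum, Finset.sum_comm, Finset.sum_congr rfl (g := fun _ =>
        -(if ψ * ψ = 1 then (q : ℂ) else 0)) fun φ hφ => by
          rw [sum_weight h φ, if_neg (ne_one_of_mem_orb hψ hφ), zero_sub, ← hq]
          exact congrArg Neg.neg (if_congr (hsqorb ψ φ hφ) rfl rfl),
      Finset.sum_const, h.card_orb hψ, nsmul_eq_mul] at h1
    have h2 : ((m (ζ ψ) : ℤ) : ℂ) =
        ((ν (ζ ψ) + if ψ * ψ = 1 then -δ else 0 : ℤ) : ℂ) := by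
      refine mul_left_cancel₀ heq ?_
      split_ifs with hs
      · rw [if_pos hs] at h1
        push_cast at h1 ⊢
        linear_combination h1
      · rw [if_neg hs] at h1
        push_cast at h1 ⊢
        linear_combination h1
    exact_mod_cast h2
  have hreal : ∀ ψ, ψ ≠ 1 → ψ * ψ ≠ 1 → ν (ζ ψ) = 0 := by
    intro ψ hψ hne'
    by_contra hν0
    have hr := (nu_ne_zero_iff (ζ ψ)).1 (by rw [hνe]; exact_mod_cast hν0)
    refine hne' (sq_eq_one_of_real h hodd hψ fun v hv => ?_)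
    have h1 := Complex.conj_eq_iff_im.2 (hr (v : G))
    rw [hvalY ψ hψ _ v (hppart v) (hne hv), map_mul, map_intCast] at h1
    exact mul_left_cancel₀
      (Int.cast_ne_zero.2 (by rcases hδ with rfl | rfl <;> norm_num)) h1
  have hη₂Y : η₂ ∈ Yf := hmY.2 (hζY ψ₂ hψ₂1)
  have hYsum : ∑ η ∈ Yf, (m η : ℤ) = ν η₂ - δ := by
    rw [Finset.sum_eq_single_of_mem η₂ hη₂Y fun η hη hne' => ?_]
    · rw [hη₂, hmYψ ψ₂ hψ₂1, if_pos hψ₂, sub_eq_add_neg]
    obtain ⟨ψ, hψ, rfl⟩ := hζs η (hmY.1 hη)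
    have hs : ψ * ψ ≠ 1 := fun hs => hne' (hζo ψ₂ ψ hψ₂1 (by
      rw [horb2]
      exact Finset.mem_erase.2 ⟨hψ, Finset.mem_filter.2 ⟨Finset.mem_univ _, hs⟩⟩))
    rw [hmYψ ψ hψ, if_neg hs, hreal ψ hψ hs, add_zero]
  -- a cycle through the involutions
  obtain ⟨v₁, hv₁⟩ : ∃ v : Om P, v.1 ≠ 1 := by
    by_contra hcon
    push Not at hcon
    haveI : Subsingleton (Om P) := ⟨fun x y => Subtype.ext ((hcon x).trans (hcon y).symm)⟩
    have := Finite.card_le_one_iff_subsingleton.2 ‹Subsingleton (Om P)›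
    have := he.two_le
    omega
  obtain ⟨γ, hγ1⟩ : ∃ γ : autP P, γ ≠ 1 := by
    by_contra hcon
    push Not at hcon
    haveI : Subsingleton (autP P) := ⟨fun x y => (hcon x).trans (hcon y).symm⟩
    have := Finite.card_le_one_iff_subsingleton.2 ‹Subsingleton (autP P)›
    rw [h.card_autP] at this
    have := he.two_le
    omega
  have hord : orderOf γ = e := by
    have hd : orderOf γ ∣ e := h.card_autP ▸ orderOf_dvd_natCard γ
    exact (he.eq_one_or_self_of_dvd _ hd).resolve_left fun h' => hγ1 (orderOf_eq_one_iff.1 h')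
  have hbound : e + 1 ≤ ∑ χ ∈ Finset.univ.filter (· ∈ Cfsg.principalBlock M G), m χ := by
    refine card_le_sum_mult_omega hM P (fun x hx y hy =>
      congrArg Subtype.val (h.comm.is_comm.comm (⟨x, hx⟩ : (P : Subgroup G)) ⟨y, hy⟩)) he.pos
      (fun i => ((γ ^ i : autP P) : MulAut (P : Subgroup G)) v₁.1)
      (fun i => by rw [← map_mul, v₁.2, map_one])
      (fun i e' => hv₁ ((((γ ^ i : autP P) : MulAut (P : Subgroup G))).injective
        (e'.trans (map_one _).symm)))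
      (fun i => by
        show ((γ ^ (i + e) : autP P) : MulAut (P : Subgroup G)) v₁.1 = _
        rw [pow_add, ← hord, pow_orderOf_eq_one, mul_one])
      (fun i hi j hj e' => ?_) (fun x hx => ?_) m hm
    · exact pow_injOn_Iio_orderOf (by rwa [hord]) (by rwa [hord]) (h.apply_injective hv₁ e')
    · obtain ⟨β, hβ, hβx⟩ := exists_autP (P := P) hx
      obtain ⟨i, hi⟩ := mem_powers_iff_mem_zpowers.2
        (mem_zpowers_of_prime_card (G := autP P) h.card_autP (g := γ) (g' := ⟨β, hβ⟩) hγ1)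
      refine ⟨i, fun k => ?_⟩
      rw [← hβx, show β = ((γ ^ i : autP P) : MulAut (P : Subgroup G)) from
        (congrArg Subtype.val hi).symm, ← MulAut.mul_apply, ← Subgroup.coe_mul, ← pow_add,
        add_comm]
  have hsplit : Finset.univ.filter (· ∈ Cfsg.principalBlock M G) = Xf ∪ Yf := by
    ext χ; simp [hblock χ]
  -- the indicators at a non-square
  obtain ⟨v₀, hv₀⟩ : ∃ v : (P : Subgroup G), ∀ w, w * w ≠ v := by
    by_contra hcon
    push Not at hcon
    have hsurj : Function.Surjective fun w : (P : Subgroup G) => w * w := hcon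
    exact hv₁ (Finite.injective_iff_surjective.2 hsurj
      (show v₁.1 * v₁.1 = 1 * 1 by rw [v₁.2, mul_one]))
  have hv₀1 : v₀ ≠ 1 := fun e' => hv₀ 1 (by rw [e', one_mul])
  have hS : ∑ φ ∈ orb ψ₂, ((φ v₀ : ℂˣ) : ℂ) = -1 := by
    have h1 : ∑ φ ∈ T, ((φ v₀ : ℂˣ) : ℂ) = 0 := by
      convert sum_sq_dual h hv₀
    rw [← Finset.add_sum_erase _ _ h1T, ← horb2, MonoidHom.one_apply, Units.val_one] at h1
    linear_combination h1
  have hνsum : ∑ χ ∈ Xf, ν χ * a χ = δ * ν η₂ := by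
    have h1 := sum_nu_nonsquare h hM hv₀1 hv₀
    rw [hsplit, Finset.sum_union hXfd, Finset.sum_eq_single_of_mem η₂ hη₂Y fun η hη hne' => ?_,
      Finset.sum_congr rfl (g := fun χ => ((ν χ * a χ : ℤ) : ℂ)) fun χ hχ => ?_, hη₂,
      hvalY ψ₂ hψ₂1 _ v₀ (hppart v₀) (hne hv₀1), hS, hνe, ← Int.cast_sum] at h1
    · have h2 : ((∑ χ ∈ Xf, ν χ * a χ : ℤ) : ℂ) = ((δ * ν η₂ : ℤ) : ℂ) := by
        push_cast at h1 ⊢
        linear_combination h1
      exact_mod_cast h2
    · rw [hνe, (hval χ (hmX.1 hχ)).2 _ _ (hppart v₀) v₀.2 (hne hv₀1)]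
      push_cast; rfl
    · obtain ⟨ψ, hψ, rfl⟩ := hζs η (hmY.1 hη)
      have hs : ψ * ψ ≠ 1 := fun hs => hne' (hζo ψ₂ ψ hψ₂1 (by
        rw [horb2]
        exact Finset.mem_erase.2 ⟨hψ, Finset.mem_filter.2 ⟨Finset.mem_univ _, hs⟩⟩))
      rw [hνe, hreal ψ hψ hs, Int.cast_zero, zero_mul]
  -- the signs
  have hmain : ((e : ℤ) + 1) ≤ ∑ χ ∈ Xf, (ν χ + a χ) + (ν η₂ - δ) := by
    rw [hsplit, Finset.sum_union hXfd] at hbound
    have h1 : ((e + 1 : ℕ) : ℤ) ≤ ((∑ χ ∈ Xf, m χ + ∑ χ ∈ Yf, m χ : ℕ) : ℤ) := by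
      exact_mod_cast hbound
    push_cast at h1
    rwa [hYsum, Finset.sum_congr rfl hmX'] at h1
  have hterm : ∀ χ ∈ Xf, 0 ≤ (a χ + ν χ) * (a χ - 1) ∧
      ((a χ + ν χ) * (a χ - 1) = 0 → a χ ^ 2 = 1) := by
    intro χ hχ
    have ha0 := (hval χ (hmX.1 hχ)).1
    refine ⟨?_, fun e' => ?_⟩
    · rcases lt_or_gt_of_ne ha0 with hl | hl
      · exact mul_nonneg_of_nonpos_of_nonpos (by rcases hν3 χ with h' | h' | h' <;> omega) (by omega)
      · exact mul_nonneg (by rcases hν3 χ with h' | h' | h' <;> omega) (by omega)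
    · rcases mul_eq_zero.1 e' with e'' | e''
      · rcases hν3 χ with h' | h' | h' <;> rw [h'] at e''
        · omega
        · rw [show a χ = -1 by omega]; norm_num
        · rw [show a χ = 1 by omega]; norm_num
      · rw [show a χ = 1 by omega]; norm_num
  have hzero : ∑ χ ∈ Xf, (a χ + ν χ) * (a χ - 1) = 0 := by
    refine le_antisymm ?_ (Finset.sum_nonneg fun χ hχ => (hterm χ hχ).1)
    have e1 : ∀ χ, (a χ + ν χ) * (a χ - 1) = a χ ^ 2 + ν χ * a χ - (ν χ + a χ) := fun χ => by ring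
    simp only [e1, Finset.sum_sub_distrib, Finset.sum_add_distrib] at hmain ⊢
    rw [hsq, hνsum]
    rcases hδ with rfl | rfl <;> rcases hν3 η₂ with h' | h' | h' <;> rw [h'] at hmain ⊢ <;> omega
  have hone : ∀ χ ∈ Xf, a χ ^ 2 = 1 := fun χ hχ => (hterm χ hχ).2
    ((Finset.sum_eq_zero_iff_of_nonneg fun χ hχ => (hterm χ hχ).1).1 hzero χ hχ)
  refine ⟨Xf, Yf, a, δ, ζ, ⟨hXfd, hblock, ?_, ?_, htrivf, ha1, hone,
    fun χ hχ => (hval χ (hmX.1 hχ)).2, hδ, fun η hη => ?_, fun ψ hψ => hmY.2 (hζY ψ hψ), hvalY,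
    fun η hη => ?_⟩⟩
  · rw [Finset.sum_congr rfl hone, Finset.sum_const, nsmul_eq_mul, mul_one] at hsq
    exact_mod_cast hsq
  · rw [hn, mul_comm, hYf, ← Nat.card_eq_card_finite_toFinset, hY]
  · obtain ⟨ψ, hψ, rfl⟩ := hζs η (hmY.1 hη)
    refine ⟨ψ, hψ, rfl, Finset.ext fun φ => ?_⟩
    simp only [Finset.mem_filter, Finset.mem_erase]
    exact ⟨fun hφ => hζi ψ φ hψ hφ.1.1 hφ.2,
      fun hφ => ⟨⟨ne_one_of_mem_orb hψ hφ, Finset.mem_univ _⟩, hζo ψ φ hψ hφ⟩⟩
  · have h1 := hlin η (hmY.1 hη) 1 (by rw [orderOf_one]; norm_num)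
    rw [finsum_mem_eq_finite_toFinset_sum _ (Set.toFinite X), ← hXf, Int.cast_zero, mul_zero,
      zero_sub, neg_mul] at h1
    linear_combination (-1 : ℂ) * h1

/-- A non-trivial character of degree one among the non-exceptional ones. -/
theorem exists_linear (hM : Cfsg.IsPModular 2 M) {P : Sylow 2 G} {e : ℕ} (h : Setting P e)
    (hodd : ¬ 2 ∣ e) (he1 : 1 < e) (hOm : Nat.card (Om P) = e + 1)
    (hlt : e + 1 < Nat.card (P : Subgroup G)) [Fintype ((P : Subgroup G) →* ℂˣ)]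
    {Xf Yf : Finset (Cfsg.IrrCharacter G)} {a : Cfsg.IrrCharacter G → ℤ} {δ : ℤ}
    {ζ : ((P : Subgroup G) →* ℂˣ) → Cfsg.IrrCharacter G} (D : TransData P e M Xf Yf a δ ζ) :
    ∃ χ ∈ Xf, χ ≠ trivIrr G ∧ (χ : G → ℂ) 1 = 1 := by
  haveI : Fact (Nat.Prime 2) := ⟨Nat.prime_two⟩
  haveI := Fintype.ofFinite G
  haveI := Fintype.ofFinite (P : Subgroup G)
  haveI := Fintype.ofFinite (autP P)
  haveI := Fintype.ofFinite (Cfsg.IrrCharacter G)
  set q := Nat.card (P : Subgroup G) with hq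
  have hq2 := sq_le_card h hOm hlt
  rw [← hq] at hq2
  choose x hx using fun χ : Cfsg.IrrCharacter G => char_one_nat (irr_isCharacter χ)
  have hx0 : ∀ χ, 1 ≤ x χ := fun χ => Nat.one_le_iff_ne_zero.2 fun e' => by
    have := irr_one_ne_zero χ.2
    rw [hx, e'] at this
    simp at this
  have hppart : ∀ v : (P : Subgroup G), Cfsg.IsPPart 2 (v : G) (v : G) := fun v =>
    isPPart_self Nat.prime_two (exists_orderOf_eq P.2 v)
  -- degrees modulo the order of the Sylow subgroup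
  have hcong : ∀ χ ∈ Xf, (q : ℤ) ∣ (x χ : ℤ) - a χ := by
    intro χ hχ
    obtain ⟨c, hc⟩ := classInner_char_nat (isCharacter_restrict (P : Subgroup G) (irr_isCharacter χ))
      (isCharacter_linear (1 : (P : Subgroup G) →* ℂˣ))
    rw [classInner_def, ← Finset.add_sum_erase _ _ (Finset.mem_univ (1 : (P : Subgroup G))),
      Finset.sum_congr rfl (g := fun _ => (a χ : ℂ)) fun v hv => ?_, Finset.sum_const,
      Finset.card_erase_of_mem (Finset.mem_univ _), Finset.card_univ, ← Nat.card_eq_fintype_card,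
      ← hq, nsmul_eq_mul, inv_mul_eq_iff_eq_mul₀ (Nat.cast_ne_zero.2 Nat.card_pos.ne')] at hc
    · simp only [MonoidHom.one_apply, Units.val_one, map_one, mul_one, OneMemClass.coe_one,
        hx] at hc
      refine ⟨(c : ℤ) - a χ, ?_⟩
      have h2 : ((x χ : ℤ) : ℂ) - (a χ : ℂ) = ((q : ℤ) : ℂ) * (((c : ℤ) : ℂ) - (a χ : ℂ)) := by
        rw [Nat.cast_sub (by omega : 1 ≤ q)] at hc
        push_cast at hc ⊢
        linear_combination hc
      exact_mod_cast h2
    · simp only [MonoidHom.one_apply, Units.val_one, map_one, mul_one]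
      exact D.valueX χ hχ _ _ (hppart v) v.2
        fun e' => (Finset.mem_erase.1 hv).1 (Subtype.ext e')
  set S : ℤ := ∑ χ ∈ Xf, a χ * x χ with hS
  have hScast : (S : ℂ) = ∑ χ ∈ Xf, (a χ : ℂ) * (χ : G → ℂ) 1 := by
    rw [hS]; push_cast; exact Finset.sum_congr rfl fun χ _ => by rw [hx]
  have hSmod : (q : ℤ) ∣ S - e := by
    have he' : (e : ℤ) = ∑ χ ∈ Xf, a χ * a χ := by
      rw [Finset.sum_congr rfl fun χ hχ => (sq (a χ)).symm.trans (D.sq_a χ hχ), Finset.sum_const,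
        D.cardX]
      simp
    rw [hS, he', ← Finset.sum_sub_distrib]
    refine Finset.dvd_sum fun χ hχ => ?_
    rw [← mul_sub]
    exact (hcong χ hχ).mul_left _
  -- the class of an involution against a section of elements of order at least four
  obtain ⟨t, ht, ht1⟩ : ∃ t : (P : Subgroup G), t * t = 1 ∧ t ≠ 1 := by
    by_contra hcon
    push Not at hcon
    haveI : Subsingleton (Om P) :=
      ⟨fun v w => Subtype.ext ((hcon _ v.2).trans (hcon _ w.2).symm)⟩
    have := Finite.card_le_one_iff_subsingleton.2 ‹Subsingleton (Om P)›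
    omega
  obtain ⟨u, hu⟩ : ∃ u : (P : Subgroup G), u * u ≠ 1 := by
    by_contra hcon
    push Not at hcon
    rw [Nat.card_congr (Equiv.subtypeUnivEquiv hcon), ← hq] at hOm
    omega
  have hu1 : u ≠ 1 := fun e' => hu (by rw [e', one_mul])
  have hne : ∀ {v : (P : Subgroup G)}, v ≠ 1 → (v : G) ≠ 1 := fun hv e' => hv (Subtype.ext e')
  set A : ℝ := ∑ χ ∈ Xf, (a χ : ℝ) / (x χ : ℝ) with hA
  have hAS : A * (S : ℝ) = (e : ℝ) ^ 2 := by
    have h0 := blockSum_eq_zero_of_section hM (isPBlock_principal M G) (exists_orderOf_eq P.2 u)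
      (fun χ => (χ : G → ℂ) (t : G) ^ 2 / (χ : G → ℂ) 1) fun g z hz hc =>
        Cfsg.Agent.S4722.involution_section_eq_zero Nat.prime_two
          (congrArg Subtype.val ht : (t : G) * (t : G) = 1)
          (fun g => not_inverted_setting h hodd hu _) hz hc
    have hBf : Finset.univ.filter (· ∈ Cfsg.principalBlock M G) = Xf ∪ Yf := by
      ext χ; simp [D.mem_block χ]
    rw [← Finset.sum_filter, hBf, Finset.sum_union D.disj] at h0
    -- the exceptional part
    set θ : ((P : Subgroup G) →* ℂˣ) → ↥(P : Subgroup G) → ℂ := fun ψ v =>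
      ∑ φ ∈ orb ψ, ((φ v : ℂˣ) : ℂ) with hθ
    set F : Cfsg.IrrCharacter G → ℂ := fun η =>
      (η : G → ℂ) (t : G) ^ 2 / (η : G → ℂ) 1 * (η : G → ℂ) (u : G) with hF
    have hYsum : (e : ℂ) * ∑ η ∈ Yf, F η = ∑ ψ ∈ Finset.univ.erase 1, F (ζ ψ) := by
      rw [Finset.mul_sum, ← Finset.sum_fiberwise_of_maps_to (g := ζ) (t := Yf)
        (s := Finset.univ.erase 1) fun ψ hψ => D.zeta_mem ψ (Finset.mem_erase.1 hψ).1]
      refine Finset.sum_congr rfl fun η hη => ?_
      obtain ⟨ψ, hψ, rfl, hfib⟩ := D.fibre η hη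
      rw [Finset.sum_congr rfl (g := fun _ => F (ζ ψ)) fun φ hφ => by
        rw [(Finset.mem_filter.1 hφ).2], Finset.sum_const, nsmul_eq_mul]
      congr 2
      rw [← h.card_orb hψ, ← hfib]
      congr 1
      ext φ; simp
    have hδ0 : (δ : ℂ) ≠ 0 :=
      Int.cast_ne_zero.2 (by rcases D.sign with h' | h' <;> rw [h'] <;> norm_num)
    have hδ2 : (δ : ℂ) ^ 2 = 1 := by rcases D.sign with h' | h' <;> rw [h'] <;> simp
    have hY0 : ∀ ψ, ψ ≠ 1 → (ζ ψ : G → ℂ) 1 = (δ : ℂ) * S := by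
      intro ψ hψ
      rw [hScast, ← D.degY _ (D.zeta_mem ψ hψ), ← mul_assoc, ← sq, hδ2, one_mul]
    have hS0 : (S : ℂ) ≠ 0 := by
      intro e'
      obtain ⟨ψ, hψ, -⟩ : ∃ ψ : (P : Subgroup G) →* ℂˣ, ψ ≠ 1 ∧ True := by
        obtain ⟨ψ, hψ⟩ := exists_dual_ne_one h.comm hu1
        exact ⟨ψ, fun e'' => hψ (by rw [e'']; rfl), trivial⟩
      exact irr_one_ne_zero (ζ ψ).2 (by rw [hY0 ψ hψ, e', mul_zero])
    have hFζ : ∀ ψ ∈ Finset.univ.erase (1 : (P : Subgroup G) →* ℂˣ),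
        F (ζ ψ) = (θ ψ t ^ 2 * θ ψ u) * (S : ℂ)⁻¹ := by
      intro ψ hψ
      have hψ1 := (Finset.mem_erase.1 hψ).1
      simp only [hF]
      rw [D.valueY ψ hψ1 _ t (hppart t) (hne ht1), D.valueY ψ hψ1 _ u (hppart u) (hne hu1),
        hY0 ψ hψ1]
      show ((δ : ℂ) * θ ψ t) ^ 2 / ((δ : ℂ) * S) * ((δ : ℂ) * θ ψ u) = _
      field_simp
      linear_combination (θ ψ t ^ 2 * θ ψ u) * hδ2
    have hcube : ∑ ψ ∈ Finset.univ.erase (1 : (P : Subgroup G) →* ℂˣ), θ ψ t ^ 2 * θ ψ u =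
        -((e : ℂ) ^ 3) := by convert sum_cube h ht hu
    rw [Finset.sum_congr rfl hFζ, ← Finset.sum_mul, hcube] at hYsum
    rw [Finset.sum_congr rfl (g := fun χ => (((a χ : ℝ) / (x χ : ℝ) : ℝ) : ℂ)) fun χ hχ => ?_,
      ← Complex.ofReal_sum, ← hA] at h0
    · have he0 : (e : ℂ) ≠ 0 := Nat.cast_ne_zero.2 (by omega)
      have h3 : ∑ η ∈ Yf, F η = -((e : ℂ) ^ 2) * (S : ℂ)⁻¹ :=
        mul_left_cancel₀ he0 (by rw [hYsum]; ring)
      change (A : ℂ) + ∑ η ∈ Yf, F η = 0 at h0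
      rw [h3] at h0
      have h4 : ((A * (S : ℝ) : ℝ) : ℂ) = (((e : ℝ) ^ 2 : ℝ) : ℂ) := by
        push_cast
        field_simp at h0
        linear_combination h0
      exact_mod_cast h4
    · simp only [hF]
      rw [D.valueX χ hχ _ _ (hppart t) t.2 (hne ht1), D.valueX χ hχ _ _ (hppart u) u.2 (hne hu1),
        hx, ← Int.cast_pow, D.sq_a χ hχ]
      push_cast
      ring
  -- no room for large degrees
  by_contra hcon
  push Not at hcon
  have hbig : ∀ χ ∈ Xf.erase (trivIrr G), (q : ℝ) - 1 ≤ (x χ : ℝ) := by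
    intro χ hχ
    obtain ⟨hχ1, hχX⟩ := Finset.mem_erase.1 hχ
    have hx1 : x χ ≠ 1 := fun e' => hcon χ hχX hχ1 (by rw [hx, e', Nat.cast_one])
    have hle : (q : ℤ) - 1 ≤ (x χ : ℤ) := by
      obtain ⟨c, hc⟩ := hcong χ hχX
      have hxpos := hx0 χ
      rcases sq_eq_one_iff.1 (D.sq_a χ hχX) with h' | h' <;> rw [h'] at hc
      · have hc1 : 1 ≤ c := by
          by_contra hc0
          have : (q : ℤ) * c ≤ 0 :=
            mul_nonpos_iff.2 (Or.inl ⟨Int.natCast_nonneg q, by omega⟩)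
          omega
        have : (q : ℤ) * 1 ≤ (q : ℤ) * c := mul_le_mul_of_nonneg_left hc1 (Int.natCast_nonneg q)
        omega
      · have hc1 : 1 ≤ c := by
          by_contra hc0
          have : (q : ℤ) * c ≤ 0 :=
            mul_nonpos_iff.2 (Or.inl ⟨Int.natCast_nonneg q, by omega⟩)
          omega
        have : (q : ℤ) * 1 ≤ (q : ℤ) * c := mul_le_mul_of_nonneg_left hc1 (Int.natCast_nonneg q)
        omega
    exact_mod_cast hle
  have hqR : ((e : ℝ) + 1) * ((e : ℝ) + 1) ≤ (q : ℝ) := by exact_mod_cast hq2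
  have heR : (2 : ℝ) ≤ (e : ℝ) := by exact_mod_cast (by omega : 2 ≤ e)
  have hq1 : (0 : ℝ) < (q : ℝ) - 1 := by nlinarith
  have hrest : |∑ χ ∈ Xf.erase (trivIrr G), (a χ : ℝ) / (x χ : ℝ)| ≤
      ((e : ℝ) - 1) / ((q : ℝ) - 1) := by
    refine (Finset.abs_sum_le_sum_abs _ _).trans ((Finset.sum_le_sum
      (g := fun _ => 1 / ((q : ℝ) - 1)) fun χ hχ => ?_).trans ?_)
    · have hb := hbig χ hχ
      rw [abs_div, show |(a χ : ℝ)| = 1 by
        rcases sq_eq_one_iff.1 (D.sq_a χ (Finset.mem_erase.1 hχ).2) with h' | h' <;>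
          rw [h'] <;> simp, Nat.abs_cast]
      exact one_div_le_one_div_of_le hq1 hb
    · rw [Finset.sum_const, Finset.card_erase_of_mem D.triv_mem, D.cardX, nsmul_eq_mul,
        Nat.cast_sub (by omega), Nat.cast_one, mul_one_div]
  have hA1 : A = 1 + ∑ χ ∈ Xf.erase (trivIrr G), (a χ : ℝ) / (x χ : ℝ) := by
    rw [hA, ← Finset.add_sum_erase _ _ D.triv_mem, D.triv_a]
    congr 1
    have h1 : x (trivIrr G) = 1 := by
      have := hx (trivIrr G)
      simp [trivIrr] at this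
      exact_mod_cast this.symm
    simp [h1]
  set ε := ((e : ℝ) - 1) / ((q : ℝ) - 1) with hε
  have hε1 : ε * ((q : ℝ) - 1) = (e : ℝ) - 1 := div_mul_cancel₀ _ hq1.ne'
  have hεle : ε ≤ 1 := by
    rw [hε, div_le_one hq1]; nlinarith
  obtain ⟨hlo, hhi⟩ := abs_le.1 hrest
  have hApos : 0 < A := by
    by_contra h0
    have : 1 - ε ≤ A := by linarith
    have : ε < 1 := by rw [hε, div_lt_one hq1]; nlinarith
    linarith
  have hSlow : (e : ℝ) < (S : ℝ) := by
    by_contra h0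
    push Not at h0
    have h1 : A * (S : ℝ) ≤ A * (e : ℝ) := mul_le_mul_of_nonneg_left h0 hApos.le
    have h2 : A ≤ 2 := by linarith
    have he3 : (3 : ℝ) ≤ (e : ℝ) := by exact_mod_cast (by omega : 3 ≤ e)
    nlinarith [mul_le_mul_of_nonneg_right h2 (by linarith : (0 : ℝ) ≤ (e : ℝ))]
  have hShigh : (S : ℝ) < (e : ℝ) + (q : ℝ) := by
    by_contra h0
    push Not at h0
    have h1 : (1 - ε) * ((e : ℝ) + (q : ℝ)) ≤ A * (S : ℝ) :=
      mul_le_mul (by linarith) h0 (by linarith) hApos.le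
    rw [hAS] at h1
    have h2 := mul_le_mul_of_nonneg_left h1 hq1.le
    have h3 : ((q : ℝ) - 1) * ((1 - ε) * ((e : ℝ) + (q : ℝ))) =
        ((q : ℝ) - e) * ((e : ℝ) + q) := by
      linear_combination (-((e : ℝ) + (q : ℝ))) * hε1
    rw [h3] at h2
    nlinarith
  have hlowZ : (e : ℤ) < S := by exact_mod_cast hSlow
  have hhighZ : S < (e : ℤ) + (q : ℤ) := by exact_mod_cast hShigh
  have := Int.le_of_dvd (by omega) hSmod
  omega

/-- The count and the solvability in the transitive case of exponent at least four. -/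
theorem transitive_case (hM : Cfsg.IsPModular 2 M) {P : Sylow 2 G} {e : ℕ} (h : Setting P e)
    (he : e.Prime) (hodd : ¬ 2 ∣ e) (hOm : Nat.card (Om P) = e + 1)
    (hlt : e + 1 < Nat.card (P : Subgroup G)) :
    Nat.card (Cfsg.principalBlock M G) = e + (Nat.card (P : Subgroup G) - 1) / e ∧
      Group.IsSolvable G := by
  haveI : Fact (Nat.Prime 2) := ⟨Nat.prime_two⟩
  haveI := Fintype.ofFinite G
  haveI := h.comm
  haveI := finite_dual h.comm
  haveI := Fintype.ofFinite ((P : Subgroup G) →* ℂˣ)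
  obtain ⟨Xf, Yf, a, δ, ζ, D⟩ := exists_transData hM h he hodd hOm hlt
  refine ⟨?_, ?_⟩
  · have hc : Nat.card (Cfsg.principalBlock M G) = (Xf ∪ Yf).card := by
      rw [← Nat.card_eq_finsetCard]
      exact Nat.card_congr (Equiv.subtypeEquivRight fun χ => by
        rw [Finset.mem_union]; exact D.mem_block χ)
    rw [hc, Finset.card_union_of_disjoint D.disj, D.cardX, ← D.cardY,
      Nat.mul_div_cancel _ he.pos]
  obtain ⟨χ, hχX, hχne, hχ1⟩ := exists_linear hM h hodd he.one_lt hOm hlt D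
  let lam : G →* ℂ :=
    { toFun := fun g => (χ : G → ℂ) g
      map_one' := hχ1
      map_mul' := char_mul_of_degree_one (irr_isCharacter χ) hχ1 }
  let f : G →* ℂˣ := lam.toHomUnits
  set K := f.ker with hK
  have hmemK : ∀ g, g ∈ K ↔ (χ : G → ℂ) g = 1 := fun g => by
    rw [hK, MonoidHom.mem_ker, Units.ext_iff]
    rfl
  have hppart : ∀ v : (P : Subgroup G), Cfsg.IsPPart 2 (v : G) (v : G) := fun v =>
    isPPart_self Nat.prime_two (exists_orderOf_eq P.2 v)
  obtain ⟨t, ht, ht1⟩ : ∃ t : (P : Subgroup G), t * t = 1 ∧ t ≠ 1 := by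
    by_contra hcon
    push Not at hcon
    haveI : Subsingleton (Om P) :=
      ⟨fun v w => Subtype.ext ((hcon _ v.2).trans (hcon _ w.2).symm)⟩
    have := Finite.card_le_one_iff_subsingleton.2 ‹Subsingleton (Om P)›
    have := he.two_le
    omega
  obtain ⟨u, hu⟩ : ∃ u : (P : Subgroup G), u * u ≠ 1 := by
    by_contra hcon
    push Not at hcon
    rw [Nat.card_congr (Equiv.subtypeUnivEquiv hcon)] at hOm
    omega
  have hne : ∀ {v : (P : Subgroup G)}, v ≠ 1 → (v : G) ≠ 1 := fun hv e' => hv (Subtype.ext e')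
  have hval : ∀ v : (P : Subgroup G), v ≠ 1 → (χ : G → ℂ) v = (a χ : ℂ) := fun v hv =>
    D.valueX χ hχX _ _ (hppart v) v.2 (hne hv)
  have hu1 : u ≠ 1 := fun e' => hu (by rw [e', one_mul])
  have htu : t * u ≠ 1 := fun e' => hu (by
    rw [show u = t⁻¹ from eq_inv_of_mul_eq_one_right e', ← mul_inv_rev, ht, inv_one])
  have ha1 : (a χ : ℂ) = 1 := by
    have h1 : (χ : G → ℂ) ((t : G) * (u : G)) = (χ : G → ℂ) (t : G) * (χ : G → ℂ) (u : G) :=
      char_mul_of_degree_one (irr_isCharacter χ) hχ1 _ _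
    rw [← Subgroup.coe_mul, hval _ htu, hval _ ht1, hval _ hu1] at h1
    exact (mul_eq_left₀ (Int.cast_ne_zero.2 (by
      intro e'
      have := D.sq_a χ hχX
      rw [e'] at this
      norm_num at this))).1 h1.symm
  have hPK : (P : Subgroup G) ≤ K := fun y hy => by
    rw [hmemK]
    by_cases hy1 : y = 1
    · rw [hy1, hχ1]
    · rw [hval ⟨y, hy⟩ fun e' => hy1 (congrArg Subtype.val e'), ha1]
  set C := Subgroup.centralizer ((P : Subgroup G) : Set G) with hCdef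
  have hCK : C ≤ K := by
    intro c hc
    set T := Subgroup.centralizer ({(t : G)} : Set G) with hTdef
    have hcT : c ∈ T := Subgroup.mem_centralizer_singleton_iff.2
      (Subgroup.mem_centralizer_iff.1 hc (t : G) t.2).symm
    obtain ⟨π, hπid, hπ⟩ := exists_retraction h ht1
    set w := π ⟨c, hcT⟩ with hw
    have hwT : (w : G) ∈ T := Subgroup.mem_centralizer_singleton_iff.2
      (congrArg Subtype.val (h.comm.is_comm.comm w t))
    set y : T := (⟨w, hwT⟩ : T)⁻¹ * ⟨c, hcT⟩ with hy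
    have hyo : ¬ 2 ∣ orderOf (y : G) := by
      rw [Subgroup.orderOf_coe, ← hπ, hy, map_mul, map_inv, hπid w, hw, inv_mul_cancel]
    have h2 : (χ : G → ℂ) ((t : G) * (y : G)) = 1 := by
      rw [D.valueX χ hχX _ (t : G) ⟨y, rfl, Subgroup.mem_centralizer_iff.1 y.2 _ rfl,
        exists_orderOf_eq P.2 t, hyo⟩ t.2 (hne ht1), ha1]
    rw [← hmemK] at h2
    have hy' : (y : G) ∈ K := by
      have := mul_mem (inv_mem (hPK t.2)) h2
      rwa [inv_mul_cancel_left] at this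
    have h3 := mul_mem (hPK w.2) hy'
    rwa [hy, Subgroup.coe_mul, Subgroup.coe_inv, mul_inv_cancel_left] at h3
  have hKn : K.Normal := MonoidHom.normal_ker f
  haveI := hKn
  set N := Subgroup.normalizer ((P : Subgroup G) : Set G) with hN
  have hCN : C ≤ N := Subgroup.centralizer_le_normalizer _
  have hNK : ¬ N ≤ K := by
    intro hle
    have hfr := Sylow.normalizer_sup_eq_top (P.subtype hPK)
    rw [show ((P.subtype hPK : Sylow 2 K) : Subgroup K).map K.subtype = (P : Subgroup G) from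
      Subgroup.map_subgroupOf_eq_of_le hPK] at hfr
    have htop : K = ⊤ := by rw [← hfr]; exact (sup_eq_right.2 hle).symm
    refine hχne (Subtype.ext (funext fun g => ?_))
    rw [(hmemK g).1 (htop ▸ Subgroup.mem_top g)]
    rfl
  have hrel : C.relIndex (K ⊓ N) = 1 := by
    have h1 := Subgroup.relIndex_mul_relIndex C (K ⊓ N) N (le_inf hCK hCN) inf_le_right
    rw [h.relIndex] at h1
    rcases he.eq_one_or_self_of_dvd _ ⟨_, h1.symm⟩ with h2 | h2
    · exact h2
    exfalso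
    rw [h2] at h1
    have h3 : (K ⊓ N).relIndex N = 1 :=
      mul_left_cancel₀ he.pos.ne' (by rw [h1, mul_one])
    exact hNK ((Subgroup.relIndex_eq_one.1 h3).trans inf_le_left)
  haveI : Group.IsSolvable K := by
    refine isSolvable_of_complement
      (Cfsg.Agent.Transfer.NormalPComplement.hasNormalPComplement_of_normalizer_le_centralizer
        (P.subtype hPK) fun x hx => ?_)
    have hxN : (x : G) ∈ N := Subgroup.mem_normalizer_iff.2 fun y => by
      constructor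
      · intro hy
        exact (Subgroup.mem_normalizer_iff.1 hx ⟨y, hPK hy⟩).1 hy
      · intro hy
        have hyK : y ∈ K := by
          have := mul_mem (mul_mem (inv_mem x.2) (hPK hy)) x.2
          simpa [mul_assoc] using this
        exact (Subgroup.mem_normalizer_iff.1 hx ⟨y, hyK⟩).2 hy
    have hxC : (x : G) ∈ C := Subgroup.relIndex_eq_one.1 hrel ⟨x.2, hxN⟩
    exact Subgroup.mem_centralizer_iff.2 fun y hy =>
      Subtype.ext (Subgroup.mem_centralizer_iff.1 hxC _ hy)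
  exact Group.isSolvable_of_ker_le_range K.subtype f (by rw [Subgroup.range_subtype])

end Cfsg.Agent.Blocks.FreeTwo
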