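import Mathlib
import Cfsg.Agent.Lib.Blocks.FreeTwo.Cases
import Cfsg.Agent.Lib.Blocks.FreeTwo.Transitive

/-!
# Inertial actions of prime order on abelian Sylow 2-subgroups

A free action of prime order gives as many Brauer characters as its order; without solvability it
is transitive on an elementary abelian group.  The general case reduces to the free one on the
centraliser and on the transfer kernel of the fixed points.
-/

set_option autoImplicit false
set_option linter.style.haveILetI false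
set_option linter.unusedSectionVars false

namespace Cfsg.Agent.Blocks.FreeTwo

open Cfsg.Agent.Blocks Cfsg.Agent.Blocks.Star Cfsg.Agent.Blocks.EightNine
open Cfsg.Agent.Characters Cfsg.Agent.BlockCharsA
open Cfsg.Agent.BlockCharsA.BrauerPairs Cfsg.Agent.BlockCharsA.PairConj
open Cfsg.Agent.BlockCharsA.PairLocal Cfsg.Agent.BlockCharsA.PairFusion
open Cfsg.Agent.BlockCharsA.PairPrincipal
open Cfsg.Agent.BlocksChars.FrobNormalizer

universe u

/-- The free case. -/
theorem free_prime {G : Type u} [Group G] [Finite G] {M : Ideal Cfsg.AlgInt}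
    (hM : Cfsg.IsPModular 2 M) (P : Sylow 2 G)
    (hab : ∀ x ∈ (P : Subgroup G), ∀ y ∈ (P : Subgroup G), x * y = y * x)
    (hP1 : (P : Subgroup G) ≠ ⊥) (hfree : Frees (P : Subgroup G) (prin M (P : Subgroup G)))
    {e : ℕ} (hep : e.Prime)
    (hcard : Nat.card (inertR (P : Subgroup G) (prin M (P : Subgroup G))) = e) :
    Cfsg.blockRank 2 (Cfsg.principalBlock M G) = e ∧
      (¬ Group.IsSolvable G → Nat.card (P : Subgroup G) = e + 1) := by
  classical
  haveI : Fact (Nat.Prime 2) := ⟨Nat.prime_two⟩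
  haveI := Fintype.ofFinite G
  haveI := Fintype.ofFinite (Cfsg.IrrCharacter G)
  have hset : Setting P e := by
    refine ⟨⟨⟨fun a b => Subtype.ext (hab a a.2 b b.2)⟩⟩, by rw [← card_inertR_prin hM, hcard],
      fun y hy hy1 => le_antisymm (fun t ht => ?_) fun t ht => ⟨?_, ?_⟩⟩
    · exact hfree t (by rw [stab_prin hM]; exact ht.2) y hy hy1
        (mul_inv_eq_iff_eq_mul.2 (Subgroup.mem_centralizer_singleton_iff.1 ht.1))
    · exact Subgroup.mem_centralizer_singleton_iff.2 (ht y hy).symm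
    · exact Subgroup.centralizer_le_normalizer _ ht
  obtain ⟨n, hn, hk, -, hle, -⟩ := free_counts hM (isMaximal_prin hM P) hab hP1 hfree
  rw [hcard] at hn hle
  obtain ⟨hodd, r, hr, hr1⟩ := odd_setting hset hP1
  have hd := dvd_omega hset
  by_cases hA : e + 1 < Nat.card (Om P)
  · obtain ⟨hs, hl⟩ := split_case hM hset hP1 hep hA
    exact ⟨le_antisymm hle hl, fun h => absurd hs h⟩
  have h2 : 2 ≤ Nat.card (Om P) := hr ▸ le_self_pow (by norm_num) (by omega)
  have hOm : Nat.card (Om P) = e + 1 := by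
    have := Nat.le_of_dvd (by omega) hd
    omega
  have hleP : Nat.card (Om P) ≤ Nat.card (P : Subgroup G) :=
    Nat.card_le_card_of_injective Subtype.val Subtype.val_injective
  by_cases hB : Nat.card (P : Subgroup G) = e + 1
  · have hall : ∀ v : (P : Subgroup G), v * v = 1 := by
      haveI := Fintype.ofFinite (P : Subgroup G)
      haveI := Fintype.ofFinite (Om P)
      intro v
      have hbij : Function.Bijective (Subtype.val : Om P → (P : Subgroup G)) :=
        (Fintype.bijective_iff_injective_and_card _).2 ⟨Subtype.val_injective, by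
          rw [← Nat.card_eq_fintype_card, ← Nat.card_eq_fintype_card, hOm, hB]⟩
      obtain ⟨w, rfl⟩ := hbij.2 v
      exact w.2
    haveI : Fact e.Prime := ⟨hep⟩
    have hk' := (card_cases hM P (fun x hx => congrArg Subtype.val (hall ⟨x, hx⟩)) hfree
      (isCyclic_of_prime_card hcard) hP1).1 (by rw [hcard, hB]; rfl)
    refine ⟨?_, fun _ => hB⟩
    rw [hB] at hk' hn
    rw [hk'] at hk
    have hn1 : n = 1 := by
      have : 1 * e = n * e := by rw [one_mul, ← hn]; rfl
      exact (Nat.eq_of_mul_eq_mul_right hep.pos this).symm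
    omega
  obtain ⟨hkC, hs⟩ := transitive_case hM hset hep hodd hOm (by omega)
  refine ⟨?_, fun h => absurd hs h⟩
  rw [hn, Nat.mul_div_cancel _ hep.pos, hk] at hkC
  omega

/-- A subgroup generating modulo a normal subgroup has the same relative index. -/
theorem relIndex_eq_of_gen {G : Type u} [Group G] {C N X : Subgroup G} [(C.subgroupOf N).Normal]
    (hX : X ≤ N) (hgen : ∀ n ∈ N, ∃ c ∈ C, c⁻¹ * n ∈ X) (hCN : C ≤ N) :
    C.relIndex X = C.relIndex N := by
  have htop : C.subgroupOf N ⊔ X.subgroupOf N = ⊤ := by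
    refine eq_top_iff.2 fun n _ => ?_
    obtain ⟨c, hc, hcx⟩ := hgen n n.2
    rw [show n = (⟨c, hCN hc⟩ : N) * ((⟨c, hCN hc⟩ : N)⁻¹ * n) by group]
    exact mul_mem (Subgroup.mem_sup_left hc) (Subgroup.mem_sup_right hcx)
  rw [← Subgroup.relIndex_subgroupOf (H := C) hX, ← Subgroup.relIndex_sup_left, htop,
    Subgroup.relIndex_top_right]
  rfl

/-- The transfer kernel of the fixed points. -/
theorem exists_kernel {G : Type u} [Group G] [Finite G] {M : Ideal Cfsg.AlgInt}
    (hM : Cfsg.IsPModular 2 M) (P : Sylow 2 G)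
    (hab : ∀ x ∈ (P : Subgroup G), ∀ y ∈ (P : Subgroup G), x * y = y * x) {F : Subgroup G}
    (hFP : F ≤ (P : Subgroup G))
    (hfix : ∀ t ∈ Subgroup.normalizer ((P : Subgroup G) : Set G), ∀ f ∈ F, t * f * t⁻¹ = f)
    (hmax : ∀ v ∈ (P : Subgroup G),
      (∀ t ∈ Subgroup.normalizer ((P : Subgroup G) : Set G), t * v * t⁻¹ = v) → v ∈ F)
    (hfree : ∀ t ∈ Subgroup.normalizer ((P : Subgroup G) : Set G), ∀ v ∈ (P : Subgroup G), v ∉ F →
      t * v * t⁻¹ = v → t ∈ Subgroup.centralizer ((P : Subgroup G) : Set G))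
    (hne : ¬ (P : Subgroup G) ≤ F) :
    ∃ (K : Subgroup G) (Q : Sylow 2 K),
      Nat.card F * Nat.card (Q : Subgroup K) = Nat.card (P : Subgroup G) ∧
      (∀ x ∈ (Q : Subgroup K), ∀ y ∈ (Q : Subgroup K), x * y = y * x) ∧
      (Q : Subgroup K) ≠ ⊥ ∧
      Frees (Q : Subgroup K) (prin M (Q : Subgroup K)) ∧
      Nat.card (inertR (Q : Subgroup K) (prin M (Q : Subgroup K))) =
        Nat.card (inertR (P : Subgroup G) (prin M (P : Subgroup G))) ∧
      (Group.IsSolvable K → Group.IsSolvable G) := by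
  classical
  haveI : Fact (Nat.Prime 2) := ⟨Nat.prime_two⟩
  haveI := Fintype.ofFinite G
  letI cgP : CommGroup (P : Subgroup G) :=
    { (inferInstance : Group (P : Subgroup G)) with
      mul_comm := fun a b => Subtype.ext (hab a a.2 b b.2) }
  haveI := Fintype.ofFinite (autP P)
  set FP := F.subgroupOf (P : Subgroup G) with hFPdef
  let nrm : (P : Subgroup G) →* (P : Subgroup G) :=
    { toFun := fun v => ∏ γ : autP P, (γ : MulAut (P : Subgroup G)) v
      map_one' := Finset.prod_eq_one fun γ _ => map_one (γ : MulAut (P : Subgroup G))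
      map_mul' := fun a b => by
        rw [← Finset.prod_mul_distrib]
        exact Finset.prod_congr rfl fun γ _ => map_mul (γ : MulAut (P : Subgroup G)) a b }
  have hnrmF : ∀ v, nrm v ∈ FP := by
    intro v
    rw [hFPdef, Subgroup.mem_subgroupOf]
    refine hmax _ (nrm v).2 fun t ht => ?_
    obtain ⟨β, hβ, hβv⟩ := exists_autP (P := P) ht
    rw [← hβv]
    refine congrArg Subtype.val ?_
    show β (∏ γ : autP P, (γ : MulAut (P : Subgroup G)) v) = ∏ γ : autP P, _
    rw [map_prod]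
    exact Fintype.prod_equiv (Equiv.mulLeft ⟨β, hβ⟩) _ _ fun γ => rfl
  let φ : (P : Subgroup G) →* FP := nrm.codRestrict FP hnrmF
  let τ : G →* FP := MonoidHom.transfer φ
  set e := Fintype.card (autP P) with he
  have hecard : e = Nat.card (inertR (P : Subgroup G) (prin M (P : Subgroup G))) := by
    rw [he, ← Nat.card_eq_fintype_card, card_inertR_prin hM, autP, ← Subgroup.index_ker,
      Subgroup.normalizerMonoidHom_ker]
    rfl
  have hτF : ∀ f : G, f ∈ F → ((τ f : (P : Subgroup G)) : G) = f ^ (e * (P : Subgroup G).index) := by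
    intro f hf
    have key : ∀ (k : ℕ) (g₀ : G), g₀⁻¹ * f ^ k * g₀ ∈ (P : Subgroup G) →
        g₀⁻¹ * f ^ k * g₀ = f ^ k := by
      intro k g₀ hk
      have hfk : f ^ k ∈ F := pow_mem hf k
      obtain ⟨x, hx, hxa, -⟩ := exists_normalizer_pair P hab (g := g₀⁻¹) (a := f ^ k) (b := f ^ k)
        (hFP hfk) (hFP hfk) (by rwa [inv_inv]) (by rwa [inv_inv])
      rw [inv_inv, hfix x hx _ hfk] at hxa
      exact hxa.symm
    show ((MonoidHom.transfer φ f : (P : Subgroup G)) : G) = _
    rw [MonoidHom.transfer_eq_pow φ f key]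
    show ((∏ γ : autP P, (γ : MulAut (P : Subgroup G)) _ : (P : Subgroup G)) : G) = _
    rw [Finset.prod_congr rfl (g := fun _ => (⟨f ^ (P : Subgroup G).index,
      hFP (pow_mem hf _)⟩ : (P : Subgroup G))) fun γ _ => ?_, Finset.prod_const,
      Finset.card_univ, ← he, SubgroupClass.coe_pow, ← pow_mul, mul_comm]
    obtain ⟨t, ht, htv⟩ := autP_apply γ.2
    exact Subtype.ext ((htv _).trans (hfix t ht _ (pow_mem hf _)))
  have hodd : ¬ 2 ∣ e * (P : Subgroup G).index := by
    rw [Nat.Prime.dvd_mul Nat.prime_two, not_or, hecard]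
    exact ⟨odd_inertR hM P hab, P.not_dvd_index⟩
  have hinjF : ∀ f ∈ F, τ f = 1 → f = 1 := by
    intro f hf h1
    have h2 := hτF f hf
    rw [h1] at h2
    obtain ⟨k, hk⟩ := IsPGroup.iff_card.1 P.2
    rw [← orderOf_eq_one_iff]
    refine Nat.eq_one_of_dvd_coprimes ((Nat.prime_two.coprime_iff_not_dvd.2 hodd).pow_left k) ?_
      (orderOf_dvd_of_pow_eq_one h2.symm)
    rw [← Subgroup.orderOf_mk _ (hFP hf), ← hk]
    exact orderOf_dvd_natCard _
  haveI := Fintype.ofFinite FP
  have hsurj : ∀ z : FP, ∃ f ∈ F, τ f = z := by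
    let τF : FP →* FP := τ.comp ((P : Subgroup G).subtype.comp FP.subtype)
    have hinj : Function.Injective τF := by
      rw [← τF.ker_eq_bot_iff, Subgroup.eq_bot_iff_forall]
      intro z hz
      exact Subtype.ext (Subtype.ext (hinjF _ z.2 hz))
    intro z
    obtain ⟨w, hw⟩ := Finite.injective_iff_surjective.1 hinj z
    exact ⟨_, w.2, hw⟩
  set K := τ.ker with hK
  haveI hKn : K.Normal := MonoidHom.normal_ker τ
  have hgen : ∀ g : G, ∃ f ∈ F, f⁻¹ * g ∈ K := by
    intro g
    obtain ⟨f, hf, hfg⟩ := hsurj (τ g)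
    exact ⟨f, hf, by rw [hK, MonoidHom.mem_ker, map_mul, map_inv, hfg, inv_mul_cancel]⟩
  set Q₀ := (P : Subgroup G).subgroupOf K with hQ₀
  let τP : (P : Subgroup G) →* FP := τ.comp (P : Subgroup G).subtype
  have hτPs : Function.Surjective τP := fun z => by
    obtain ⟨f, hf, hfz⟩ := hsurj z
    exact ⟨⟨f, hFP hf⟩, hfz⟩
  have hcard : Nat.card F * Nat.card Q₀ = Nat.card (P : Subgroup G) := by
    rw [Subgroup.card_eq_card_quotient_mul_card_subgroup τP.ker,
      Nat.card_congr (QuotientGroup.quotientKerEquivOfSurjective τP hτPs).toEquiv,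
      ← Nat.card_congr (Subgroup.subgroupOfEquivOfLe hFP).toEquiv]
    congr 1
    exact Nat.card_congr
      { toFun := fun y => ⟨⟨((y : K) : G), y.2⟩, (y : K).2⟩
        invFun := fun w => ⟨⟨((w : (P : Subgroup G)) : G), w.2⟩, (w : (P : Subgroup G)).2⟩
        left_inv := fun _ => rfl
        right_inv := fun _ => rfl }
  have hidxK : K.index = Nat.card F := by
    rw [hK, Subgroup.index_ker, MonoidHom.range_eq_top.2 fun z => by
      obtain ⟨f, -, hfz⟩ := hsurj z; exact ⟨f, hfz⟩, Subgroup.card_top,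
      Nat.card_congr (Subgroup.subgroupOfEquivOfLe hFP).toEquiv]
  -- the Sylow subgroup of the kernel
  obtain ⟨S⟩ : Nonempty (Sylow 2 K) := Sylow.nonempty
  have hcardQ : Nat.card Q₀ = 2 ^ (Nat.card K).factorization 2 := by
    have h1 : Nat.card (P : Subgroup G) = 2 ^ (Nat.card G).factorization 2 := P.card_eq_multiplicity
    obtain ⟨j, hj⟩ := IsPGroup.iff_card.1 (P.2.to_le hFP)
    rw [← K.card_mul_index, hidxK, Nat.factorization_mul Nat.card_pos.ne' Nat.card_pos.ne',
      Finsupp.add_apply, pow_add, hj, Nat.factorization_pow_self Nat.prime_two, ← hj, ← hcard,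
      mul_comm] at h1
    exact Nat.eq_of_mul_eq_mul_right Nat.card_pos h1
  set Q : Sylow 2 K := Sylow.ofCard Q₀ hcardQ with hQ
  have hQc : (Q : Subgroup K) = Q₀ := Sylow.coe_ofCard _ _
  -- the image in the group
  set QG : Subgroup G := (P : Subgroup G) ⊓ K with hQG
  have hmemQ : ∀ y : K, y ∈ (Q : Subgroup K) ↔ (y : G) ∈ (P : Subgroup G) := fun y => by
    rw [hQc]; rfl
  have hQFree : ∀ v ∈ QG, v ≠ 1 → v ∉ F := fun v hv hv1 hvF => hv1 (hinjF v hvF hv.2)
  obtain ⟨v₀, hv₀, hv₀1⟩ : ∃ v ∈ QG, v ≠ 1 := by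
    by_contra hcon
    push Not at hcon
    refine hne fun v hv => ?_
    obtain ⟨f, hf, hfv⟩ := hgen v
    have := hcon _ (Subgroup.mem_inf.2 ⟨mul_mem (inv_mem (hFP hf)) hv, hfv⟩ : f⁻¹ * v ∈ QG)
    rw [inv_mul_eq_one] at this
    exact this ▸ hf
  set CQ := Subgroup.centralizer (QG : Set G) with hCQ
  set NQ := Subgroup.normalizer (QG : Set G) with hNQ
  have hPCQ : (P : Subgroup G) ≤ CQ := fun x hx =>
    Subgroup.mem_centralizer_iff.2 fun y hy => hab y hy.1 x hx
  have hFCQ : F ≤ CQ := hFP.trans hPCQ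
  have hNPQ : Subgroup.normalizer ((P : Subgroup G) : Set G) ≤ NQ := by
    intro t ht
    rw [hNQ, Subgroup.mem_normalizer_iff]
    intro y
    refine ⟨fun hy => ⟨(Subgroup.mem_normalizer_iff.1 ht y).1 hy.1, hKn.conj_mem y hy.2 t⟩,
      fun hy => ⟨(Subgroup.mem_normalizer_iff.1 ht y).2 hy.1, ?_⟩⟩
    have := hKn.conj_mem _ hy.2 t⁻¹
    simpa [mul_assoc] using this
  -- the normaliser of the intersection
  have hdec : ∀ t ∈ NQ, ∃ c ∈ CQ, c⁻¹ * t ∈ Subgroup.normalizer ((P : Subgroup G) : Set G) := by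
    intro t ht
    have hle : ((t • P : Sylow 2 G) : Subgroup G) ≤ CQ := by
      intro x hx
      rw [Sylow.coe_subgroup_smul, Subgroup.mem_pointwise_smul_iff_inv_smul_mem] at hx
      have hx' : t⁻¹ * x * t ∈ (P : Subgroup G) := by simpa [MulAut.smul_def] using hx
      refine Subgroup.mem_centralizer_iff.2 fun y hy => ?_
      have hy' : t⁻¹ * y * t ∈ QG := (Subgroup.mem_normalizer_iff''.1 ht y).1 hy
      have h := Subgroup.mem_centralizer_iff.1 (hPCQ hx') _ hy'
      calc y * x = t * ((t⁻¹ * y * t) * (t⁻¹ * x * t)) * t⁻¹ := by group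
        _ = x * y := by rw [h]; group
    obtain ⟨c, hc⟩ := MulAction.exists_smul_eq CQ ((t • P : Sylow 2 G).subtype hle)
      (P.subtype hPCQ)
    simp_rw [Sylow.smul_subtype, Subgroup.smul_def, smul_smul] at hc
    exact ⟨(c : G)⁻¹, inv_mem c.2, by
      rw [inv_inv]; exact Sylow.smul_eq_iff_mem_normalizer.1 (Sylow.subtype_injective hc)⟩
  have hfreeQ : ∀ t ∈ NQ, ∀ v ∈ QG, v ≠ 1 → t * v * t⁻¹ = v → t ∈ CQ := by
    intro t ht v hv hv1 htv
    obtain ⟨c, hc, hn⟩ := hdec t ht
    have hnv : c⁻¹ * t * v * (c⁻¹ * t)⁻¹ = v := by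
      rw [show c⁻¹ * t * v * (c⁻¹ * t)⁻¹ = c⁻¹ * (t * v * t⁻¹) * c by group, htv, mul_assoc,
        hc v hv, inv_mul_cancel_left]
    have h := hfree _ hn v hv.1 (hQFree v hv hv1) hnv
    have h2 := mul_mem hc (Subgroup.centralizer_le (inf_le_left : QG ≤ (P : Subgroup G)) h)
    rwa [mul_inv_cancel_left] at h2
  haveI : (CQ.subgroupOf NQ).Normal := by
    rw [hCQ, ← Subgroup.normalizerMonoidHom_ker]
    exact MonoidHom.normal_ker _
  have hCNQ : CQ ≤ NQ := Subgroup.centralizer_le_normalizer _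
  have hrel : CQ.relIndex (K ⊓ NQ) = e := by
    rw [relIndex_eq_of_gen inf_le_right (fun t ht => ?_) hCNQ,
      ← relIndex_eq_of_gen hNPQ hdec hCNQ, hecard, card_inertR_prin hM, ← Subgroup.inf_relIndex_right,
      ← Subgroup.inf_relIndex_right (Subgroup.centralizer ((P : Subgroup G) : Set G))]
    · congr 1
      refine le_antisymm (fun t ht => ⟨?_, ht.2⟩) (fun t ht => ⟨?_, ht.2⟩)
      rotate_left
      · refine hfree t ht.2 v₀ hv₀.1 (hQFree v₀ hv₀ hv₀1) ?_
        rw [← Subgroup.mem_centralizer_iff.1 ht.1 v₀ hv₀, mul_inv_cancel_right]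
      · exact Subgroup.centralizer_le (inf_le_left : QG ≤ (P : Subgroup G)) ht.1
    · obtain ⟨f, hf, hfk⟩ := hgen t
      exact ⟨f, hFCQ hf, Subgroup.mem_inf.2 ⟨hfk, mul_mem (inv_mem (hCNQ (hFCQ hf))) ht⟩⟩
  have hNsub : Subgroup.normalizer ((Q : Subgroup K) : Set K) = NQ.subgroupOf K := by
    ext y
    rw [Subgroup.mem_subgroupOf, hNQ, Subgroup.mem_normalizer_iff, Subgroup.mem_normalizer_iff]
    constructor
    · intro h z
      constructor
      · intro hz
        exact ⟨(hmemQ _).1 ((h ⟨z, hz.2⟩).1 ((hmemQ _).2 hz.1)), hKn.conj_mem z hz.2 y⟩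
      · intro hz
        have hzK : z ∈ K := by
          have := mul_mem (mul_mem (inv_mem y.2) hz.2) y.2
          simpa [mul_assoc] using this
        exact ⟨(hmemQ _).1 ((h ⟨z, hzK⟩).2 ((hmemQ _).2 hz.1)), hzK⟩
    · intro h z
      rw [hmemQ, hmemQ]
      exact ⟨fun hz => ((h (z : G)).1 ⟨hz, z.2⟩).1, fun hz => ((h (z : G)).2
        ⟨hz, (y * z * y⁻¹ : K).2⟩).1⟩
  have hCsub : Subgroup.centralizer ((Q : Subgroup K) : Set K) = CQ.subgroupOf K := by
    ext y
    rw [Subgroup.mem_subgroupOf, hCQ, Subgroup.mem_centralizer_iff, Subgroup.mem_centralizer_iff]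
    exact ⟨fun h z hz => congrArg Subtype.val (h ⟨z, hz.2⟩ ((hmemQ _).2 hz.1)),
      fun h z hz => Subtype.ext (h z ⟨(hmemQ _).1 hz, z.2⟩)⟩
  refine ⟨K, Q, ?_, fun a ha b hb => Subtype.ext (hab a ((hmemQ a).1 ha) b ((hmemQ b).1 hb)),
    fun hbot => hv₀1 ?_, ?_, ?_, fun hs => ?_⟩
  · rw [hQc]; exact hcard
  · have h1 : (⟨v₀, hv₀.2⟩ : K) ∈ (Q : Subgroup K) := (hmemQ _).2 hv₀.1
    rw [hbot, Subgroup.mem_bot] at h1
    exact congrArg Subtype.val h1
  · intro t ht v hv hv1 htv
    rw [stab_prin hM, hNsub] at ht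
    rw [hCsub]
    exact hfreeQ t ht v ⟨(hmemQ v).1 hv, v.2⟩ (fun h => hv1 (Subtype.ext h))
      (congrArg Subtype.val htv)
  · rw [card_inertR_prin hM, ← hecard, hCsub, hNsub, Subgroup.subgroupOf, Subgroup.relIndex_comap,
      show (NQ.subgroupOf K).map K.subtype = K ⊓ NQ by
        rw [Subgroup.subgroupOf_map_subtype, inf_comm], hrel]
  · haveI := hs
    exact Group.isSolvable_of_ker_le_range K.subtype τ (by rw [Subgroup.range_subtype])

/-- The rank, and the count outside solvable groups. -/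
theorem prime_inertial {G : Type u} [Group G] [Finite G] {M : Ideal Cfsg.AlgInt}
    (hM : Cfsg.IsPModular 2 M) (P : Sylow 2 G)
    (hab : ∀ x ∈ (P : Subgroup G), ∀ y ∈ (P : Subgroup G), x * y = y * x)
    (hep : (Nat.card (inertR (P : Subgroup G) (prin M (P : Subgroup G)))).Prime) :
    Cfsg.blockRank 2 (Cfsg.principalBlock M G) =
        Nat.card (inertR (P : Subgroup G) (prin M (P : Subgroup G))) ∧
      (¬ Group.IsSolvable G →
        Nat.card (Cfsg.principalBlock M G) = Nat.card (P : Subgroup G)) := by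
  classical
  haveI : Fact (Nat.Prime 2) := ⟨Nat.prime_two⟩
  haveI := Fintype.ofFinite G
  set R := inertR (P : Subgroup G) (prin M (P : Subgroup G)) with hR
  set e := Nat.card R with he
  haveI : Fact e.Prime := ⟨hep⟩
  let F : Subgroup G :=
    { carrier := {f | f ∈ (P : Subgroup G) ∧
        ∀ t ∈ Subgroup.normalizer ((P : Subgroup G) : Set G), t * f * t⁻¹ = f}
      one_mem' := ⟨one_mem _, fun t _ => by simp⟩
      mul_mem' := fun {a b} ha hb => ⟨mul_mem ha.1 hb.1, fun t ht => by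
        rw [show t * (a * b) * t⁻¹ = t * a * t⁻¹ * (t * b * t⁻¹) by group, ha.2 t ht, hb.2 t ht]⟩
      inv_mem' := fun {a} ha => ⟨inv_mem ha.1, fun t ht => by
        rw [show t * a⁻¹ * t⁻¹ = (t * a * t⁻¹)⁻¹ by group, ha.2 t ht]⟩ }
  have hFP : F ≤ (P : Subgroup G) := fun f hf => hf.1
  have hfix : ∀ t ∈ Subgroup.normalizer ((P : Subgroup G) : Set G), ∀ f ∈ F, t * f * t⁻¹ = f :=
    fun t ht f hf => hf.2 t ht
  have hfree : ∀ t ∈ Subgroup.normalizer ((P : Subgroup G) : Set G), ∀ v ∈ (P : Subgroup G),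
      v ∉ F → t * v * t⁻¹ = v → t ∈ Subgroup.centralizer ((P : Subgroup G) : Set G) := by
    intro t ht v hv hvF htv
    have hts : t ∈ stab (P : Subgroup G) (prin M (P : Subgroup G)) := by rw [stab_prin hM]; exact ht
    refine mem_centralizer_of_inertAct hts ?_
    by_contra hne
    refine hvF ⟨hv, fun s hs => ?_⟩
    have hss : s ∈ stab (P : Subgroup G) (prin M (P : Subgroup G)) := by rw [stab_prin hM]; exact hs
    obtain ⟨i, hi⟩ := (mem_powers_iff_mem_zpowers.2 (mem_zpowers_of_prime_card (G := R) rfl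
      (g' := ⟨_, inertAct_mem hss⟩) (g := ⟨_, inertAct_mem hts⟩)
      fun h => hne (congrArg Subtype.val h)))
    have hpow : ∀ j : ℕ, ((inertAct (P : Subgroup G) (prin M (P : Subgroup G)) ⟨t, hts⟩) ^ j)
        (⟨v, hv⟩ : (P : Subgroup G)) = ⟨v, hv⟩ := by
      intro j
      induction j with
      | zero => rfl
      | succ j ih => rw [pow_succ, MulAut.mul_apply, show inertAct (P : Subgroup G)
          (prin M (P : Subgroup G)) ⟨t, hts⟩ (⟨v, hv⟩ : (P : Subgroup G)) = ⟨v, hv⟩ from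
            Subtype.ext htv, ih]
    have hi' := congrArg Subtype.val hi
    simp only [SubgroupClass.coe_pow] at hi'
    have h2 := hpow i
    rw [hi'] at h2
    exact congrArg Subtype.val h2
  have hne : ¬ (P : Subgroup G) ≤ F := by
    intro hle
    refine hep.ne_one ?_
    rw [he, hR, card_inertR_prin hM, Subgroup.relIndex_eq_one]
    exact fun t ht y hy => (mul_inv_eq_iff_eq_mul.1 ((hle hy).2 t ht)).symm
  -- the rank
  obtain ⟨H, _, _, Q, hc, habQ, hfrQ, heQ, hrk⟩ := exists_free_quotient hM P hab hFP hfix hfree hne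
  have hQ1 : (Q : Subgroup H) ≠ ⊥ := fun hbot => hne (by
    rw [hbot, Subgroup.card_bot, mul_one] at hc
    rw [eq_of_le_of_card_le hFP hc.ge])
  have hlH := (free_prime hM Q habQ hQ1 hfrQ hep (heQ.trans rfl)).1
  have hl : Cfsg.blockRank 2 (Cfsg.principalBlock M G) = e := by
    rw [← lv_one hM (isMaximal_prin hM P), OneMemClass.coe_one,
      lv_fixed hM P hab hFP hfix (one_mem F), hrk, hlH]
  refine ⟨hl, fun hns => ?_⟩
  obtain ⟨K, Q', hcK, habK, hQ'1, hfrK, heK, hsK⟩ :=
    exists_kernel hM P hab hFP hfix (fun v hv h => ⟨hv, h⟩) hfree hne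
  have hqK := (free_prime hM Q' habK hQ'1 hfrK hep (heK.trans rfl)).2 fun h => hns (hsK h)
  rw [hqK] at hcK
  rw [card_eq_fixed hM P hab hFP hfix hfree (n := Nat.card F) (by rw [← hR, ← he, ← hcK]; ring),
    hrk, hlH, ← hcK]
  ring

end Cfsg.Agent.Blocks.FreeTwo
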